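import Cfsg.Agent.Lib.RootSub.RankOne

/-!
Quadratic pairs: the additive families of square-zero endomorphisms, minimal elements, root subgroups.
-/

namespace Cfsg.Agent.Lib.QuadPair

open Cfsg.Agent.Lib.RootSub

variable {k : Type*} [Field k] {M : Type*} [AddCommGroup M] [Module k M]

local notation "GLM" => LinearMap.GeneralLinearGroup k M
local notation "ND" => M →ₗ[k] M

/-- `1 + a` as a unit when `a² = 0`. -/
noncomputable def uni (a : ND) : GLM :=
  open Classical in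
  if h : a * a = 0 then
    ⟨1 + a, 1 - a, by simp [mul_sub, add_mul, h], by simp [sub_mul, mul_add, h]⟩
  else 1

theorem coe_uni {a : ND} (h : a * a = 0) : ((uni a : GLM) : ND) = 1 + a := by simp [uni, h]

theorem coe_uni_inv {a : ND} (h : a * a = 0) : (((uni a : GLM)⁻¹ : GLM) : ND) = 1 - a := by
  simp [uni, h]

theorem eq_uni_iff {g : GLM} {a : ND} (h : a * a = 0) : g = uni a ↔ (g : ND) - 1 = a := by
  rw [Units.ext_iff, coe_uni h, sub_eq_iff_eq_add']

theorem uni_zero : (uni (0 : ND) : GLM) = 1 := by ext1; rw [coe_uni (by simp)]; simp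

theorem uni_mul {a b : ND} (ha : a * a = 0) (hb : b * b = 0) (hab : a * b = 0) (hba : b * a = 0) :
    (uni a * uni b : GLM) = uni (a + b) := by
  ext1
  rw [Units.val_mul, coe_uni ha, coe_uni hb,
    coe_uni (by simp [add_mul, mul_add, ha, hb, hab, hba])]
  simp [add_mul, mul_add, hab, add_assoc]

theorem uni_inv {a : ND} (ha : a * a = 0) : (uni a : GLM)⁻¹ = uni (-a) := by
  ext1
  rw [coe_uni_inv ha, coe_uni (by simp [ha]), sub_eq_add_neg]

theorem uni_inj {a b : ND} (ha : a * a = 0) (hb : b * b = 0) (h : (uni a : GLM) = uni b) : a = b := by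
  have := congrArg (fun g : GLM => (g : ND)) h
  simpa [coe_uni ha, coe_uni hb] using this

theorem conj_uni {a : ND} (ha : a * a = 0) (g : GLM) :
    g * uni a * g⁻¹ = uni ((g : ND) * a * ((g⁻¹ : GLM) : ND)) := by
  have h : ((g⁻¹ : GLM) : ND) * (g : ND) = 1 := Units.inv_mul g
  ext1
  rw [coe_uni]
  · simp [coe_uni ha, mul_add, add_mul, mul_assoc]
  · calc (g : ND) * a * ((g⁻¹ : GLM) : ND) * ((g : ND) * a * ((g⁻¹ : GLM) : ND))
        = (g : ND) * (a * (((g⁻¹ : GLM) : ND) * (g : ND)) * a) * ((g⁻¹ : GLM) : ND) := by noncomm_ring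
      _ = 0 := by rw [h]; simp [ha]

/-- The square-zero endomorphisms whose scalar family lies in `G`. -/
def InL (G : Subgroup GLM) (a : ND) : Prop :=
  a * a = 0 ∧ ∀ c : k, uni (c • a) ∈ G

variable {G : Subgroup (LinearMap.GeneralLinearGroup k M)} {a b : M →ₗ[k] M}

theorem smul_sq (h : a * a = 0) (c : k) : (c • a) * (c • a) = 0 := by simp [h]

theorem InL.uni_mem (h : InL G a) : uni a ∈ G := by simpa using h.2 1

theorem InL.zero : InL G (0 : M →ₗ[k] M) := ⟨by simp, fun c => by simp [uni_zero, G.one_mem]⟩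

theorem InL.smul (h : InL G a) (c : k) : InL G (c • a) :=
  ⟨smul_sq h.1 c, fun c' => by rw [smul_smul]; exact h.2 _⟩

theorem InL.neg (h : InL G a) : InL G (-a) := by simpa using h.smul (-1 : k)

theorem InL.add (ha : InL G a) (hb : InL G b) (hab : a * b = 0) (hba : b * a = 0) :
    InL G (a + b) := by
  refine ⟨by simp [add_mul, mul_add, ha.1, hb.1, hab, hba], fun c => ?_⟩
  rw [smul_add, ← uni_mul (smul_sq ha.1 c) (smul_sq hb.1 c) (by simp [hab]) (by simp [hba])]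
  exact G.mul_mem (ha.2 c) (hb.2 c)

theorem InL.sub (ha : InL G a) (hb : InL G b) (hab : a * b = 0) (hba : b * a = 0) :
    InL G (a - b) := by
  rw [sub_eq_add_neg]; exact ha.add hb.neg (by simp [hab]) (by simp [hba])

theorem InL.conj {g : LinearMap.GeneralLinearGroup k M} (hg : g ∈ G) (h : InL G a) :
    InL G ((g : M →ₗ[k] M) * a * ((g⁻¹ : LinearMap.GeneralLinearGroup k M) : M →ₗ[k] M)) := by
  have hi : ((g⁻¹ : GLM) : ND) * (g : ND) = 1 := Units.inv_mul g
  refine ⟨?_, fun c => ?_⟩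
  · calc (g : ND) * a * ((g⁻¹ : GLM) : ND) * ((g : ND) * a * ((g⁻¹ : GLM) : ND))
        = (g : ND) * (a * (((g⁻¹ : GLM) : ND) * (g : ND)) * a) * ((g⁻¹ : GLM) : ND) := by noncomm_ring
      _ = 0 := by rw [hi]; simp [h.1]
  · rw [← smul_mul_assoc, ← mul_smul_comm, ← conj_uni (smul_sq h.1 c)]
    exact G.mul_mem (G.mul_mem hg (h.2 c)) (G.inv_mem hg)

theorem scalarFamily_eq {σ : LinearMap.GeneralLinearGroup k M}
    (h : ((σ : M →ₗ[k] M) - 1) * ((σ : M →ₗ[k] M) - 1) = 0) :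
    Cfsg.scalarFamily σ = Set.range fun c : k => uni (c • ((σ : M →ₗ[k] M) - 1)) := by
  ext τ
  refine ⟨fun ⟨c, hc⟩ => ⟨c, ?_⟩, ?_⟩
  · ext1; rw [hc]; exact coe_uni (smul_sq h c)
  · rintro ⟨c, rfl⟩
    exact ⟨c, coe_uni (smul_sq h c)⟩

theorem mem_quadraticElements_iff {σ : LinearMap.GeneralLinearGroup k M} :
    σ ∈ Cfsg.quadraticElements G ↔ InL G ((σ : M →ₗ[k] M) - 1) ∧ (σ : M →ₗ[k] M) - 1 ≠ 0 := by
  constructor
  · rintro ⟨-, ⟨h, h0⟩, hs⟩
    rw [scalarFamily_eq h] at hs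
    exact ⟨⟨h, fun c => hs ⟨c, rfl⟩⟩, h0⟩
  · rintro ⟨h, h0⟩
    refine ⟨?_, ⟨h.1, h0⟩, ?_⟩
    · have : σ = uni ((σ : ND) - 1) := (eq_uni_iff h.1).mpr rfl
      rw [this]
      exact h.uni_mem
    · rw [scalarFamily_eq h.1]
      rintro _ ⟨c, rfl⟩
      exact h.2 c

/-- `a` has the least positive rank. -/
def IsMin (G : Subgroup GLM) (a : ND) : Prop :=
  InL G a ∧ a ≠ 0 ∧ ∀ b, InL G b → b ≠ 0 →
    Module.finrank k (LinearMap.range a) ≤ Module.finrank k (LinearMap.range b)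

theorem mem_minimal_iff {σ : LinearMap.GeneralLinearGroup k M} :
    σ ∈ Cfsg.minimalQuadraticElements G ↔ IsMin G ((σ : M →ₗ[k] M) - 1) := by
  constructor
  · rintro ⟨hσ, hmin⟩
    obtain ⟨h, h0⟩ := mem_quadraticElements_iff.mp hσ
    refine ⟨h, h0, fun b hb hb0 => ?_⟩
    have hmem : uni b ∈ Cfsg.quadraticElements G :=
      mem_quadraticElements_iff.mpr (by rw [coe_uni hb.1, add_sub_cancel_left]; exact ⟨hb, hb0⟩)
    have := hmin _ hmem
    rw [Cfsg.commutatorRank, Cfsg.commutatorRank, coe_uni hb.1, add_sub_cancel_left] at this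
    exact this
  · rintro ⟨h, h0, hmin⟩
    refine ⟨mem_quadraticElements_iff.mpr ⟨h, h0⟩, fun τ hτ => ?_⟩
    obtain ⟨hb, hb0⟩ := mem_quadraticElements_iff.mp hτ
    exact hmin _ hb hb0

theorem IsMin.eq_zero_of_lt (ha : IsMin G a) (hb : InL G b)
    (h : Module.finrank k (LinearMap.range b) < Module.finrank k (LinearMap.range a)) : b = 0 := by
  by_contra h0
  exact absurd (ha.2.2 b hb h0) (not_le.mpr h)

theorem range_le_ker (h : a * a = 0) : LinearMap.range a ≤ LinearMap.ker a := by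
  rintro _ ⟨v, rfl⟩
  exact DFunLike.congr_fun h v

theorem IsMin.range_ne_bot (ha : IsMin G a) : LinearMap.range a ≠ ⊥ := fun e =>
  ha.2.1 (LinearMap.range_eq_bot.mp e)

variable (G) in
/-- The members of the family with range in `R` and `K` in the kernel. -/
def fam (R K : Submodule k M) : Set (M →ₗ[k] M) :=
  {a | InL G a ∧ LinearMap.range a ≤ R ∧ K ≤ LinearMap.ker a}

variable {R K : Submodule k M}

theorem mul_eq_zero_of_le (h : R ≤ K) (ha : K ≤ LinearMap.ker a) (hb : LinearMap.range b ≤ R) :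
    a * b = 0 := by
  ext v
  exact ha (h (hb ⟨v, rfl⟩))

theorem fam_mul (h : R ≤ K) (ha : a ∈ fam G R K) (hb : b ∈ fam G R K) : a * b = 0 :=
  mul_eq_zero_of_le h ha.2.2 hb.2.1

theorem fam_zero : (0 : M →ₗ[k] M) ∈ fam G R K := ⟨InL.zero, by simp, by simp⟩

theorem fam_smul (ha : a ∈ fam G R K) (c : k) : c • a ∈ fam G R K := by
  refine ⟨ha.1.smul c, ?_, ?_⟩
  · rintro _ ⟨v, rfl⟩
    exact R.smul_mem c (ha.2.1 ⟨v, rfl⟩)
  · intro v hv
    have : a v = 0 := ha.2.2 hv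
    simp [this]

theorem fam_neg (ha : a ∈ fam G R K) : -a ∈ fam G R K := by simpa using fam_smul ha (-1 : k)

theorem fam_add (h : R ≤ K) (ha : a ∈ fam G R K) (hb : b ∈ fam G R K) : a + b ∈ fam G R K := by
  refine ⟨ha.1.add hb.1 (fam_mul h ha hb) (fam_mul h hb ha), ?_, ?_⟩
  · rintro _ ⟨v, rfl⟩
    exact R.add_mem (ha.2.1 ⟨v, rfl⟩) (hb.2.1 ⟨v, rfl⟩)
  · intro v hv
    have h1 : a v = 0 := ha.2.2 hv
    have h2 : b v = 0 := hb.2.2 hv
    simp [h1, h2]

variable (G) in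
/-- The family as a subspace. -/
def famSub (h : R ≤ K) : Submodule k (M →ₗ[k] M) where
  carrier := fam G R K
  zero_mem' := fam_zero
  add_mem' := fam_add h
  smul_mem' c _ ha := fam_smul ha c

/-- The root subgroup attached to two subspaces. -/
noncomputable def grp (G : Subgroup GLM) (R K : Submodule k M) : Subgroup GLM :=
  Subgroup.closure (uni '' fam G R K)

theorem mem_grp_iff (h : R ≤ K) {g : LinearMap.GeneralLinearGroup k M} :
    g ∈ grp G R K ↔ ∃ a ∈ fam G R K, g = uni a := by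
  refine ⟨fun hg => ?_, fun ⟨a, ha, e⟩ => e ▸ Subgroup.subset_closure ⟨a, ha, rfl⟩⟩
  unfold grp at hg
  induction hg using Subgroup.closure_induction with
  | mem x hx => obtain ⟨a, ha, rfl⟩ := hx; exact ⟨a, ha, rfl⟩
  | one => exact ⟨0, fam_zero, uni_zero.symm⟩
  | mul x y _ _ hx hy =>
    obtain ⟨a, ha, rfl⟩ := hx
    obtain ⟨b, hb, rfl⟩ := hy
    exact ⟨a + b, fam_add h ha hb, uni_mul ha.1.1 hb.1.1 (fam_mul h ha hb) (fam_mul h hb ha)⟩
  | inv x _ hx =>
    obtain ⟨a, ha, rfl⟩ := hx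
    exact ⟨-a, fam_neg ha, uni_inv ha.1.1⟩

theorem uni_mem_grp (ha : a ∈ fam G R K) : uni a ∈ grp G R K :=
  Subgroup.subset_closure ⟨a, ha, rfl⟩

theorem grp_le : grp G R K ≤ G := by
  rw [grp, Subgroup.closure_le]
  rintro _ ⟨a, ha, rfl⟩
  exact ha.1.uni_mem

theorem grp_comm (h : R ≤ K) {x y : LinearMap.GeneralLinearGroup k M} (hx : x ∈ grp G R K)
    (hy : y ∈ grp G R K) : x * y = y * x := by
  obtain ⟨a, ha, rfl⟩ := (mem_grp_iff h).mp hx
  obtain ⟨b, hb, rfl⟩ := (mem_grp_iff h).mp hy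
  rw [uni_mul ha.1.1 hb.1.1 (fam_mul h ha hb) (fam_mul h hb ha),
    uni_mul hb.1.1 ha.1.1 (fam_mul h hb ha) (fam_mul h ha hb), add_comm]

theorem isMulCommutative_grp (h : R ≤ K) : IsMulCommutative (grp G R K) :=
  ⟨⟨fun x y => Subtype.ext (grp_comm h x.2 y.2)⟩⟩

section FiniteDim

variable [FiniteDimensional k M]

/-- A non-zero member of the family of a minimal element has the same two subspaces. -/
theorem IsMin.spaces (ha : IsMin G a) (hb : b ∈ fam G (LinearMap.range a) (LinearMap.ker a))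
    (hb0 : b ≠ 0) :
    IsMin G b ∧ LinearMap.range b = LinearMap.range a ∧ LinearMap.ker b = LinearMap.ker a := by
  have hr : LinearMap.range b = LinearMap.range a :=
    Submodule.eq_of_le_of_finrank_le hb.2.1 (ha.2.2 b hb.1 hb0)
  refine ⟨⟨hb.1, hb0, fun c hc hc0 => hr.symm ▸ ha.2.2 c hc hc0⟩, hr, ?_⟩
  refine (Submodule.eq_of_le_of_finrank_le hb.2.2 ?_).symm
  have h1 := LinearMap.finrank_range_add_finrank_ker a
  have h2 := LinearMap.finrank_range_add_finrank_ker b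
  rw [hr] at h2
  omega

theorem sameActionClass_eq {σ : LinearMap.GeneralLinearGroup k M}
    (hσ : IsMin G ((σ : M →ₗ[k] M) - 1)) :
    Cfsg.sameActionClass G σ = uni '' {b | b ∈ fam G (LinearMap.range ((σ : M →ₗ[k] M) - 1))
      (LinearMap.ker ((σ : M →ₗ[k] M) - 1)) ∧ b ≠ 0} := by
  ext τ
  constructor
  · rintro ⟨hτ, hk, hr⟩
    have hm := mem_minimal_iff.mp hτ
    exact ⟨_, ⟨⟨hm.1, hr.le, hk.ge⟩, hm.2.1⟩, ((eq_uni_iff hm.1.1).mpr rfl).symm⟩
  · rintro ⟨b, ⟨hb, hb0⟩, rfl⟩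
    obtain ⟨hm, hr, hk⟩ := hσ.spaces hb hb0
    refine ⟨mem_minimal_iff.mpr ?_, ?_, ?_⟩ <;> rw [coe_uni hm.1.1, add_sub_cancel_left]
    exacts [hm, hk, hr]

theorem sameActionSubgroup_eq {σ : LinearMap.GeneralLinearGroup k M}
    (hσ : IsMin G ((σ : M →ₗ[k] M) - 1)) :
    Cfsg.sameActionSubgroup G σ = grp G (LinearMap.range ((σ : M →ₗ[k] M) - 1))
      (LinearMap.ker ((σ : M →ₗ[k] M) - 1)) := by
  rw [Cfsg.sameActionSubgroup, sameActionClass_eq hσ, grp]
  refine le_antisymm (Subgroup.closure_mono (Set.image_mono fun b hb => hb.1)) ?_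
  rw [Subgroup.closure_le]
  rintro _ ⟨b, hb, rfl⟩
  by_cases h0 : b = 0
  · rw [h0, uni_zero]; exact Subgroup.one_mem _
  · exact Subgroup.subset_closure ⟨b, ⟨hb, h0⟩, rfl⟩

/-- The member of the set of root subgroups belonging to `a`. -/
noncomputable def root (G : Subgroup GLM) (a : ND) : Subgroup GLM :=
  grp G (LinearMap.range a) (LinearMap.ker a)

theorem quadraticRootSubgroups_eq :
    Cfsg.quadraticRootSubgroups G = {A | ∃ a, IsMin G a ∧ A = root G a} := by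
  ext A
  constructor
  · rintro ⟨σ, hσ, rfl⟩
    exact ⟨_, mem_minimal_iff.mp hσ, sameActionSubgroup_eq (mem_minimal_iff.mp hσ)⟩
  · rintro ⟨a, ha, rfl⟩
    have hm : uni a ∈ Cfsg.minimalQuadraticElements G :=
      mem_minimal_iff.mpr (by rwa [coe_uni ha.1.1, add_sub_cancel_left])
    refine ⟨_, hm, ?_⟩
    rw [sameActionSubgroup_eq (mem_minimal_iff.mp hm), coe_uni ha.1.1, add_sub_cancel_left, root]

theorem mem_root_iff (ha : IsMin G a) {g : LinearMap.GeneralLinearGroup k M} :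
    g ∈ root G a ↔ ∃ b ∈ fam G (LinearMap.range a) (LinearMap.ker a), g = uni b :=
  mem_grp_iff (range_le_ker ha.1.1)

theorem self_mem_fam (ha : InL G a) : a ∈ fam G (LinearMap.range a) (LinearMap.ker a) :=
  ⟨ha, le_rfl, le_rfl⟩

theorem uni_mem_root (ha : InL G a) (c : k) : uni (c • a) ∈ root G a :=
  uni_mem_grp (fam_smul (self_mem_fam ha) c)

theorem root_ne_bot (ha : IsMin G a) : root G a ≠ ⊥ := by
  intro e
  have h := uni_mem_root ha.1 (1 : k)
  rw [e, Subgroup.mem_bot, one_smul, ← uni_zero] at h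
  exact ha.2.1 (uni_inj ha.1.1 (by simp) h)

theorem IsMin.conj (ha : IsMin G a) {g : LinearMap.GeneralLinearGroup k M} (hg : g ∈ G) :
    IsMin G ((g : M →ₗ[k] M) * a * ((g⁻¹ : LinearMap.GeneralLinearGroup k M) : M →ₗ[k] M)) := by
  refine ⟨ha.1.conj hg, fun e => ha.2.1 ?_, fun b hb hb0 => le_trans ?_ (ha.2.2 b hb hb0)⟩
  · have := congrArg (fun x => ((g⁻¹ : GLM) : ND) * x * (g : ND)) e
    simpa [← mul_assoc, mul_assoc _ ((g⁻¹ : GLM) : ND) (g : ND)] using this
  · rw [show LinearMap.range ((g : ND) * a * ((g⁻¹ : GLM) : ND)) =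
        (LinearMap.range (a * ((g⁻¹ : GLM) : ND))).map (g : ND) by
      rw [mul_assoc]; exact LinearMap.range_comp _ _]
    exact (Submodule.finrank_map_le _ _).trans (Submodule.finrank_mono (LinearMap.range_comp_le_range _ _))

theorem range_conj (g : LinearMap.GeneralLinearGroup k M) (a : M →ₗ[k] M) :
    LinearMap.range ((g : M →ₗ[k] M) * a * ((g⁻¹ : LinearMap.GeneralLinearGroup k M) : M →ₗ[k] M)) =
      (LinearMap.range a).map (g : M →ₗ[k] M) := by
  ext v
  constructor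
  · rintro ⟨w, rfl⟩
    exact ⟨_, ⟨((g⁻¹ : GLM) : ND) w, rfl⟩, rfl⟩
  · rintro ⟨_, ⟨w, rfl⟩, rfl⟩
    refine ⟨(g : ND) w, ?_⟩
    simp [Module.End.mul_apply, ← Module.End.mul_apply ((g⁻¹ : GLM) : ND) (g : ND)]

theorem ker_conj (g : LinearMap.GeneralLinearGroup k M) (a : M →ₗ[k] M) :
    LinearMap.ker ((g : M →ₗ[k] M) * a * ((g⁻¹ : LinearMap.GeneralLinearGroup k M) : M →ₗ[k] M)) =
      (LinearMap.ker a).map (g : M →ₗ[k] M) := by
  ext v
  constructor
  · intro hv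
    refine ⟨((g⁻¹ : GLM) : ND) v, ?_, by simp [← Module.End.mul_apply]⟩
    have := congrArg ((g⁻¹ : GLM) : ND) (LinearMap.mem_ker.mp hv)
    rw [SetLike.mem_coe, LinearMap.mem_ker]
    simpa [← Module.End.mul_apply, ← mul_assoc] using this
  · rintro ⟨w, hw, rfl⟩
    rw [SetLike.mem_coe, LinearMap.mem_ker] at hw
    simp [LinearMap.mem_ker, Module.End.mul_apply, ← Module.End.mul_apply ((g⁻¹ : GLM) : ND) (g : ND), hw]

/-- Conjugating a root subgroup. -/
theorem conjBy_root {g : LinearMap.GeneralLinearGroup k M} (hg : g ∈ G) (a : M →ₗ[k] M) :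
    Cfsg.conjBy (root G a) g =
      root G ((g : M →ₗ[k] M) * a * ((g⁻¹ : LinearMap.GeneralLinearGroup k M) : M →ₗ[k] M)) := by
  have key : ∀ g ∈ G, ∀ a : M →ₗ[k] M, Cfsg.conjBy (root G a) g ≤
      root G ((g : M →ₗ[k] M) * a * ((g⁻¹ : LinearMap.GeneralLinearGroup k M) : M →ₗ[k] M)) := by
    intro g hg a
    rw [root, grp, Cfsg.conjBy, MonoidHom.map_closure, Subgroup.closure_le]
    rintro _ ⟨_, ⟨b, hb, rfl⟩, rfl⟩
    rw [SetLike.mem_coe, MulEquiv.coe_toMonoidHom, MulAut.conj_apply, conj_uni hb.1.1]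
    refine uni_mem_grp ⟨hb.1.conj hg, ?_, ?_⟩
    · rw [range_conj, range_conj]; exact Submodule.map_mono hb.2.1
    · rw [ker_conj, ker_conj]; exact Submodule.map_mono hb.2.2
  refine le_antisymm (key g hg a) ?_
  have h := conjBy_mono (key g⁻¹ (inv_mem hg)
    ((g : M →ₗ[k] M) * a * ((g⁻¹ : LinearMap.GeneralLinearGroup k M) : M →ₗ[k] M))) g
  rw [conjBy_conjBy, mul_inv_cancel, conjBy_one] at h
  convert h using 3
  simp [← mul_assoc]

end FiniteDim

end Cfsg.Agent.Lib.QuadPair
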