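import Cfsg.Agent.Lib.QuadPair.Pairs

/-!
The commutator case and the trichotomy for two root subgroups of a quadratic pair.
-/

namespace Cfsg.Agent.Lib.QuadPair

open Cfsg.Agent.Lib.RootSub
open scoped commutatorElement

section Group

variable {X : Type*} [Group X]

theorem commutator_sup_le {E F D : Subgroup X} (hE : ∀ x ∈ E, ∀ y ∈ E, x * y = y * x)
    (hF : ∀ x ∈ F, ∀ y ∈ F, x * y = y * x) (hEF : ⁅E, F⁆ ≤ D)
    (hcent : ∀ x ∈ E ⊔ F, ∀ d ∈ D, x * d = d * x) : ⁅E ⊔ F, E ⊔ F⁆ ≤ D := by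
  have hgen : ∀ g, g ∈ E ∨ g ∈ F → ∀ x ∈ E ⊔ F, ⁅x, g⁆ ∈ D := by
    intro g hg x hx
    rw [Subgroup.sup_eq_closure] at hx
    induction hx using Subgroup.closure_induction'' with
    | mem x hx =>
      rcases hx with hx | hx <;> rcases hg with hg | hg
      · rw [commutatorElement_eq_one_iff_mul_comm.mpr (hE x hx g hg)]; exact one_mem _
      · exact hEF (Subgroup.commutator_mem_commutator hx hg)
      · exact hEF (Subgroup.commutator_comm E F ▸ Subgroup.commutator_mem_commutator hx hg)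
      · rw [commutatorElement_eq_one_iff_mul_comm.mpr (hF x hx g hg)]; exact one_mem _
    | inv_mem x hx =>
      rcases hx with hx | hx <;> rcases hg with hg | hg
      · rw [commutatorElement_eq_one_iff_mul_comm.mpr (hE x⁻¹ (inv_mem hx) g hg)]; exact one_mem _
      · exact hEF (Subgroup.commutator_mem_commutator (inv_mem hx) hg)
      · exact hEF (Subgroup.commutator_comm E F ▸ Subgroup.commutator_mem_commutator (inv_mem hx) hg)
      · rw [commutatorElement_eq_one_iff_mul_comm.mpr (hF x⁻¹ (inv_mem hx) g hg)]; exact one_mem _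
    | one => simp
    | mul x y hx' hy' hx hy =>
      have e : ⁅x * y, g⁆ = x * ⁅y, g⁆ * x⁻¹ * ⁅x, g⁆ := by simp only [commutatorElement_def]; group
      rw [e, hcent x (by rwa [Subgroup.sup_eq_closure]) _ hy, mul_inv_cancel_right]
      exact mul_mem hy hx
  refine Subgroup.commutator_le.mpr fun x hx y hy => ?_
  have hy0 := hy
  rw [Subgroup.sup_eq_closure] at hy
  induction hy using Subgroup.closure_induction'' with
  | mem y hy => exact hgen y hy x hx
  | inv_mem y hy => exact hgen y⁻¹ (hy.imp inv_mem inv_mem) x hx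
  | one => simp
  | mul y z hy' hz' ihy ihz =>
    have hy1 : y ∈ E ⊔ F := by rw [Subgroup.sup_eq_closure]; exact hy'
    have e : ⁅x, y * z⁆ = ⁅x, y⁆ * (y * ⁅x, z⁆ * y⁻¹) := by simp only [commutatorElement_def]; group
    have hz1 : z ∈ E ⊔ F := by rw [Subgroup.sup_eq_closure]; exact hz'
    rw [e, hcent y hy1 _ (ihz hz1), mul_inv_cancel_right]
    exact mul_mem (ihy hy1) (ihz hz1)

end Group

variable {k : Type*} [Field k] {M : Type*} [AddCommGroup M] [Module k M] [FiniteDimensional k M]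
variable {G : Subgroup (LinearMap.GeneralLinearGroup k M)} {a b : M →ₗ[k] M}

local notation "GLM" => LinearMap.GeneralLinearGroup k M
local notation "ND" => M →ₗ[k] M

omit [FiniteDimensional k M] in
theorem commutator_uni (haa : a * a = 0) (hbb : b * b = 0) (hab : a * b * a = 0) (hba : b * a * b = 0) :
    (a * b - b * a) * (a * b - b * a) = 0 ∧ ⁅(uni a : GLM), uni b⁆ = uni (a * b - b * a) := by
  have h1 : a * (b * a) = 0 := by rw [← mul_assoc]; exact hab
  have h2 : b * (a * b) = 0 := by rw [← mul_assoc]; exact hba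
  have hsq : (a * b - b * a) * (a * b - b * a) = 0 := by
    have e : (a * b - b * a) * (a * b - b * a) =
      a * (b * (a * b)) - a * (b * b) * a - b * (a * a) * b + b * (a * (b * a)) := by noncomm_ring
    rw [e, h1, h2, haa, hbb]; simp
  refine ⟨hsq, ?_⟩
  ext1
  rw [commutatorElement_def, Units.val_mul, Units.val_mul, Units.val_mul, coe_uni haa, coe_uni hbb,
    coe_uni_inv haa, coe_uni_inv hbb, coe_uni hsq]
  have e : (1 + a) * (1 + b) * (1 - a) * (1 - b) = 1 + (a * b - b * a) + a * a * (b - 1) + b * a * b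
      - a * b * a + a * (b * (a * b)) + (1 + a) * b * b * (-1) := by noncomm_ring
  rw [e, haa, hba, hab, h2, mul_assoc (1 + a), hbb]
  simp

theorem commute_uni_iff (haa : a * a = 0) (hbb : b * b = 0) :
    (uni a * uni b : GLM) = uni b * uni a ↔ a * b = b * a := by
  rw [Units.ext_iff, Units.val_mul, Units.val_mul, coe_uni haa, coe_uni hbb]
  constructor
  · intro e
    have e' : (1 + a) * (1 + b) - (1 + b) * (1 + a) = a * b - b * a := by noncomm_ring
    rw [e, sub_self] at e'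
    exact sub_eq_zero.mp e'.symm
  · intro e
    simp only [mul_add, add_mul, mul_one, one_mul, e]
    abel

theorem Skew.not_opp (ha : IsMin G a) (hs : Skew a b) : ¬ Opp a b := by
  rintro ⟨e1, e2⟩
  have := hs.2
  rw [e1, e2, finrank_bot] at this
  exact ha.range_ne_bot (Submodule.finrank_eq_zero.mp this.symm)

theorem IsMin.skew_of_mem (ha : IsMin G a) (hb : IsMin G b) {a' b' : M →ₗ[k] M}
    (ha' : a' ∈ fam G (LinearMap.range a) (LinearMap.ker a)) (ha0 : a' ≠ 0)
    (hb' : b' ∈ fam G (LinearMap.range b) (LinearMap.ker b)) (hb0 : b' ≠ 0) :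
    (Skew a' b' ↔ Skew a b) ∧ brR a' b' = brR a b ∧ brK a' b' = brK a b := by
  obtain ⟨-, h1, h2⟩ := ha.spaces ha' ha0
  obtain ⟨-, h3, h4⟩ := hb.spaces hb' hb0
  unfold Skew brR brK
  rw [h1, h2, h3, h4]
  exact ⟨Iff.rfl, rfl, rfl⟩

/-- The facts on a pair in the commutator case. -/
structure Br (G : Subgroup GLM) (a b : ND) : Prop where
  skew : Skew a b
  min : IsMin G (b * a - a * b)
  range_eq : LinearMap.range (b * a - a * b) = brR a b
  ker_eq : LinearMap.ker (b * a - a * b) = brK a b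

theorem Br.mk' (h2 : (2 : k) ≠ 0) (h3 : Nat.card k ≠ 3) (ha : IsMin G a) (hb : IsMin G b) (hs : Skew a b) :
    Br G a b := by
  obtain ⟨t1, t2⟩ := triple_of_not_opp h2 h3 ha hb (hs.not_opp ha)
  obtain ⟨-, h, hr, hk, -⟩ := skew_of_ne ha hb t1 t2 (ne_of_skew ha hb hs)
  exact ⟨hs, h, hr, hk⟩

theorem br_mem (h2 : (2 : k) ≠ 0) (h3 : Nat.card k ≠ 3) (ha : IsMin G a) (hb : IsMin G b) (hs : Br G a b)
    {a' b' : M →ₗ[k] M} (ha' : a' ∈ fam G (LinearMap.range a) (LinearMap.ker a))
    (hb' : b' ∈ fam G (LinearMap.range b) (LinearMap.ker b)) :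
    (a' * b' - b' * a' ∈ fam G (LinearMap.range (b * a - a * b)) (LinearMap.ker (b * a - a * b))) ∧
      (a' ≠ 0 → b' ≠ 0 → a' * b' - b' * a' ≠ 0) ∧ ⁅(uni a' : GLM), uni b'⁆ = uni (a' * b' - b' * a') := by
  obtain ⟨t1, t2⟩ := triple_of_mem h2 h3 ha hb (hs.skew.not_opp ha) ha' hb'
  have hne : a' ≠ 0 → b' ≠ 0 → a' * b' ≠ b' * a' := fun ha0 hb0 =>
    ne_of_skew (ha.spaces ha' ha0).1 (hb.spaces hb' hb0).1 ((ha.skew_of_mem hb ha' ha0 hb' hb0).1.mpr hs.skew)
  refine ⟨?_, fun ha0 hb0 e => hne ha0 hb0 (sub_eq_zero.mp e), (commutator_uni ha'.1.1 hb'.1.1 t1 t2).2⟩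
  by_cases hc : a' * b' = b' * a'
  · rw [hc, sub_self]; exact fam_zero
  have ha0 : a' ≠ 0 := fun e => hc (by simp [e])
  have hb0 : b' ≠ 0 := fun e => hc (by simp [e])
  obtain ⟨-, hw, hr, hk, -⟩ := skew_of_ne (ha.spaces ha' ha0).1 (hb.spaces hb' hb0).1 t1 t2 hc
  obtain ⟨-, e1, e2⟩ := ha.skew_of_mem hb ha' ha0 hb' hb0
  have hmem := fam_neg (self_mem_fam hw.1)
  rwa [hr, hk, e1, e2, neg_sub, ← hs.range_eq, ← hs.ker_eq] at hmem

theorem Br.symm (ha : IsMin G a) (hb : IsMin G b) (h : Br G a b) : Br G b a := by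
  have e : a * b - b * a = -(b * a - a * b) := (neg_sub _ _).symm
  refine ⟨⟨inf_comm (LinearMap.range a) _ ▸ h.skew.1, ?_⟩, ?_, ?_, ?_⟩
  · rw [add_comm, h.skew.2, ha.finrank_eq hb]
  · rw [e]; exact ⟨h.min.1.neg, neg_ne_zero.mpr h.min.2.1, by rw [LinearMap.range_neg]; exact h.min.2.2⟩
  · rw [e, LinearMap.range_neg, h.range_eq, brR_comm]
  · rw [e, LinearMap.ker_neg, h.ker_eq, brK_comm]

theorem conj_uni_fix {w : M →ₗ[k] M} (hbb : b * b = 0) (h1 : w * b = 0) (h2 : b * w = 0) :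
    ((uni b : GLM) : ND) * w * (((uni b : GLM)⁻¹ : GLM) : ND) = w := by
  rw [coe_uni hbb, coe_uni_inv hbb, add_mul, h2, one_mul, add_zero, mul_sub, mul_one, h1, sub_zero]

theorem exists_common_opp (h2 : (2 : k) ≠ 0) (h3 : Nat.card k ≠ 3) (hG : Amb G)
    (ha : IsMin G a) (hb : IsMin G b) (hs : Br G a b) :
    ∃ q, IsMin G q ∧ Opp a q ∧ Opp (b * a - a * b) q := by
  obtain ⟨t1, t2⟩ := triple_of_not_opp h2 h3 ha hb (hs.skew.not_opp ha)
  obtain ⟨g, hg, hopp⟩ := exists_opp_conj h2 h3 hG hs.min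
  set q := (g : ND) * (b * a - a * b) * ((g⁻¹ : GLM) : ND) with hq
  have hqm : IsMin G q := hs.min.conj hg
  set w := b * a - a * b with hw
  have hwb : w * b = 0 := by rw [hw, sub_mul, mul_assoc a, hb.1.1, mul_zero, t2, sub_zero]
  have hbw : b * w = 0 := by rw [hw, mul_sub, ← mul_assoc, hb.1.1, zero_mul, ← mul_assoc, t2, sub_zero]
  have hx : ∀ x : k, (uni (x • b) : GLM) ∈ G := hb.1.2
  let qx : k → ND := fun x => ((uni (x • b) : GLM) : ND) * q * (((uni (x • b) : GLM)⁻¹ : GLM) : ND)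
  have hex : ∃ x : k, Opp a (qx x) := by
    by_contra hno
    push Not at hno
    have hz : ∀ x : k, a * q * a + x • (a * b * q * a - a * q * b * a) - (x * x) • (a * b * q * b * a) = 0 := by
      intro x
      have e := (triple_of_not_opp h2 h3 ha (hqm.conj (hx x)) (hno x)).1
      rw [coe_uni (smul_sq hb.1.1 x), coe_uni_inv (smul_sq hb.1.1 x)] at e
      have e' : a * ((1 + x • b) * q * (1 - x • b)) * a =
          a * q * a + x • (a * b * q * a - a * q * b * a) - (x * x) • (a * b * q * b * a) := by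
        simp only [add_mul, mul_add, mul_sub, sub_mul, one_mul, mul_one, smul_mul_assoc, mul_smul_comm, smul_sub, smul_add,
          smul_smul, mul_assoc]
        abel
      rw [← e', e]
    have h0 : a * q * a = 0 := by simpa using hz 0
    have p1 := hz 1
    have m1 := hz (-1)
    simp only [h0, zero_add, one_smul, mul_one, one_mul, neg_smul, neg_mul_neg] at p1 m1
    have p : a * b * q * a - a * q * b * a = 0 := by
      have : (2 : k) • (a * b * q * a - a * q * b * a) = 0 := by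
        rw [two_smul]
        calc _ = ((a * b * q * a - a * q * b * a) - a * b * q * b * a) -
              (-(a * b * q * a - a * q * b * a) - a * b * q * b * a) := by abel
          _ = 0 := by rw [p1, m1, sub_zero]
      exact (smul_eq_zero.mp this).resolve_left h2
    have hc : a * b * q * b * a = 0 := by rw [p, zero_sub, neg_eq_zero] at p1; exact p1
    rw [sub_eq_zero] at p
    have hwqw : w * q * w = 0 := by
      have e : w * q * w = b * (a * q * b * a) - b * (a * q * a) * b - a * b * q * b * a + (a * b * q * a) * b := by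
        rw [hw]; noncomm_ring
      rw [e, h0, hc, p]
      have e1 : b * (a * q * b * a) = b * (a * b * q * a) := by rw [p]
      rw [e1, show b * (a * b * q * a) = (b * a * b) * q * a by noncomm_ring, t2,
        show a * q * b * a * b = a * q * (b * a * b) by noncomm_ring, t2]
      simp
    obtain ⟨_, ⟨u, rfl⟩, hv0⟩ := Submodule.exists_mem_ne_zero_of_ne_bot hs.min.range_ne_bot
    exact hv0 (hopp.injective ⟨u, rfl⟩ (DFunLike.congr_fun hwqw u))
  obtain ⟨x, hopp'⟩ := hex
  have hw' : Opp w (qx x) := by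
    have := hopp.conj (g := uni (x • b))
    rwa [conj_uni_fix (smul_sq hb.1.1 x) (by rw [mul_smul_comm, hwb, smul_zero])
      (by rw [smul_mul_assoc, hbw, smul_zero])] at this
  exact ⟨qx x, hqm.conj (hx x), hopp', hw'⟩

theorem famDim_le_br (h2 : (2 : k) ≠ 0) (h3 : Nat.card k ≠ 3) (hG : Amb G)
    (ha : IsMin G a) (hb : IsMin G b) (hs : Br G a b) : famDim ha = famDim hs.min := by
  obtain ⟨q, hq, h1, h1'⟩ := exists_common_opp h2 h3 hG ha hb hs
  exact (h1.famDim_eq h2 h3 ha hq).trans (h1'.famDim_eq h2 h3 hs.min hq).symm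

theorem famDim_congr (ha : IsMin G a) (hb : IsMin G b) (e : root G a = root G b) : famDim ha = famDim hb :=
  le_antisymm (famDim_le_of_conjBy ha hb (g := 1) (by rw [conjBy_one, e]))
    (famDim_le_of_conjBy hb ha (g := 1) (by rw [conjBy_one, e]))

/-- For a fixed non-zero member, the bracket is onto. -/
theorem br_surj (h2 : (2 : k) ≠ 0) (h3 : Nat.card k ≠ 3) (hG : Amb G)
    (ha : IsMin G a) (hb : IsMin G b) (hs : Br G a b)
    {a' : M →ₗ[k] M} (ha' : a' ∈ fam G (LinearMap.range a) (LinearMap.ker a)) (ha0 : a' ≠ 0)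
    {d : M →ₗ[k] M} (hd : d ∈ fam G (LinearMap.range (b * a - a * b)) (LinearMap.ker (b * a - a * b))) :
    ∃ b' ∈ fam G (LinearMap.range b) (LinearMap.ker b), d = a' * b' - b' * a' := by
  have hdim : famDim hb = famDim hs.min := by
    rw [famDim_le_br h2 h3 hG hb ha (hs.symm ha hb)]
    refine famDim_congr _ _ ?_
    rw [show a * b - b * a = -(b * a - a * b) from (neg_sub _ _).symm]
    exact root_congr (LinearMap.range_neg _) (LinearMap.ker_neg _)
  let L : famSub (G := G) (range_le_ker hb.1.1) →ₗ[k] famSub (G := G) (range_le_ker hs.min.1.1) :=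
    LinearMap.codRestrict _ (((LinearMap.mulLeft k a') - (LinearMap.mulRight k a')).comp
      (famSub (G := G) (range_le_ker hb.1.1)).subtype) fun x => (br_mem h2 h3 ha hb hs ha' x.2).1
  have hinj : Function.Injective L := by
    rw [← LinearMap.ker_eq_bot, eq_bot_iff]
    intro x hx
    rw [Submodule.mem_bot]
    by_contra hx0
    exact (br_mem h2 h3 ha hb hs ha' x.2).2.1 ha0 (fun e => hx0 (Subtype.ext e))
      (congrArg Subtype.val (LinearMap.mem_ker.mp hx))
  obtain ⟨x, hx⟩ := (LinearMap.injective_iff_surjective_of_finrank_eq_finrank hdim).mp hinj ⟨d, hd⟩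
  exact ⟨x.1, x.2, (congrArg Subtype.val hx).symm⟩

theorem image_commutator (h2 : (2 : k) ≠ 0) (h3 : Nat.card k ≠ 3) (hG : Amb G)
    (ha : IsMin G a) (hb : IsMin G b) (hs : Br G a b) {e : GLM} (he : e ∈ root G a) (he1 : e ≠ 1) :
    (fun f : GLM => e * f * e⁻¹ * f⁻¹) '' (root G b : Set GLM) = root G (b * a - a * b) := by
  obtain ⟨a', ha', rfl⟩ := (mem_root_iff ha).mp he
  have ha0 : a' ≠ 0 := fun e => he1 (by rw [e, uni_zero])
  refine Set.Subset.antisymm ?_ ?_
  · rintro _ ⟨f, hf, rfl⟩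
    obtain ⟨b', hb', rfl⟩ := (mem_root_iff hb).mp hf
    obtain ⟨h, -, hcm⟩ := br_mem h2 h3 ha hb hs ha' hb'
    rw [commutatorElement_def] at hcm
    change uni a' * uni b' * (uni a')⁻¹ * (uni b')⁻¹ ∈ _
    rw [hcm]
    exact uni_mem_grp h
  · intro x hx
    obtain ⟨d, hd, rfl⟩ := (mem_root_iff hs.min).mp hx
    obtain ⟨b', hb', rfl⟩ := br_surj h2 h3 hG ha hb hs ha' ha0 hd
    exact ⟨uni b', uni_mem_grp hb', by rw [← (br_mem h2 h3 ha hb hs ha' hb').2.2, commutatorElement_def]⟩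

theorem fixedSubmodule_root (ha : IsMin G a) : Cfsg.fixedSubmodule (root G a) = LinearMap.ker a := by
  refine le_antisymm ?_ (le_iInf₂ fun g hg => ?_)
  · refine (iInf₂_le (uni a) (uni_self_mem_root ha.1)).trans ?_
    rw [coe_uni ha.1.1, add_sub_cancel_left]
  · obtain ⟨c, hc, rfl⟩ := (mem_root_iff ha).mp hg
    rw [coe_uni hc.1.1, add_sub_cancel_left]
    exact hc.2.2

theorem commutatorSubmodule_root (ha : IsMin G a) : Cfsg.commutatorSubmodule (root G a) = LinearMap.range a := by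
  refine le_antisymm (iSup₂_le fun g hg => ?_) ?_
  · obtain ⟨c, hc, rfl⟩ := (mem_root_iff ha).mp hg
    rw [coe_uni hc.1.1, add_sub_cancel_left]
    exact hc.2.1
  · refine le_trans ?_ (le_iSup₂ (uni a) (uni_self_mem_root ha.1))
    rw [coe_uni ha.1.1, add_sub_cancel_left]

/-- All the properties of a pair in the commutator case. -/
theorem skew_case (h2 : (2 : k) ≠ 0) (h3 : Nat.card k ≠ 3) (hG : Amb G)
    (ha : IsMin G a) (hb : IsMin G b) (hs : Br G a b) :
    ⁅root G a, root G b⁆ = root G (b * a - a * b) ∧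
    (∀ e ∈ root G a, e ≠ 1 →
      Subgroup.closure ((fun f : GLM => e * f * e⁻¹ * f⁻¹) '' (root G b : Set GLM)) = ⁅root G a, root G b⁆) ∧
    (∀ f ∈ root G b, f ≠ 1 →
      Subgroup.closure ((fun e : GLM => e * f * e⁻¹ * f⁻¹) '' (root G a : Set GLM)) = ⁅root G a, root G b⁆) ∧
    (∀ c ∈ ⁅root G a, root G b⁆, ∀ x ∈ root G a ⊔ root G b, c * x = x * c) ∧
    ⁅root G a ⊔ root G b, root G a ⊔ root G b⁆ = root G (b * a - a * b) ∧
    ((root G a ⊔ root G b : Subgroup GLM) : Set GLM) ⊆ Cfsg.quadraticUnipotentCore G ⁅root G a, root G b⁆ := by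
  have hroot : root G (a * b - b * a) = root G (b * a - a * b) := by
    rw [show a * b - b * a = -(b * a - a * b) from (neg_sub _ _).symm]
    exact root_congr (LinearMap.range_neg _) (LinearMap.ker_neg _)
  have hA : ∀ e ∈ root G a, e ≠ 1 →
      Subgroup.closure ((fun f : GLM => e * f * e⁻¹ * f⁻¹) '' (root G b : Set GLM)) = root G (b * a - a * b) :=
    fun e he he1 => by rw [image_commutator h2 h3 hG ha hb hs he he1, Subgroup.closure_eq]
  have hB : ∀ f ∈ root G b, f ≠ 1 →
      Subgroup.closure ((fun e : GLM => e * f * e⁻¹ * f⁻¹) '' (root G a : Set GLM)) = root G (b * a - a * b) := by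
    intro f hf hf1
    have e1 : (fun e : GLM => e * f * e⁻¹ * f⁻¹) '' (root G a : Set GLM) =
        (fun x : GLM => x⁻¹) '' ((fun e : GLM => f * e * f⁻¹ * e⁻¹) '' (root G a : Set GLM)) := by
      rw [Set.image_image]; simp [mul_assoc]
    rw [e1, image_commutator h2 h3 hG hb ha (hs.symm ha hb) hf hf1, hroot, Set.image_inv_eq_inv, inv_coe_set,
      Subgroup.closure_eq]
  have hcomm : ⁅root G a, root G b⁆ = root G (b * a - a * b) := by
    refine le_antisymm (Subgroup.commutator_le.mpr fun e he f hf => ?_) ?_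
    · obtain ⟨a', ha', rfl⟩ := (mem_root_iff ha).mp he
      obtain ⟨b', hb', rfl⟩ := (mem_root_iff hb).mp hf
      obtain ⟨h, -, hcm⟩ := br_mem h2 h3 ha hb hs ha' hb'
      rw [hcm]
      exact uni_mem_grp h
    · rw [← hA _ (uni_self_mem_root ha.1) (fun e => ha.2.1 ((uni_eq_one ha.1.1).mp e)), Subgroup.closure_le]
      rintro _ ⟨f, hf, rfl⟩
      rw [SetLike.mem_coe]
      simpa only [commutatorElement_def] using
        Subgroup.commutator_mem_commutator (uni_self_mem_root ha.1) hf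
  have hflag := root_le_flag h2 h3 ha hb (hs.skew.not_opp ha)
  have hcent : ∀ x ∈ root G a ⊔ root G b, ∀ c ∈ root G (b * a - a * b), x * c = c * x := by
    intro x hx c hc
    obtain ⟨t, ht, rfl⟩ := (mem_root_iff hs.min).mp hc
    obtain ⟨f1, f2, f3⟩ := mem_flagGrp.mp (hflag hx)
    have e1 : t * ((x : ND) - 1) = 0 := LinearMap.ext fun m => ht.2.2 (hs.ker_eq ▸ f1 m)
    have e2 : ((x : ND) - 1) * t = 0 := LinearMap.ext fun m => f3 _ (hs.range_eq ▸ ht.2.1 ⟨m, rfl⟩)
    rw [mul_sub, mul_one, sub_eq_zero] at e1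
    rw [sub_mul, one_mul, sub_eq_zero] at e2
    ext1
    rw [Units.val_mul, Units.val_mul, coe_uni ht.1.1, mul_add, add_mul, one_mul, mul_one, e1, e2]
  refine ⟨hcomm, fun e he he1 => hcomm ▸ hA e he he1, fun f hf hf1 => hcomm ▸ hB f hf hf1,
    fun c hc x hx => (hcent x hx c (hcomm ▸ hc)).symm, ?_, ?_⟩
  · refine le_antisymm (commutator_sup_le (fun x hx y hy => grp_comm (range_le_ker ha.1.1) hx hy)
      (fun x hx y hy => grp_comm (range_le_ker hb.1.1) hx hy) hcomm.le hcent) ?_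
    rw [← hcomm]
    exact Subgroup.commutator_mono le_sup_left le_sup_right
  · intro x hx
    obtain ⟨f1, f2, f3⟩ := mem_flagGrp.mp (hflag hx)
    rw [hcomm]
    refine ⟨sup_le grp_le grp_le hx, ?_, ?_, ?_, ?_⟩
    · rw [← conjBy_eq_self_iff]
      exact conjBy_of_commute (hcent x hx)
    · intro m; rw [fixedSubmodule_root hs.min, hs.ker_eq]; exact f1 m
    · intro m hm
      rw [fixedSubmodule_root hs.min, hs.ker_eq] at hm
      rw [commutatorSubmodule_root hs.min, hs.range_eq]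
      exact f2 m hm
    · intro m hm
      rw [commutatorSubmodule_root hs.min, hs.range_eq] at hm
      exact sub_eq_zero.mp (f3 m hm)

theorem commute_case (h2 : (2 : k) ≠ 0) (h3 : Nat.card k ≠ 3) (ha : IsMin G a) (hb : IsMin G b)
    (hno : ¬ Opp a b) (hns : ¬ Skew a b) : ⁅root G a, root G b⁆ = ⊥ := by
  refine le_bot_iff.mp (Subgroup.commutator_le.mpr fun e he f hf => ?_)
  obtain ⟨a', ha', rfl⟩ := (mem_root_iff ha).mp he
  obtain ⟨b', hb', rfl⟩ := (mem_root_iff hb).mp hf
  rw [Subgroup.mem_bot, commutatorElement_eq_one_iff_mul_comm, commute_uni_iff ha'.1.1 hb'.1.1]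
  by_contra hne
  have ha0 : a' ≠ 0 := fun e => hne (by simp [e])
  have hb0 : b' ≠ 0 := fun e => hne (by simp [e])
  obtain ⟨t1, t2⟩ := triple_of_mem h2 h3 ha hb hno ha' hb'
  exact hns ((ha.skew_of_mem hb ha' ha0 hb' hb0).1.mp
    (skew_of_ne (ha.spaces ha' ha0).1 (hb.spaces hb' hb0).1 t1 t2 hne).1)

theorem trichotomy (h2 : (2 : k) ≠ 0) (h3 : Nat.card k ≠ 3) (ha : IsMin G a) (hb : IsMin G b) :
    Opp a b ∨ Br G a b ∨ (¬ Opp a b ∧ ¬ Skew a b ∧ ⁅root G a, root G b⁆ = ⊥) := by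
  by_cases ho : Opp a b
  · exact Or.inl ho
  by_cases hs : Skew a b
  · exact Or.inr (Or.inl (Br.mk' h2 h3 ha hb hs))
  · exact Or.inr (Or.inr ⟨ho, hs, commute_case h2 h3 ha hb ho hs⟩)

end Cfsg.Agent.Lib.QuadPair
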