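import Cfsg.Agent.Lib.QuadPair.RootSet
import Cfsg.Agent.Lib.RootSub.FixClass
import Cfsg.Agent.Lib.RootSub.Lines

/-!
The connected components of the set of root subgroups of a quadratic pair.
-/

namespace Cfsg.Agent.Lib.QuadPair

open Cfsg.Agent.Lib.RootSub
open scoped commutatorElement

variable {k : Type*} [Field k] {M : Type*} [AddCommGroup M] [Module k M]

local notation "GLM" => LinearMap.GeneralLinearGroup k M
local notation "ND" => M →ₗ[k] M

theorem unipotent_conjBy {H : Subgroup GLM} (hH : Cfsg.IsUnipotentOn H) (g : GLM) :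
    Cfsg.IsUnipotentOn (Cfsg.conjBy H g) := by
  obtain ⟨n, hn⟩ := unipotent_iff_prod.mp hH
  refine unipotent_iff_prod.mpr ⟨n, fun l hl hlen => ?_⟩
  have key : ∀ l : List GLM, (l.map fun x : GLM => ((x : ND) - 1)).prod =
      (g : ND) * ((l.map fun x => g⁻¹ * x * g).map fun x : GLM => ((x : ND) - 1)).prod * ((g⁻¹ : GLM) : ND) := by
    intro l
    induction l with
    | nil => simp
    | cons x l ih =>
      simp only [List.map_cons, List.prod_cons, ih]
      rw [Units.val_mul, Units.val_mul]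
      simp [mul_sub, sub_mul, ← mul_assoc, mul_assoc _ (g : ND) ((g⁻¹ : GLM) : ND)]
  rw [key, hn _ (by
    intro x hx
    obtain ⟨y, hy, rfl⟩ := List.mem_map.mp hx
    exact mem_conjBy.mp (hl y hy)) (by simp [hlen]), mul_zero, zero_mul]

variable [FiniteDimensional k M] {G : Subgroup (LinearMap.GeneralLinearGroup k M)}

/-- The component of a member. -/
abbrev comp (G : Subgroup GLM) (A : Subgroup GLM) : Set (Subgroup GLM) :=
  Cfsg.componentOf (Cfsg.FAdj (Cfsg.quadraticRootSubgroups G)) (Cfsg.quadraticRootSubgroups G) A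

/-- The group generated by a component. -/
abbrev compGrp (G : Subgroup GLM) (A : Subgroup GLM) : Subgroup GLM := ⨆ B ∈ comp G A, B

theorem comp_le {A : Subgroup GLM} : compGrp G A ≤ G := iSup₂_le fun _ hB => sigma_le hB.1

theorem self_mem_comp {A : Subgroup GLM} (hA : A ∈ Cfsg.quadraticRootSubgroups G) : A ∈ comp G A :=
  ⟨hA, Relation.ReflTransGen.refl⟩

theorem le_compGrp {A B : Subgroup GLM} (hB : B ∈ comp G A) : B ≤ compGrp G A :=
  le_iSup₂ (f := fun B _ => B) B hB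

theorem comp_eq {A B : Subgroup GLM} (hB : B ∈ comp G A) : comp G B = comp G A :=
  Set.ext fun _ => ⟨fun h => ⟨h.1, hB.2.trans h.2⟩, fun h => ⟨h.1, (reach_symm hB.2).trans h.2⟩⟩

theorem fAdj_conj {A B : Subgroup GLM} (h : Cfsg.FAdj (Cfsg.quadraticRootSubgroups G) A B) {g : GLM} (hg : g ∈ G) :
    Cfsg.FAdj (Cfsg.quadraticRootSubgroups G) (Cfsg.conjBy A g) (Cfsg.conjBy B g) :=
  ⟨sigma_conj h.1 hg, sigma_conj h.2.1 hg, isRankOnePair_conjBy h.2.2 g⟩

theorem reach_conj {A B : Subgroup GLM}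
    (h : Relation.ReflTransGen (Cfsg.FAdj (Cfsg.quadraticRootSubgroups G)) A B) {g : GLM} (hg : g ∈ G) :
    Relation.ReflTransGen (Cfsg.FAdj (Cfsg.quadraticRootSubgroups G)) (Cfsg.conjBy A g) (Cfsg.conjBy B g) :=
  h.lift (fun C => Cfsg.conjBy C g) fun _ _ h' => fAdj_conj h' hg

theorem comp_conj {A B : Subgroup GLM} (hB : B ∈ comp G A) {g : GLM} (hg : g ∈ G) :
    Cfsg.conjBy B g ∈ comp G (Cfsg.conjBy A g) :=
  ⟨sigma_conj hB.1 hg, reach_conj hB.2 hg⟩

theorem compGrp_conj (A : Subgroup GLM) {g : GLM} (hg : g ∈ G) :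
    Cfsg.conjBy (compGrp G A) g ≤ compGrp G (Cfsg.conjBy A g) := by
  simp only [compGrp, Cfsg.conjBy, Subgroup.map_iSup]
  exact iSup₂_le fun B hB => le_compGrp (comp_conj hB hg)

theorem comp_stable {A : Subgroup GLM} {g : GLM} (hg : g ∈ compGrp G A) :
    ∀ B ∈ comp G A, Cfsg.conjBy B g ∈ comp G A := by
  rw [compGrp, iSup_subtype', Subgroup.iSup_eq_closure] at hg
  have key : ∀ x : GLM, (∃ C ∈ comp G A, x ∈ C) → ∀ B ∈ comp G A, Cfsg.conjBy B x ∈ comp G A := by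
    rintro x ⟨C, hC, hx⟩ B hB
    have hxG : x ∈ G := sigma_le hC.1 hx
    refine ⟨sigma_conj hB.1 hxG, ?_⟩
    have h1 := reach_conj ((reach_symm hC.2).trans hB.2) hxG
    rw [conjBy_of_mem hx] at h1
    exact hC.2.trans h1
  induction hg using Subgroup.closure_induction'' with
  | mem x hx =>
    obtain ⟨C, hxC⟩ := Set.mem_iUnion.mp hx
    exact key x ⟨C.1, C.2, hxC⟩
  | inv_mem x hx =>
    obtain ⟨C, hxC⟩ := Set.mem_iUnion.mp hx
    exact key _ ⟨C.1, C.2, inv_mem hxC⟩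
  | one => intro B hB; rwa [conjBy_one]
  | mul x y _ _ hx hy => intro B hB; rw [← conjBy_conjBy]; exact hx _ (hy B hB)

theorem comp_conjugate {A B : Subgroup GLM} (hB : B ∈ comp G A) :
    ∃ g ∈ compGrp G A, Cfsg.conjBy A g = B := by
  obtain ⟨-, hB⟩ := hB
  induction hB with
  | refl => exact ⟨1, one_mem _, conjBy_one⟩
  | @tail C D hC hCD ih =>
    obtain ⟨g, hg, rfl⟩ := ih
    obtain ⟨x, hx, rfl⟩ := exists_conj hCD.2.2
    refine ⟨x * g, mul_mem ?_ hg, by rw [← conjBy_conjBy]⟩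
    exact sup_le (le_compGrp ⟨hCD.1, hC⟩) (le_compGrp ⟨hCD.2.1, hC.tail hCD⟩) hx

theorem comp_ne_commute (h2 : (2 : k) ≠ 0) (h3 : Nat.card k ≠ 3) (hG : Amb G)
    {A B : Subgroup GLM} (hA : A ∈ Cfsg.quadraticRootSubgroups G) (hB : B ∈ Cfsg.quadraticRootSubgroups G)
    (hc : ⁅A, B⁆ ≠ ⊥) :
    B ∈ comp G A ∧ (¬ Cfsg.IsRankOnePair A B → ⁅A, B⁆ ∈ comp G A) := by
  obtain ⟨a, ha, rfl⟩ := mem_sigma.mp hA
  obtain ⟨b, hb, rfl⟩ := mem_sigma.mp hB
  rcases trichotomy h2 h3 ha hb with h | h | ⟨-, -, h⟩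
  · have hp := (isSpecial_of_opp h2 h3 ha hb h).1
    exact ⟨⟨hB, Relation.ReflTransGen.single ⟨hA, hB, hp⟩⟩, fun hn => absurd hp hn⟩
  · have hadj : ∀ {x y : ND}, IsMin G x → IsMin G y → Opp x y →
        Cfsg.FAdj (Cfsg.quadraticRootSubgroups G) (root G x) (root G y) := fun hx hy ho =>
      ⟨mem_sigma.mpr ⟨_, hx, rfl⟩, mem_sigma.mpr ⟨_, hy, rfl⟩, (isSpecial_of_opp h2 h3 hx hy ho).1⟩
    have hroot : root G (a * b - b * a) = root G (b * a - a * b) := by
      rw [show a * b - b * a = -(b * a - a * b) from (neg_sub _ _).symm]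
      exact root_congr (LinearMap.range_neg _) (LinearMap.ker_neg _)
    obtain ⟨q, hq, h1, h1'⟩ := exists_common_opp h2 h3 hG ha hb h
    obtain ⟨q', hq', g1, g1'⟩ := exists_common_opp h2 h3 hG hb ha (h.symm ha hb)
    have e := (skew_case h2 h3 hG ha hb h).1
    have hD : Relation.ReflTransGen (Cfsg.FAdj (Cfsg.quadraticRootSubgroups G)) (root G a) (root G (b * a - a * b)) :=
      ((Relation.ReflTransGen.single (hadj ha hq h1)).tail (hadj hq h.min h1'.symm))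
    refine ⟨⟨hB, hD.trans ?_⟩, fun _ => ⟨e ▸ mem_sigma.mpr ⟨_, h.min, rfl⟩, e.symm ▸ hD⟩⟩
    rw [← hroot]
    exact ((Relation.ReflTransGen.single (hadj (h.symm ha hb).min hq' g1')).tail (hadj hq' hb g1.symm))
  · exact absurd h hc

theorem comp_commute (h2 : (2 : k) ≠ 0) (h3 : Nat.card k ≠ 3) (hG : Amb G)
    {A B : Subgroup GLM} (hne : comp G A ≠ comp G B) : ⁅compGrp G A, compGrp G B⁆ = ⊥ := by
  rw [Subgroup.commutator_eq_bot_iff_le_centralizer]
  refine iSup₂_le fun C hC => ?_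
  rw [Subgroup.le_centralizer_iff]
  refine iSup₂_le fun D hD => ?_
  rw [Subgroup.le_centralizer_iff, ← Subgroup.commutator_eq_bot_iff_le_centralizer]
  by_contra hc
  refine hne ?_
  rw [← comp_eq hC, ← comp_eq hD, comp_eq (comp_ne_commute h2 h3 hG hC.1 hD.1 hc).1]

/-- The set of components is finite. -/
theorem comp_finite (h2 : (2 : k) ≠ 0) (h3 : Nat.card k ≠ 3) (hG : Amb G) :
    Set.Finite (comp G '' Cfsg.quadraticRootSubgroups G) := by
  classical
  have hex : ∀ C : ↥(comp G '' Cfsg.quadraticRootSubgroups G), ∃ a b, IsMin G a ∧ IsMin G b ∧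
      comp G (root G a) = C.1 ∧ Opp a b := by
    rintro ⟨_, A, hA, rfl⟩
    obtain ⟨a, ha, rfl⟩ := mem_sigma.mp hA
    obtain ⟨g, hg, h⟩ := exists_opp_conj h2 h3 hG ha
    exact ⟨a, _, ha, ha.conj hg, rfl, h⟩
  choose a b ha hb hC ho using hex
  refine Set.finite_coe_iff.mp (LinearIndependent.finite (R := k) (f := a) ?_)
  rw [linearIndependent_iff']
  intro s g hg j hj
  have hbj : root G (b j) ∈ comp G (root G (a j)) :=
    ⟨mem_sigma.mpr ⟨_, hb j, rfl⟩, Relation.ReflTransGen.single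
      ⟨mem_sigma.mpr ⟨_, ha j, rfl⟩, mem_sigma.mpr ⟨_, hb j, rfl⟩, (isSpecial_of_opp h2 h3 (ha j) (hb j) (ho j)).1⟩⟩
  have hcomm : ∀ i, i ≠ j → a i * b j = b j * a i := by
    intro i hi
    refine (commute_uni_iff (ha i).1.1 (hb j).1.1).mp ?_
    have hne : comp G (root G (a i)) ≠ comp G (root G (a j)) := by
      rw [hC, hC]; exact fun e => hi (Subtype.ext e)
    have := comp_commute h2 h3 hG hne
    exact commute_of_commutator_eq_bot this
      (le_compGrp (self_mem_comp (mem_sigma.mpr ⟨_, ha i, rfl⟩)) (uni_self_mem_root (ha i).1))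
      (le_compGrp hbj (uni_self_mem_root (hb j).1))
  have hsum : ∑ i ∈ s, g i • (a i * b j - b j * a i) = 0 := by
    have := congrArg (fun x => x * b j - b j * x) hg
    simpa [Finset.sum_mul, Finset.mul_sum, smul_sub, Finset.sum_sub_distrib] using this
  rw [Finset.sum_eq_single_of_mem j hj fun i _ hi => by rw [hcomm i hi, sub_self, smul_zero]] at hsum
  refine (smul_eq_zero.mp hsum).resolve_right fun e => ?_
  refine (opp_iff h2 h3 (ha j) (hb j)).mp (ho j) ⟨?_, ?_⟩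
  · rw [sub_eq_zero.mp e, mul_assoc, (ha j).1.1, mul_zero]
  · rw [mul_assoc, sub_eq_zero.mp e, ← mul_assoc, (hb j).1.1, zero_mul]

theorem card_root (h2 : (2 : k) ≠ 0) (h3 : Nat.card k ≠ 3) {A : Subgroup GLM}
    (hA : A ∈ Cfsg.quadraticRootSubgroups G) : 3 < ENat.card A := by
  obtain ⟨a, ha, rfl⟩ := mem_sigma.mp hA
  refine (three_lt_card h2 h3).trans_le (ENat.card_le_card_of_injective
    (f := fun c : k => (⟨uni (c • a), uni_mem_root ha.1 c⟩ : root G a)) fun c d e => ?_)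
  have := uni_inj (smul_sq ha.1.1 c) (smul_sq ha.1.1 d) (congrArg Subtype.val e)
  exact smul_left_injective k ha.2.1 this

theorem pair_unipotent_of_commute (h2 : (2 : k) ≠ 0) (h3 : Nat.card k ≠ 3)
    {A B : Subgroup GLM} (hA : A ∈ Cfsg.quadraticRootSubgroups G) (hB : B ∈ Cfsg.quadraticRootSubgroups G)
    (h : ⁅A, B⁆ = ⊥) : Cfsg.IsUnipotentOn (A ⊔ B) := by
  obtain ⟨a, ha, rfl⟩ := mem_sigma.mp hA
  obtain ⟨b, hb, rfl⟩ := mem_sigma.mp hB
  exact unipotent_of_not_opp h2 h3 ha hb fun ho => commutator_ne_bot (isSpecial_of_opp h2 h3 ha hb ho).1 h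

/-- A proper normal subgroup of a component group fixes all members of the component. -/
theorem fix_of_normal (h2 : (2 : k) ≠ 0) (h3 : Nat.card k ≠ 3) (hG : Amb G)
    {A₀ H : Subgroup GLM} (hH : H = compGrp G A₀) (N : Subgroup H) [N.Normal]
    (hkill : ∀ A ∈ (fun A : Subgroup GLM => A.subgroupOf H) '' comp G A₀,
      ∀ B ∈ (fun A : Subgroup GLM => A.subgroupOf H) '' comp G A₀, ⁅A, B⁆ ≤ N → ⁅A, B⁆ = ⊥) :
    ∀ A ∈ (fun A : Subgroup GLM => A.subgroupOf H) '' comp G A₀, ∀ n ∈ N, Cfsg.conjBy A n = A := by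
  have hHle : ∀ B ∈ comp G A₀, B ≤ H := fun B hB => hH ▸ le_compGrp hB
  have hstab : ∀ {g : GLM}, g ∈ H → ∀ B ∈ comp G A₀, Cfsg.conjBy B g ∈ comp G A₀ := fun hg => comp_stable (hH ▸ hg)
  set f := QuotientGroup.mk' N with hf
  set N' := N.map H.subtype with hN'
  have hm : ∀ A ∈ comp G A₀, (A.subgroupOf H).map H.subtype = A := fun A hA => by
    rw [Subgroup.subgroupOf_map_subtype, inf_eq_left.mpr (hHle A hA)]
  have hcomm : ∀ A ∈ comp G A₀, ∀ B ∈ comp G A₀, (A.subgroupOf H).map f = (B.subgroupOf H).map f → ⁅A, B⁆ = ⊥ := by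
    intro A hA B hB e
    rw [← hm A hA, ← hm B hB, ← Subgroup.map_commutator, hkill _ ⟨A, hA, rfl⟩ _ ⟨B, hB, rfl⟩, Subgroup.map_bot]
    rw [← commutator_map_eq_bot_iff, ← hf, e, hf, commutator_map_eq_bot_iff]
    refine le_of_eq_of_le ((Subgroup.map_eq_bot_iff_of_injective _ H.subtype_injective).mp ?_) bot_le
    rw [Subgroup.map_commutator, hm B hB, Subgroup.commutator_eq_bot_iff_le_centralizer]
    intro x hx
    rw [Subgroup.mem_centralizer_iff]
    haveI := sigma_commutative hB.1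
    exact fun y hy => congrArg Subtype.val (mul_comm' (⟨y, hy⟩ : B) ⟨x, hx⟩)
  let cls : Subgroup GLM → Set (Subgroup GLM) :=
    fun A => {B | B ∈ comp G A₀ ∧ (B.subgroupOf H).map f = (A.subgroupOf H).map f}
  let C : Subgroup GLM → Subgroup GLM := fun A => ⨆ B ∈ cls A, B
  have hCle : ∀ A, C A ≤ H := fun A => iSup₂_le fun B hB => hHle B hB.1
  have hCuni : ∀ A, Cfsg.IsUnipotentOn (C A) := by
    intro A
    refine Kolchin.unipotent_iSup (G := C A) (fun B hB => le_iSup₂ (f := fun B _ => B) B hB)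
      (fun B hB D hD => pair_unipotent_of_commute h2 h3 hB.1.1 hD.1.1
        (hcomm B hB.1 D hD.1 (hB.2.trans hD.2.symm))) ?_
    intro B hB g hg
    have hle : C A ≤ Subgroup.centralizer (B : Set GLM) := iSup₂_le fun D hD =>
      Subgroup.commutator_eq_bot_iff_le_centralizer.mp (hcomm D hD.1 B hB.1 (hD.2.trans hB.2.symm))
    rw [conjBy_of_commute fun x hx => (Subgroup.mem_centralizer_iff.mp (hle hg) x hx).symm]
    exact hB
  have hconjC : ∀ A ∈ comp G A₀, ∀ g, ∀ hg : g ∈ H, Cfsg.conjBy (C A) g ≤ C (Cfsg.conjBy A g) := by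
    intro A hA g hg
    simp only [C, Cfsg.conjBy, Subgroup.map_iSup]
    refine iSup₂_le fun B hB => le_iSup₂_of_le _ ?_ le_rfl
    refine ⟨hstab hg B hB.1, ?_⟩
    have e : ∀ D ∈ comp G A₀, (Cfsg.conjBy D g).subgroupOf H = Cfsg.conjBy (D.subgroupOf H) ⟨g, hg⟩ := by
      intro D hD
      refine Subgroup.map_injective H.subtype_injective ?_
      rw [hm _ (hstab hg D hD), map_conjBy, hm D hD]
      rfl
    rw [e B hB.1, e A hA, map_conjBy, map_conjBy, hB.2]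
  have hN'conj : ∀ g ∈ H, Cfsg.conjBy N' g ≤ N' := by
    rintro g hg _ ⟨_, ⟨n, hn, rfl⟩, rfl⟩
    exact ⟨⟨g, hg⟩ * n * ⟨g, hg⟩⁻¹, (inferInstance : N.Normal).conj_mem n hn _, rfl⟩
  let W : Set (Subgroup GLM) := {X | ∃ A ∈ comp G A₀, X = N' ⊓ C A}
  have hWH : ∀ X ∈ W, X ≤ H := by
    rintro X ⟨A, hA, rfl⟩; exact inf_le_right.trans (hCle A)
  have hconjCn : ∀ A ∈ comp G A₀, ∀ x ∈ N', Cfsg.conjBy (C A) x ≤ C A := by
    rintro A hA _ ⟨n, hn, rfl⟩
    refine (hconjC A hA _ n.2).trans (iSup₂_le fun B hB => le_iSup₂ (f := fun B _ => B) B ⟨hB.1, hB.2.trans ?_⟩)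
    have e : (Cfsg.conjBy A (n : GLM)).subgroupOf H = Cfsg.conjBy (A.subgroupOf H) n := by
      refine Subgroup.map_injective H.subtype_injective ?_
      rw [hm _ (hstab n.2 A hA), map_conjBy, hm A hA]
      rfl
    change ((Cfsg.conjBy A (n : GLM)).subgroupOf H).map f = _
    rw [e, hf, map_eq_of_mem_normal hn]
  have hWW : ∀ X ∈ W, ∀ Y ∈ W, Cfsg.IsUnipotentOn (X ⊔ Y) := by
    rintro X ⟨A, hA, rfl⟩ Y ⟨B, hB, rfl⟩
    refine Kolchin.unipotent_sup (Kolchin.unipotent_mono (hCuni A) inf_le_right)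
      (Kolchin.unipotent_mono (hCuni B) inf_le_right) fun x hx => le_inf ?_ ?_
    · exact (conjBy_mono inf_le_left x).trans (hN'conj x (Subgroup.map_subtype_le _ hx.1))
    · exact (conjBy_mono inf_le_right x).trans (hconjCn A hA x hx.1)
  have hWconj : ∀ X ∈ W, ∀ g ∈ H, Cfsg.conjBy X g ∈ W := by
    rintro X ⟨A, hA, rfl⟩ g hg
    refine ⟨Cfsg.conjBy A g, hstab hg A hA, ?_⟩
    have hinj : Function.Injective (MulAut.conj g).toMonoidHom := (MulAut.conj g).injective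
    rw [show Cfsg.conjBy (N' ⊓ C A) g = Cfsg.conjBy N' g ⊓ Cfsg.conjBy (C A) g from Subgroup.map_inf _ _ _ hinj]
    congr 1
    · refine le_antisymm (hN'conj g hg) ?_
      have := conjBy_mono (hN'conj _ (inv_mem hg)) g
      rwa [conjBy_conjBy, mul_inv_cancel, conjBy_one] at this
    · refine le_antisymm (hconjC A hA g hg) ?_
      have := conjBy_mono (hconjC _ (hstab hg A hA) g⁻¹ (inv_mem hg)) g
      rwa [conjBy_conjBy, mul_inv_cancel, conjBy_one, conjBy_conjBy, inv_mul_cancel, conjBy_one] at this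
  have hN1 := Kolchin.unipotent_iSup hWH hWW hWconj
  set N1 := ⨆ X ∈ W, X with hN1def
  have hN1H : N1 ≤ H := iSup₂_le hWH
  have hN1conj : ∀ g ∈ H, Cfsg.conjBy N1 g ≤ N1 := by
    intro g hg
    simp only [hN1def, Cfsg.conjBy, Subgroup.map_iSup]
    exact iSup₂_le fun X hX => Kolchin.le_iSup_fam (hWconj X hX g hg)
  let W' : Set (Subgroup GLM) := {X | ∃ g ∈ G, X = Cfsg.conjBy N1 g}
  have hW'G : ∀ X ∈ W', X ≤ G := by
    rintro X ⟨g, hg, rfl⟩
    exact conjBy_le_of_le (hN1H.trans (hH ▸ comp_le)) hg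
  have hW'conj : ∀ X ∈ W', ∀ g ∈ G, Cfsg.conjBy X g ∈ W' := by
    rintro X ⟨h, hh, rfl⟩ g hg
    exact ⟨g * h, mul_mem hg hh, conjBy_conjBy _ _⟩
  have hbase : ∀ g ∈ G, Cfsg.IsUnipotentOn (N1 ⊔ Cfsg.conjBy N1 g) := by
    intro g hg
    refine Kolchin.unipotent_sup hN1 (unipotent_conjBy hN1 g) fun x hx => ?_
    have hxg : x ∈ compGrp G (Cfsg.conjBy A₀ g) := compGrp_conj A₀ hg (hH ▸ conjBy_mono hN1H g hx)
    by_cases he : comp G A₀ = comp G (Cfsg.conjBy A₀ g)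
    · exact hN1conj x (by rw [hH, compGrp, he]; exact hxg)
    · refine le_of_eq (conjBy_of_commute fun y hy => ?_)
      exact (commute_of_commutator_eq_bot (comp_commute h2 h3 hG he) (hH ▸ hN1H hy) hxg).symm
  have hW'W' : ∀ X ∈ W', ∀ Y ∈ W', Cfsg.IsUnipotentOn (X ⊔ Y) := by
    rintro X ⟨g, hg, rfl⟩ Y ⟨h, hh, rfl⟩
    have := unipotent_conjBy (hbase (g⁻¹ * h) (mul_mem (inv_mem hg) hh)) g
    rwa [conjBy_sup, conjBy_conjBy, mul_inv_cancel_left] at this
  have hbot : (⨆ X ∈ W', X) = ⊥ := eq_bot_of_normal_unipotent hG (iSup₂_le hW'G) (Kolchin.unipotent_iSup hW'G hW'W' hW'conj)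
    fun g hg => by
      simp only [Cfsg.conjBy, Subgroup.map_iSup]
      exact iSup₂_le fun X hX => Kolchin.le_iSup_fam (hW'conj X hX g hg)
  have hN1bot : N1 = ⊥ := le_bot_iff.mp (hbot ▸ Kolchin.le_iSup_fam (A := N1) (U := W') ⟨1, one_mem G, conjBy_one.symm⟩)
  rintro _ ⟨A, hA, rfl⟩ n hn
  have key : ∀ a ∈ A, (n : GLM) * a * (n : GLM)⁻¹ = a := by
    intro a ha
    refine mul_inv_eq_one.mp ((Subgroup.mem_bot (G := GLM)).mp (hN1bot ▸ ?_))
    refine Kolchin.le_iSup_fam (A := N' ⊓ C A) (U := W) ⟨A, hA, rfl⟩ ⟨?_, ?_⟩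
    · have haH : a ∈ H := hHle A hA ha
      refine ⟨n * (⟨a, haH⟩ * n⁻¹ * ⟨a, haH⟩⁻¹), mul_mem hn ((inferInstance : N.Normal).conj_mem _ (inv_mem hn) _), ?_⟩
      simp [mul_assoc]
    · have haC : a ∈ C A := le_iSup₂ (f := fun B _ => B) A (⟨hA, rfl⟩ : A ∈ cls A) ha
      change _ ∈ C A
      refine mul_mem ?_ (inv_mem haC)
      exact hconjCn A hA n ⟨n, hn, rfl⟩ (conj_mem_conjBy haC)
  refine conjBy_of_commute fun x hx => Subtype.ext ?_
  have := key x.1 hx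
  rw [mul_inv_eq_iff_eq_mul] at this
  simpa using this

end Cfsg.Agent.Lib.QuadPair
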