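import Cfsg.Agent.Lib.QuadPair.FieldGen

/-!
Deep elements of the polynomial group with a prescribed image in `SL₂(k(α))`.
-/

namespace Cfsg.Agent.Lib.QuadPair

open Matrix Polynomial

variable {k : Type*} [Field k]

local notation "MX" => Matrix (Fin 2) (Fin 2) k[X]

/-- The required power of `X` at an entry, at level `i`. -/
def expo (i : ℕ) (r c : Fin 2) : ℕ :=
  if r = c then (i + 1) / 2 else if r = 0 then (i + 2) / 2 else i / 2

/-- The weighted filtration of the matrices over `k[X]`. -/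
def Fil (i : ℕ) (Y : Matrix (Fin 2) (Fin 2) k[X]) : Prop :=
  ∀ r c, (X : k[X]) ^ expo i r c ∣ Y r c

theorem expo_add (i j : ℕ) (r l c : Fin 2) : expo (i + j) r c ≤ expo i r l + expo j l c := by
  fin_cases r <;> fin_cases l <;> fin_cases c <;> simp [expo] <;> omega

theorem expo_mono {i j : ℕ} (h : i ≤ j) (r c : Fin 2) : expo i r c ≤ expo j r c := by
  fin_cases r <;> fin_cases c <;> simp [expo] <;> omega

theorem Fil.mul {i j : ℕ} {Y Z : Matrix (Fin 2) (Fin 2) k[X]} (hY : Fil i Y) (hZ : Fil j Z) :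
    Fil (i + j) (Y * Z) := fun r c => by
  rw [Matrix.mul_apply]
  exact Finset.dvd_sum fun l _ => (pow_dvd_pow _ (expo_add i j r l c)).trans
    (by rw [pow_add]; exact mul_dvd_mul (hY r l) (hZ l c))

theorem Fil.add {i : ℕ} {Y Z : Matrix (Fin 2) (Fin 2) k[X]} (hY : Fil i Y) (hZ : Fil i Z) : Fil i (Y + Z) :=
  fun r c => dvd_add (hY r c) (hZ r c)

theorem Fil.sub {i : ℕ} {Y Z : Matrix (Fin 2) (Fin 2) k[X]} (hY : Fil i Y) (hZ : Fil i Z) : Fil i (Y - Z) :=
  fun r c => dvd_sub (hY r c) (hZ r c)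

theorem Fil.mono {i j : ℕ} (h : i ≤ j) {Y : Matrix (Fin 2) (Fin 2) k[X]} (hY : Fil j Y) : Fil i Y :=
  fun r c => (pow_dvd_pow _ (expo_mono h r c)).trans (hY r c)

theorem fil_one : Fil 0 (1 : Matrix (Fin 2) (Fin 2) k[X]) := fun r c => by
  fin_cases r <;> fin_cases c <;> simp [expo]

theorem fil_zero (i : ℕ) : Fil i (0 : Matrix (Fin 2) (Fin 2) k[X]) := fun r c => dvd_zero _

/-- The congruence subgroups. -/
def cong (i : ℕ) : Subgroup (SpecialLinearGroup (Fin 2) k[X]) where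
  carrier := {γ | γ ∈ genGrp k (X : k[X]) ∧ Fil i (γ.1 - 1)}
  one_mem' := ⟨Subgroup.one_mem _, by change Fil i ((1 : MX) - 1); rw [sub_self]; exact fil_zero i⟩
  mul_mem' := by
    rintro γ η ⟨hγ, h1⟩ ⟨hη, h2⟩
    refine ⟨Subgroup.mul_mem _ hγ hη, ?_⟩
    have e : (γ * η).1 - 1 = (γ.1 - 1) + (η.1 - 1) + (γ.1 - 1) * (η.1 - 1) := by
      change γ.1 * η.1 - 1 = _
      noncomm_ring
    rw [e]
    exact (h1.add h2).add ((h1.mul h2).mono (Nat.le_add_right i i))
  inv_mem' := by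
    rintro γ ⟨hγ, h⟩
    refine ⟨Subgroup.inv_mem _ hγ, ?_⟩
    change Fil i (adjugate γ.1 - 1)
    rw [adjugate_fin_two]
    intro r c
    fin_cases r <;> fin_cases c
    · simpa [expo] using h 1 1
    · simpa [expo] using h 0 1
    · simpa [expo] using h 1 0
    · simpa [expo] using h 0 0

theorem genGrp_le_cong_one : genGrp k (X : k[X]) ≤ cong 1 := by
  have hgen : ∀ x ∈ (Set.range fun t : k => xU (algebraMap k k[X] t * X)) ∪
      Set.range (fun d : k => yL (algebraMap k k[X] d)), x ∈ cong (k := k) 1 := by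
    rintro x (⟨t, rfl⟩ | ⟨d, rfl⟩)
    · refine ⟨xU_mem_genGrp _ _, fun r c => ?_⟩
      fin_cases r <;> fin_cases c <;> simp [coe_xU, expo]
    · refine ⟨yL_mem_genGrp _ _, fun r c => ?_⟩
      fin_cases r <;> fin_cases c <;> simp [coe_yL, expo]
  exact (Subgroup.closure_le _).mpr hgen

theorem comm_identity {R : Type*} [Ring R] (g h u : R) (e : h * g * u = 1) :
    g * h * u - 1 = ((g - 1) * (h - 1) - (h - 1) * (g - 1)) * u := by
  rw [show (g - 1) * (h - 1) - (h - 1) * (g - 1) = g * h - h * g by noncomm_ring, sub_mul, e]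

theorem commutator_mem_cong {i : ℕ} {γ η : SpecialLinearGroup (Fin 2) k[X]} (hγ : γ ∈ cong i)
    (hη : η ∈ genGrp k (X : k[X])) : γ * η * γ⁻¹ * η⁻¹ ∈ cong (i + 1) := by
  have hη1 := (genGrp_le_cong_one hη).2
  refine ⟨Subgroup.mul_mem _ (Subgroup.mul_mem _ (Subgroup.mul_mem _ hγ.1 hη) (Subgroup.inv_mem _ hγ.1))
    (Subgroup.inv_mem _ hη), ?_⟩
  have hunit : ∀ ζ ∈ genGrp k (X : k[X]), Fil 0 ζ.1 := fun ζ hζ => by
    have := ((genGrp_le_cong_one hζ).2.mono (Nat.zero_le 1)).add fil_one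
    rwa [sub_add_cancel] at this
  have e : (γ * η * γ⁻¹ * η⁻¹).1 - 1 =
      ((γ.1 - 1) * (η.1 - 1) - (η.1 - 1) * (γ.1 - 1)) * ((η * γ)⁻¹).1 := by
    rw [show γ * η * γ⁻¹ * η⁻¹ = (γ * η) * (η * γ)⁻¹ by group]
    have h1 := sl_mul_inv (η * γ)
    rw [sl_coe_mul η γ] at h1
    rw [sl_coe_mul (γ * η), sl_coe_mul γ η]
    exact comm_identity γ.1 η.1 _ h1
  rw [e]
  have h0 := hunit _ (Subgroup.inv_mem _ (Subgroup.mul_mem _ hη hγ.1))
  have t1 : Fil (i + 1) ((γ.1 - 1) * (η.1 - 1)) := Fil.mul hγ.2 hη1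
  have t2 : Fil (i + 1) ((η.1 - 1) * (γ.1 - 1)) := Fil.mono (Nat.le_of_eq (Nat.add_comm i 1)) (Fil.mul hη1 hγ.2)
  have t3 := Fil.mul (Fil.sub (i := i + 1) t1 t2) h0
  exact Fil.mono (i := i + 1) (j := i + 1 + 0) (Nat.le_refl _) t3

variable {K : Type*} [Field K] [Algebra k K]

theorem exists_scalar (h2 : (2 : k) ≠ 0) (h3 : Nat.card k ≠ 3) : ∃ ν : k, ν ≠ 0 ∧ ν ^ 2 ≠ 1 := by
  classical
  by_contra h
  push Not at h
  have hsub : ∀ ν : k, ν ∈ ({0, 1, -1} : Finset k) := fun ν => by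
    simp only [Finset.mem_insert, Finset.mem_singleton]
    by_cases hν : ν = 0
    · exact Or.inl hν
    · exact Or.inr (sq_eq_one_iff.mp (h ν hν))
  apply h3
  haveI : Fintype k := ⟨{0, 1, -1}, hsub⟩
  rw [Nat.card_eq_fintype_card, ← Finset.card_univ]
  have : (Finset.univ : Finset k) = {0, 1, -1} := Finset.ext fun ν => by simp [hsub ν]
  rw [this, Finset.card_insert_of_notMem, Finset.card_insert_of_notMem, Finset.card_singleton]
  · simp only [Finset.mem_singleton]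
    intro e
    exact h2 (by linear_combination e)
  · simp [eq_comm (a := (0 : k))]

theorem exists_deep (h2 : (2 : k) ≠ 0) (h3 : Nat.card k ≠ 3) {α : K} (hα : IsAlgebraic k α) (hα0 : α ≠ 0)
    (htop : Algebra.adjoin k ({α} : Set K) = ⊤) (i : ℕ) (g : SpecialLinearGroup (Fin 2) K) :
    ∃ γ ∈ cong (k := k) i, SpecialLinearGroup.map ((aeval α : k[X] →ₐ[k] K) : k[X] →+* K) γ = g := by
  have h2K : (2 : K) ≠ 0 := fun e => h2 ((algebraMap k K).injective (by rw [map_ofNat, e, map_zero]))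
  set f := SpecialLinearGroup.map (n := Fin 2) ((aeval α : k[X] →ₐ[k] K) : k[X] →+* K) with hf
  have himg : (genGrp k (X : k[X])).map f = ⊤ := by
    rw [hf, map_genGrp, aeval_X, genGrp_eq_top h2K h3 hα hα0 htop]
  suffices h : ∀ i, (cong (k := k) i).map f = ⊤ by
    have hg := Subgroup.mem_top g
    rw [← h i] at hg
    exact hg
  obtain ⟨ν, hν, hν2⟩ := exists_scalar h2 h3
  have hν' : algebraMap k K ν ≠ 0 := by simpa using hν
  have hν2' : algebraMap k K ν ^ 2 - 1 ≠ 0 := by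
    rw [sub_ne_zero, ← map_pow, ← map_one (algebraMap k K)]
    exact fun e => hν2 ((algebraMap k K).injective e)
  intro i
  induction i with
  | zero =>
    refine eq_top_iff.mpr (himg ▸ Subgroup.map_mono fun γ hγ => ?_)
    exact ⟨hγ, (genGrp_le_cong_one hγ).2.mono (Nat.zero_le 1)⟩
  | succ i ih =>
    obtain ⟨hd, hdval⟩ : ∃ h : SpecialLinearGroup (Fin 2) K,
        h.1 = !![algebraMap k K ν, 0; 0, (algebraMap k K ν)⁻¹] :=
      ⟨⟨!![algebraMap k K ν, 0; 0, (algebraMap k K ν)⁻¹], by simp [det_fin_two, hν]⟩, rfl⟩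
    have hdc : hd.1 1 0 = 0 := by simp [hdval]
    obtain ⟨η, hη, hηe⟩ : hd ∈ (cong (k := k) i).map f := by rw [ih]; exact Subgroup.mem_top hd
    have hcomm : ∀ z, hd * z * hd⁻¹ * z⁻¹ ∈ (cong (k := k) (i + 1)).map f := fun z => by
      obtain ⟨ζ, hζ, rfl⟩ : z ∈ (genGrp k (X : k[X])).map f := by rw [himg]; exact Subgroup.mem_top z
      exact ⟨η * ζ * η⁻¹ * ζ⁻¹, commutator_mem_cong hη hζ, by simp [hηe]⟩
    refine eq_top_of_xU_yL (fun u => ?_) (fun u => ?_)
    · have := hcomm (xU (u / (algebraMap k K ν ^ 2 - 1)))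
      rw [conj_xU hdc, ← xU_neg, ← xU_add] at this
      convert this using 2
      simp only [hdval, Matrix.cons_val', Matrix.cons_val_zero, Matrix.of_apply, Matrix.cons_val_fin_one]
      field_simp
      ring
    · have := hcomm (yL (u / ((algebraMap k K ν)⁻¹ ^ 2 - 1)))
      have hconj : ∀ z : K, hd * yL z * hd⁻¹ = yL ((algebraMap k K ν)⁻¹ ^ 2 * z) := by
        intro z
        rw [mul_inv_eq_iff_eq_mul]
        ext r c
        fin_cases r <;> fin_cases c <;> simp [hdval, coe_yL, Matrix.mul_apply, Fin.sum_univ_two]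
        field_simp
      rw [hconj, ← yL_neg, ← yL_add] at this
      convert this using 2
      have : (algebraMap k K ν)⁻¹ ^ 2 - 1 ≠ 0 := by
        rw [sub_ne_zero, inv_pow, ne_eq, inv_eq_one]
        exact sub_ne_zero.mp hν2'
      have : 1 - algebraMap k K ν ^ 2 ≠ 0 := fun e => hν2' (by linear_combination -e)
      field_simp
      ring

end Cfsg.Agent.Lib.QuadPair
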