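import Cfsg.Agent.Lib.QuadPair.SL2Gen

/-!
Over an infinite field a polynomial is, up to a scalar, the lower left entry of an element of the group
generated by `x(t X)` and `y(d)`, with the upper left entry generic.
-/

namespace Cfsg.Agent.Lib.QuadPair.ContFrac

open Polynomial Matrix

variable {k : Type*} [Field k]

/-- The two non-degeneracy conditions along the division algorithm. -/
def Good (m : ℕ) (A C : k[X]) : Prop :=
  A.natDegree ≤ m ∧ C.natDegree ≤ m ∧ A.coeff 0 ≠ 0 ∧
    (∀ s ≤ m, ∀ Q P : k[X], Q.degree < ((s + 1 : ℕ) : WithBot ℕ) → P.degree < (s : WithBot ℕ) →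
      (Q * A + X * P * C).degree < ((m - s : ℕ) : WithBot ℕ) → Q = 0 ∧ P = 0) ∧
    ∀ s, 1 ≤ s → s ≤ m → ∀ Q P : k[X], Q.degree < (s : WithBot ℕ) → P.degree < (s : WithBot ℕ) →
      (Q * A + P * C).degree < ((m - s : ℕ) : WithBot ℕ) → Q = 0 ∧ P = 0

theorem natDegree_le_of_coeff {P : k[X]} {m : ℕ} (h : P.natDegree ≤ m + 1) (h0 : P.coeff (m + 1) = 0) :
    P.natDegree ≤ m := by
  rw [natDegree_le_iff_coeff_eq_zero]
  intro N hN
  rcases Nat.lt_or_ge (m + 1) N with h' | h'
  · exact coeff_eq_zero_of_natDegree_lt (lt_of_le_of_lt h h')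
  · rwa [show N = m + 1 by omega]

theorem degree_lt_of_natDegree_le {P : k[X]} {m : ℕ} (h : P.natDegree ≤ m) :
    P.degree < ((m + 1 : ℕ) : WithBot ℕ) :=
  lt_of_le_of_lt (degree_le_of_natDegree_le h) (by exact_mod_cast Nat.lt_succ_self m)

theorem col_zero {R : Type*} [CommRing R] (d u : R) (g : SpecialLinearGroup (Fin 2) R) :
    (yL d * (xU u * g)).1 0 0 = g.1 0 0 + u * g.1 1 0 := by
  simp [coe_xU, coe_yL, Matrix.mul_apply, Fin.sum_univ_two, Matrix.vecMul, dotProduct]

theorem col_one {R : Type*} [CommRing R] (d u : R) (g : SpecialLinearGroup (Fin 2) R) :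
    (yL d * (xU u * g)).1 1 0 = d * (g.1 0 0 + u * g.1 1 0) + g.1 1 0 := by
  simp [coe_xU, coe_yL, Matrix.mul_apply, Fin.sum_univ_two, Matrix.vecMul, dotProduct]

/-- The division algorithm runs through. -/
theorem exists_mem_of_good : ∀ (m : ℕ) {A C : k[X]}, Good m A C →
    ∃ g ∈ genGrp k (X : k[X]), Polynomial.C (A.coeff 0) * g.1 0 0 = A ∧
      Polynomial.C (A.coeff 0) * g.1 1 0 = C := by
  intro m
  induction m with
  | zero =>
    rintro A C ⟨hA, hC, ha, -, -⟩
    refine ⟨_, yL_mem_genGrp (X : k[X]) (C.coeff 0 / A.coeff 0), ?_, ?_⟩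
    · rw [coe_yL]
      simpa using (eq_C_of_natDegree_le_zero hA).symm
    · rw [coe_yL]
      simp only [Polynomial.algebraMap_eq, Matrix.cons_val', Matrix.cons_val_zero, Matrix.cons_val_one,
        Matrix.of_apply, Matrix.cons_val_fin_one]
      rw [← Polynomial.C_mul, mul_div_cancel₀ _ ha]
      exact (eq_C_of_natDegree_le_zero hC).symm
  | succ m ih =>
    rintro A C ⟨hA, hC, ha, h1, h2⟩
    have hAm : A.coeff (m + 1) ≠ 0 := by
      intro e
      have := h1 0 (Nat.zero_le _) 1 0 (by simp) (by simp) (by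
        simp only [one_mul, mul_zero, zero_mul, add_zero]
        exact degree_lt_of_natDegree_le (natDegree_le_of_coeff hA e))
      exact one_ne_zero this.1
    set d := C.coeff (m + 1) / A.coeff (m + 1) with hd
    set C' := C - Polynomial.C d * A with hC'def
    have hC' : C'.natDegree ≤ m := by
      refine natDegree_le_of_coeff ?_ ?_
      · exact (natDegree_sub_le _ _).trans (max_le hC ((natDegree_C_mul_le _ _).trans hA))
      · rw [hC'def, coeff_sub, coeff_C_mul, hd, div_mul_cancel₀ _ hAm, sub_self]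
    have hCm : C'.coeff m ≠ 0 := by
      intro e
      have := h2 1 le_rfl (by omega) (-Polynomial.C d) 1
        (by rw [degree_neg]; exact lt_of_le_of_lt degree_C_le (by norm_num)) (by norm_num) (by
        have hrw : -Polynomial.C d * A + 1 * C = C' := by rw [hC'def]; ring
        rw [hrw, show m + 1 - 1 = m by omega]
        rw [degree_lt_iff_coeff_zero]
        intro N hN
        rcases Nat.lt_or_ge m N with h' | h'
        · exact coeff_eq_zero_of_natDegree_lt (lt_of_le_of_lt hC' h')
        · rwa [show N = m by omega])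
      exact one_ne_zero this.2
    set t := A.coeff (m + 1) / C'.coeff m with ht
    set A' := A - Polynomial.C t * (X * C') with hA'def
    have hA'0 : A'.coeff 0 = A.coeff 0 := by rw [hA'def]; simp
    have hA' : A'.natDegree ≤ m := by
      refine natDegree_le_of_coeff ?_ ?_
      · refine (natDegree_sub_le _ _).trans (max_le hA ((natDegree_C_mul_le _ _).trans ?_))
        refine natDegree_mul_le.trans ?_
        rw [natDegree_X]; omega
      · rw [hA'def, coeff_sub, coeff_C_mul, coeff_X_mul, ht, div_mul_cancel₀ _ hCm, sub_self]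
    have hlin : ∀ (s : ℕ) (P : k[X]), P.degree < (s : WithBot ℕ) → ∀ c : k,
        (Polynomial.C c * P).degree < (s : WithBot ℕ) := fun s P hP c => by
      rw [← smul_eq_C_mul]
      exact lt_of_le_of_lt (degree_smul_le _ _) hP
    have hX : ∀ (s : ℕ) (P : k[X]), P.degree < (s : WithBot ℕ) → (X * P).degree < ((s + 1 : ℕ) : WithBot ℕ) := by
      intro s P hP
      rw [degree_lt_iff_coeff_zero] at hP ⊢
      intro N hN
      obtain ⟨N, rfl⟩ : ∃ N', N = N' + 1 := ⟨N - 1, by omega⟩
      rw [coeff_X_mul]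
      exact hP N (by omega)
    have hup : ∀ (s : ℕ) (P : k[X]), P.degree < (s : WithBot ℕ) → P.degree < ((s + 1 : ℕ) : WithBot ℕ) :=
      fun s P hP => hP.trans (by exact_mod_cast Nat.lt_succ_self s)
    have hgood : Good m A' C' := by
      refine ⟨hA', hC', hA'0 ▸ ha, ?_, ?_⟩
      · intro s hs Q P hQ hP he
        have e : Q * A' + X * P * C' =
            (Q - Polynomial.C d * (X * (P - Polynomial.C t * Q))) * A + X * (P - Polynomial.C t * Q) * C := by
          rw [hA'def, hC'def]; ring
        rw [e] at he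
        have hP' : (P - Polynomial.C t * Q).degree < ((s + 1 : ℕ) : WithBot ℕ) :=
          lt_of_le_of_lt (degree_sub_le _ _) (max_lt (hup s P hP) (hlin _ Q hQ t))
        have := h1 (s + 1) (by omega) _ _ (lt_of_le_of_lt (degree_sub_le _ _)
          (max_lt (hup _ Q hQ) (hlin _ _ (hX _ _ hP') d))) hP' (by rwa [show m + 1 - (s + 1) = m - s by omega])
        obtain ⟨e1, e2⟩ := this
        rw [e2, mul_zero, mul_zero, sub_zero] at e1
        rw [e1, mul_zero, sub_zero] at e2
        exact ⟨e1, e2⟩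
      · intro s hs1 hs Q P hQ hP he
        have e : Q * A' + P * C' =
            (Q - Polynomial.C d * (P - Polynomial.C t * (X * Q))) * A + (P - Polynomial.C t * (X * Q)) * C := by
          rw [hA'def, hC'def]; ring
        rw [e] at he
        have hP' : (P - Polynomial.C t * (X * Q)).degree < ((s + 1 : ℕ) : WithBot ℕ) :=
          lt_of_le_of_lt (degree_sub_le _ _) (max_lt (hup s P hP) (hlin _ _ (hX _ Q hQ) t))
        have := h2 (s + 1) (by omega) (by omega) _ _ (lt_of_le_of_lt (degree_sub_le _ _)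
          (max_lt (hup _ Q hQ) (hlin _ _ hP' d))) hP' (by rwa [show m + 1 - (s + 1) = m - s by omega])
        obtain ⟨e1, e2⟩ := this
        rw [e2, mul_zero, sub_zero] at e1
        rw [e1, mul_zero, mul_zero, sub_zero] at e2
        exact ⟨e1, e2⟩
    obtain ⟨g, hg, hg0, hg1⟩ := ih hgood
    refine ⟨yL (algebraMap k k[X] d) * (xU (algebraMap k k[X] t * X) * g),
      Subgroup.mul_mem _ (yL_mem_genGrp _ _) (Subgroup.mul_mem _ (xU_mem_genGrp _ _) hg), ?_, ?_⟩
    all_goals rw [hA'0] at hg0 hg1
    · rw [col_zero]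
      linear_combination (norm := (simp only [hA'def, Polynomial.algebraMap_eq] <;> ring1))
        hg0 + Polynomial.C t * X * hg1
    · rw [col_one]
      linear_combination (norm := (simp only [hA'def, hC'def, Polynomial.algebraMap_eq] <;> ring1))
        Polynomial.C d * hg0 + (Polynomial.C d * Polynomial.C t * X + 1) * hg1

/-- The matrix of `(Q, P) ↦` the coefficients from `m - s` on of `Q A + P C`. -/
noncomputable def mat {R : Type*} [CommRing R] (m s s' : ℕ) (A C : R[X]) :
    Matrix (Fin (s' + s)) (Fin (s' + s)) R :=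
  fun i j => Fin.addCases (fun j : Fin s' => (X ^ (j : ℕ) * A).coeff (m - s + i))
    (fun j : Fin s => (X ^ (j : ℕ) * C).coeff (m - s + i)) j

theorem mat_map {R S : Type*} [CommRing R] [CommRing S] (f : R →+* S) (m s s' : ℕ) (A C : R[X]) :
    (mat m s s' A C).map f = mat m s s' (A.map f) (C.map f) := by
  ext i j
  simp only [Matrix.map_apply, mat]
  induction j using Fin.addCases <;> simp [← Polynomial.coeff_map, Polynomial.map_mul]

theorem mulVec_mat {R : Type*} [CommRing R] (m s s' : ℕ) (A C : R[X]) (v : Fin (s' + s) → R) (i : Fin (s' + s)) :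
    (mat m s s' A C).mulVec v i =
      ((∑ j : Fin s', Polynomial.C (v (Fin.castAdd s j)) * X ^ (j : ℕ)) * A +
        (∑ j : Fin s, Polynomial.C (v (Fin.natAdd s' j)) * X ^ (j : ℕ)) * C).coeff (m - s + i) := by
  simp only [Matrix.mulVec, dotProduct, Fin.sum_univ_add, mat, Fin.addCases_left, Fin.addCases_right,
    coeff_add, Finset.sum_mul, finsetSum_coeff]
  congr 1 <;>
  · refine Finset.sum_congr rfl fun j _ => ?_
    rw [mul_assoc, coeff_C_mul, mul_comm]

theorem coeff_sum_C_mul_X {R : Type*} [CommRing R] {n : ℕ} (v : Fin n → R) (i : ℕ) :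
    (∑ j : Fin n, Polynomial.C (v j) * X ^ (j : ℕ)).coeff i = if h : i < n then v ⟨i, h⟩ else 0 := by
  rw [finsetSum_coeff]
  simp only [coeff_C_mul, coeff_X_pow, mul_ite, mul_one, mul_zero]
  split_ifs with h
  · rw [Finset.sum_eq_single_of_mem (⟨i, h⟩ : Fin n) (Finset.mem_univ _)
      (fun j _ hj => if_neg fun e => hj (Fin.ext e.symm)), if_pos rfl]
  · refine Finset.sum_eq_zero fun j _ => if_neg ?_
    intro e
    exact h (lt_of_eq_of_lt e j.2)

theorem degree_sum_lt {R : Type*} [CommRing R] {n : ℕ} (v : Fin n → R) :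
    (∑ j : Fin n, Polynomial.C (v j) * X ^ (j : ℕ)).degree < (n : WithBot ℕ) := by
  rw [degree_lt_iff_coeff_zero]
  intro i hi
  rw [coeff_sum_C_mul_X, dif_neg (by omega)]

theorem eq_sum_of_degree_lt {n : ℕ} {Q : k[X]} (h : Q.degree < (n : WithBot ℕ)) :
    Q = ∑ j : Fin n, Polynomial.C (Q.coeff j) * X ^ (j : ℕ) := by
  ext i
  rw [coeff_sum_C_mul_X]
  split_ifs with hi
  · rfl
  · exact coeff_eq_zero_of_degree_lt (lt_of_lt_of_le h (by exact_mod_cast (show n ≤ i by omega)))

theorem injective_of_det {m s s' : ℕ} {A C : k[X]} (hs : s ≤ m) (hdet : (mat m s s' A C).det ≠ 0)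
    {Q P : k[X]} (hQ : Q.degree < (s' : WithBot ℕ)) (hP : P.degree < (s : WithBot ℕ))
    (he : (Q * A + P * C).degree < ((m - s : ℕ) : WithBot ℕ)) : Q = 0 ∧ P = 0 := by
  let v : Fin (s' + s) → k := Fin.addCases (fun j => Q.coeff j) fun j => P.coeff j
  have hz : (mat m s s' A C).mulVec v = 0 := by
    ext i
    rw [mulVec_mat]
    simp only [v, Fin.addCases_left, Fin.addCases_right, ← eq_sum_of_degree_lt hQ, ← eq_sum_of_degree_lt hP]
    exact coeff_eq_zero_of_degree_lt (lt_of_lt_of_le he (by exact_mod_cast Nat.le_add_right _ _))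
  have hv : v = 0 := Matrix.eq_zero_of_mulVec_eq_zero hdet hz
  constructor
  · rw [eq_sum_of_degree_lt hQ]
    refine Finset.sum_eq_zero fun j _ => ?_
    have := congrFun hv (Fin.castAdd s j)
    simp only [v, Fin.addCases_left, Pi.zero_apply] at this
    rw [this]; simp
  · rw [eq_sum_of_degree_lt hP]
    refine Finset.sum_eq_zero fun j _ => ?_
    have := congrFun hv (Fin.natAdd s' j)
    simp only [v, Fin.addCases_right, Pi.zero_apply] at this
    rw [this]; simp

/-- Over an algebraically closed field there are divisors of every degree. -/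
theorem exists_dvd_natDegree {L : Type*} [Field L] [IsAlgClosed L] {F : L[X]} (hF : F ≠ 0) :
    ∀ i ≤ F.natDegree, ∃ G : L[X], G ∣ F ∧ G.natDegree = i := by
  intro i hi
  induction hi using Nat.decreasingInduction with
  | self => exact ⟨F, dvd_rfl, rfl⟩
  | of_succ j hj ih =>
    obtain ⟨G, hG, hd⟩ := ih
    obtain ⟨r, hr⟩ := IsAlgClosed.exists_root G fun e => by
      rw [natDegree_eq_zero_iff_degree_le_zero.mpr e.le] at hd
      omega
    obtain ⟨G', rfl⟩ := dvd_iff_isRoot.mpr hr
    refine ⟨G', (dvd_mul_left _ _).trans hG, ?_⟩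
    have hne : G' ≠ 0 := by rintro rfl; simp at hd
    rw [natDegree_mul (X_sub_C_ne_zero r) hne, natDegree_X_sub_C] at hd
    omega

/-- A pair of polynomials that admits no small combination has a non-zero determinant. -/
theorem det_ne_zero_of {L : Type*} [Field L] {m s s' : ℕ} (hs : s ≤ m) {A C : L[X]}
    (hdeg : ∀ Q P : L[X], Q.degree < (s' : WithBot ℕ) → P.degree < (s : WithBot ℕ) →
      (Q * A + P * C).natDegree < m - s + (s' + s) ∨ Q * A + P * C = 0)
    (hinj : ∀ Q P : L[X], Q.degree < (s' : WithBot ℕ) → P.degree < (s : WithBot ℕ) →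
      (Q * A + P * C).degree < ((m - s : ℕ) : WithBot ℕ) → Q = 0 ∧ P = 0) :
    (mat m s s' A C).det ≠ 0 := by
  intro h
  obtain ⟨v, hv, hv0⟩ := Matrix.exists_mulVec_eq_zero_iff.mpr h
  apply hv
  set Q := ∑ j : Fin s', Polynomial.C (v (Fin.castAdd s j)) * X ^ (j : ℕ) with hQ
  set P := ∑ j : Fin s, Polynomial.C (v (Fin.natAdd s' j)) * X ^ (j : ℕ) with hP
  obtain ⟨hQ0, hP0⟩ := hinj Q P (degree_sum_lt _) (degree_sum_lt _) (by
    rw [degree_lt_iff_coeff_zero]
    intro N hN
    rcases Nat.lt_or_ge N (m - s + (s' + s)) with h' | h'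
    · have := congrFun hv0 ⟨N - (m - s), by omega⟩
      rw [mulVec_mat, Pi.zero_apply] at this
      rwa [show m - s + (N - (m - s)) = N by omega] at this
    · rcases hdeg Q P (degree_sum_lt _) (degree_sum_lt _) with hd | hd
      · exact coeff_eq_zero_of_natDegree_lt (lt_of_lt_of_le hd h')
      · rw [hd, coeff_zero])
  funext j
  induction j using Fin.addCases with
  | left j =>
    have := congrArg (coeff · j) hQ0
    simp only [hQ, coeff_sum_C_mul_X, j.2, dite_true, coeff_zero] at this
    exact this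
  | right j =>
    have := congrArg (coeff · j) hP0
    simp only [hP, coeff_sum_C_mul_X, j.2, dite_true, coeff_zero] at this
    exact this

theorem natDegree_lt_or_zero {L : Type*} [Field L] {P : L[X]} {n : ℕ} (h : P.degree < (n : WithBot ℕ)) :
    P.natDegree < n ∨ P = 0 := by
  by_cases h0 : P = 0
  · exact Or.inr h0
  · exact Or.inl (by rwa [natDegree_lt_iff_degree_lt h0])

theorem natDegree_comb {L : Type*} [Field L] {Q P A C : L[X]} {q p r : ℕ} (hQ : Q.degree < (q : WithBot ℕ))
    (hP : P.degree < (p : WithBot ℕ)) {a c : ℕ} (hA : A.natDegree ≤ a) (hC : C.natDegree ≤ c)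
    (h1 : q + a ≤ r) (h2 : p + c ≤ r) :
    (Q * A + P * C).natDegree < r ∨ Q * A + P * C = 0 := by
  have key : ∀ (Q A : L[X]) (q a : ℕ), Q.degree < (q : WithBot ℕ) → A.natDegree ≤ a → q + a ≤ r →
      (Q * A).degree < (r : WithBot ℕ) := by
    intro Q A q a hQ hA hle
    rw [degree_lt_iff_coeff_zero]
    intro N hN
    rcases natDegree_lt_or_zero hQ with h | h
    · exact coeff_eq_zero_of_natDegree_lt (lt_of_le_of_lt natDegree_mul_le (by omega))
    · simp [h]
  exact natDegree_lt_or_zero (lt_of_le_of_lt (degree_add_le _ _)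
    (max_lt (key Q A q a hQ hA h1) (key P C p c hP hC h2)))

/-- The generic column over an infinite field. -/
theorem exists_generic [Infinite k] {C : k[X]} (hC0 : C ≠ 0) {m : ℕ} (hm : C.natDegree = m)
    (Φ : MvPolynomial (Fin (m + 1)) k) (hΦ : Φ ≠ 0) :
    ∃ v : Fin (m + 1) → k, v 0 ≠ 0 ∧ MvPolynomial.eval v Φ ≠ 0 ∧
      ∃ g ∈ genGrp k (X : k[X]),
        Polynomial.C (v 0) * g.1 0 0 = ∑ j : Fin (m + 1), Polynomial.C (v j) * X ^ (j : ℕ) ∧
        Polynomial.C (v 0) * g.1 1 0 = C := by
  classical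
  let σ := MvPolynomial (Fin (m + 1)) k
  let Av : σ[X] := ∑ j : Fin (m + 1), Polynomial.C (MvPolynomial.X j) * X ^ (j : ℕ)
  let Cv : σ[X] := C.map MvPolynomial.C
  let dA : ℕ → σ := fun s => (mat m s (s + 1) Av (X * Cv)).det
  let dC : ℕ → σ := fun s => (mat m s s Av Cv).det
  let L := AlgebraicClosure k
  let ι := algebraMap k L
  have hev : ∀ (v : Fin (m + 1) → L),
      Av.map (MvPolynomial.eval₂Hom ι v) = ∑ j : Fin (m + 1), Polynomial.C (v j) * X ^ (j : ℕ) ∧
        Cv.map (MvPolynomial.eval₂Hom ι v) = C.map ι := by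
    intro v
    refine ⟨by simp [Av, Polynomial.map_sum], ?_⟩
    simp only [Cv, Polynomial.map_map]
    congr 1
    ext; simp
  have hCm : (C.map ι).natDegree = m := (natDegree_map _).trans hm
  have hC0' : C.map ι ≠ 0 := (Polynomial.map_ne_zero_iff ι.injective).mpr hC0
  have hwit : ∀ s ≤ m, ∀ G : L[X], G.natDegree = m - s → ∃ v : Fin (m + 1) → L,
      (∑ j : Fin (m + 1), Polynomial.C (v j) * X ^ (j : ℕ)) = G := fun s _ G hG =>
    ⟨fun j => G.coeff j, (eq_sum_of_degree_lt (lt_of_le_of_lt degree_le_natDegree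
      (by exact_mod_cast (show G.natDegree < m + 1 by omega)))).symm⟩
  have hAne : ∀ s ≤ m, dA s ≠ 0 := by
    intro s hs h0
    obtain ⟨G, ⟨g, hg⟩, hGd⟩ := exists_dvd_natDegree hC0' (m - s) (by omega)
    obtain ⟨v, hv⟩ := hwit s hs G hGd
    have hgd : g.natDegree = s := by
      have := congrArg natDegree hg
      rw [hCm, natDegree_mul (fun e => hC0' (by rw [hg, e, zero_mul])) (fun e => hC0' (by rw [hg, e, mul_zero])),
        hGd] at this
      omega
    have := congrArg (MvPolynomial.eval₂Hom ι v) h0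
    simp only [dA] at this
    rw [RingHom.map_det, RingHom.mapMatrix_apply, mat_map, Polynomial.map_mul, Polynomial.map_X, (hev v).1,
      (hev v).2, hv, map_zero] at this
    refine det_ne_zero_of hs (fun Q P hQ hP => natDegree_comb hQ hP hGd.le
      (natDegree_mul_le.trans (le_of_eq (by rw [natDegree_X, hCm]))) (by omega) (by omega)) ?_ this
    intro Q P hQ hP he
    have hz : Q + P * (X * g) = 0 := by
      by_contra hne
      have e : Q * G + P * (X * C.map ι) = (Q + P * (X * g)) * G := by rw [hg]; ring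
      rw [e, degree_mul, degree_eq_natDegree hne,
        degree_eq_natDegree (fun e => hC0' (by rw [hg, e, zero_mul] : C.map ι = 0)), hGd] at he
      norm_cast at he
      omega
    have hP0 : P = 0 := by
      by_contra hne
      have hQe : Q = -(P * (X * g)) := eq_neg_of_add_eq_zero_left hz
      have hg0 : g ≠ 0 := fun e => hC0' (by rw [hg, e, mul_zero])
      rw [hQe, degree_neg, degree_mul, degree_mul, degree_X, degree_eq_natDegree hne,
        degree_eq_natDegree hg0, hgd] at hQ
      norm_cast at hQ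
      omega
    exact ⟨by simpa [hP0] using hz, hP0⟩
  have hCne : ∀ s ≤ m, dC s ≠ 0 := by
    intro s hs h0
    obtain ⟨G, ⟨g, hg⟩, hGd⟩ := exists_dvd_natDegree hC0' (m - s) (by omega)
    obtain ⟨v, hv⟩ := hwit s hs G hGd
    have hgd : g.natDegree = s := by
      have := congrArg natDegree hg
      rw [hCm, natDegree_mul (fun e => hC0' (by rw [hg, e, zero_mul])) (fun e => hC0' (by rw [hg, e, mul_zero])),
        hGd] at this
      omega
    have := congrArg (MvPolynomial.eval₂Hom ι v) h0
    simp only [dC] at this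
    rw [RingHom.map_det, RingHom.mapMatrix_apply, mat_map, (hev v).1, (hev v).2, hv, map_zero] at this
    refine det_ne_zero_of hs (fun Q P hQ hP => natDegree_comb hQ hP hGd.le hCm.le (by omega) (by omega)) ?_ this
    intro Q P hQ hP he
    have hz : Q + P * g = 0 := by
      by_contra hne
      have e : Q * G + P * C.map ι = (Q + P * g) * G := by rw [hg]; ring
      rw [e, degree_mul, degree_eq_natDegree hne,
        degree_eq_natDegree (fun e => hC0' (by rw [hg, e, zero_mul] : C.map ι = 0)), hGd] at he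
      norm_cast at he
      omega
    have hP0 : P = 0 := by
      by_contra hne
      have hQe : Q = -(P * g) := eq_neg_of_add_eq_zero_left hz
      have hg0 : g ≠ 0 := fun e => hC0' (by rw [hg, e, mul_zero])
      rw [hQe, degree_neg, degree_mul, degree_eq_natDegree hne, degree_eq_natDegree hg0, hgd] at hQ
      norm_cast at hQ
      omega
    exact ⟨by simpa [hP0] using hz, hP0⟩
  set Ψ : σ := Φ * MvPolynomial.X 0 *
    ((∏ s ∈ Finset.range (m + 1), dA s) * ∏ s ∈ Finset.range (m + 1), dC s) with hΨ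
  have hΨ0 : Ψ ≠ 0 := mul_ne_zero (mul_ne_zero hΦ (MvPolynomial.X_ne_zero 0))
    (mul_ne_zero (Finset.prod_ne_zero_iff.mpr fun s hs => hAne s (by simpa using hs))
      (Finset.prod_ne_zero_iff.mpr fun s hs => hCne s (by simpa using hs)))
  obtain ⟨v, hv⟩ : ∃ v : Fin (m + 1) → k, MvPolynomial.eval v Ψ ≠ 0 := by
    by_contra h
    push Not at h
    exact hΨ0 (MvPolynomial.funext fun v => by rw [h v, map_zero])
  simp only [hΨ, map_mul, map_prod, MvPolynomial.eval_X, mul_ne_zero_iff, Finset.prod_ne_zero_iff,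
    Finset.mem_range] at hv
  obtain ⟨⟨hv1, hv2⟩, hv3, hv4⟩ := hv
  refine ⟨v, hv2, hv1, ?_⟩
  set A : k[X] := ∑ j : Fin (m + 1), Polynomial.C (v j) * X ^ (j : ℕ) with hA
  have hAc : A.coeff 0 = v 0 := by
    rw [hA, coeff_sum_C_mul_X, dif_pos (Nat.succ_pos m)]; rfl
  have hmapA : Av.map (MvPolynomial.eval v) = A := by simp [Av, hA, Polynomial.map_sum]
  have hmapC : Cv.map (MvPolynomial.eval v) = C := by
    simp only [Cv, Polynomial.map_map]
    conv_rhs => rw [← Polynomial.map_id (p := C)]
    congr 1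
    ext; simp
  have hgood : Good m A C := by
    refine ⟨?_, hm.le, hAc ▸ hv2, fun s hs Q P hQ hP he => ?_, fun s hs1 hs Q P hQ hP he => ?_⟩
    · rcases natDegree_lt_or_zero (degree_sum_lt v) with h | h
      · exact Nat.lt_succ_iff.mp h
      · rw [hA, h]; simp
    · refine injective_of_det hs (A := A) (C := X * C) ?_ hQ hP (by
        rwa [show Q * A + P * (X * C) = Q * A + X * P * C by ring])
      have := hv3 s (by omega)
      simp only [dA] at this
      rwa [RingHom.map_det, RingHom.mapMatrix_apply, mat_map, Polynomial.map_mul, Polynomial.map_X, hmapA,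
        hmapC] at this
    · refine injective_of_det hs (A := A) (C := C) ?_ hQ hP he
      have := hv4 s (by omega)
      simp only [dC] at this
      rwa [RingHom.map_det, RingHom.mapMatrix_apply, mat_map, hmapA, hmapC] at this
  obtain ⟨g, hg, h0, h1⟩ := exists_mem_of_good m hgood
  rw [hAc] at h0 h1
  exact ⟨g, hg, h0, h1⟩

end Cfsg.Agent.Lib.QuadPair.ContFrac
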