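import Cfsg.Agent.Lib.QuadPair.Components

/-!
Every quadratic element lies in one component group or centralises all of them.
-/

namespace Cfsg.Agent.Lib.QuadPair

open Polynomial Matrix Cfsg.Agent.Lib.RootSub
open scoped commutatorElement

variable {k : Type*} [Field k] {M : Type*} [AddCommGroup M] [Module k M] [FiniteDimensional k M]
variable {G : Subgroup (LinearMap.GeneralLinearGroup k M)} {a δ : M →ₗ[k] M}

local notation "GLM" => LinearMap.GeneralLinearGroup k M
local notation "ND" => M →ₗ[k] M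

/-- `δ` commutes with all minimal elements. -/
def Cen (G : Subgroup GLM) (δ : ND) : Prop := ∀ x, IsMin G x → δ * x = x * δ

/-- All products `x δ x` with `x` minimal vanish. -/
def Zer (G : Subgroup GLM) (δ : ND) : Prop := ∀ x, IsMin G x → x * δ * x = 0

theorem Zer.sub {δ' : M →ₗ[k] M} (h : Zer G δ) (h' : Zer G δ') : Zer G (δ - δ') := fun x hx => by
  rw [mul_sub, sub_mul, h x hx, h' x hx, sub_zero]

theorem Zer.smul (h : Zer G δ) (c : k) : Zer G (c • δ) := fun x hx => by
  rw [mul_smul_comm, smul_mul_assoc, h x hx, smul_zero]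

theorem Zer.conj (h : Zer G δ) {g : GLM} (hg : g ∈ G) :
    Zer G ((g : ND) * δ * ((g⁻¹ : GLM) : ND)) := by
  intro x hx
  have h' := h _ (hx.conj (inv_mem hg))
  rw [inv_inv] at h'
  have e : x * ((g : ND) * δ * ((g⁻¹ : GLM) : ND)) * x = (g : ND) * ((((g⁻¹ : GLM) : ND) * x * (g : ND)) * δ *
      (((g⁻¹ : GLM) : ND) * x * (g : ND))) * ((g⁻¹ : GLM) : ND) := by
    simp [← mul_assoc, mul_assoc _ (g : ND) ((g⁻¹ : GLM) : ND)]
  rw [e, h', mul_zero, zero_mul]

theorem conj_expand (hδ : δ * δ = 0) (c : k) (a : M →ₗ[k] M) :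
    ((uni (c • δ) : GLM) : ND) * a * (((uni (c • δ) : GLM)⁻¹ : GLM) : ND) =
      a + c • (δ * a - a * δ) - (c * c) • (δ * a * δ) := by
  rw [coe_uni (smul_sq hδ c), coe_uni_inv (smul_sq hδ c)]
  simp only [add_mul, mul_sub, one_mul, mul_one, smul_mul_assoc, mul_smul_comm, smul_sub, smul_add,
    smul_smul, mul_assoc]
  abel

/-- For a minimal element the product with a quadratic one is zero or injective on the range. -/
theorem zer_or_injective (h2 : (2 : k) ≠ 0) (h3 : Nat.card k ≠ 3) (ha : IsMin G a) (hδ : InL G δ) :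
    a * δ * a = 0 ∨ ∀ v ∈ LinearMap.range a, a (δ v) = 0 → v = 0 := by
  have hm : ∀ c : k, IsMin G (a + c • (δ * a - a * δ) - (c * c) • (δ * a * δ)) := fun c =>
    conj_expand hδ.1 c a ▸ ha.conj (hδ.2 c)
  have hprod : ∀ c : k, a * (a + c • (δ * a - a * δ) - (c * c) • (δ * a * δ)) =
      c • (a * δ * a) - (c * c) • (a * δ * a * δ) := fun c => by
    simp only [mul_add, mul_sub, mul_smul_comm, ← mul_assoc, ha.1.1, zero_mul, sub_zero, smul_zero, zero_add]
  by_cases hsq : a * δ * a * δ * a = 0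
  swap
  · right
    intro v hv h0
    rcases nil_or_injective h2 h3 ha (hm 1) with ⟨t, -⟩ | h
    · exfalso
      refine hsq ?_
      rw [hprod, sub_mul, one_smul, one_mul, one_smul, mul_assoc (a * δ) a a, ha.1.1, mul_zero, zero_sub,
        neg_eq_zero] at t
      exact t
    · refine h v hv ?_
      obtain ⟨u, rfl⟩ := hv
      have := DFunLike.congr_fun (hprod 1) (a u)
      rw [Module.End.mul_apply, one_smul, one_mul, one_smul] at this
      rw [one_smul, one_mul, one_smul, this, LinearMap.sub_apply]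
      have hz : a (a u) = 0 := DFunLike.congr_fun ha.1.1 u
      simp [hz, h0]
  left
  have htr : ∀ c : k, a * (a + c • (δ * a - a * δ) - (c * c) • (δ * a * δ)) * a = 0 ∧
      (a + c • (δ * a - a * δ) - (c * c) • (δ * a * δ)) * a *
        (a + c • (δ * a - a * δ) - (c * c) • (δ * a * δ)) = 0 := fun c => by
    refine (nil_or_injective h2 h3 ha (hm c)).resolve_right fun h => ha.range_ne_bot (le_bot_iff.mp ?_)
    rintro v ⟨u, rfl⟩
    rw [Submodule.mem_bot]
    refine h _ ⟨u, rfl⟩ ?_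
    have := DFunLike.congr_fun (congrArg (· * a) (hprod c)) u
    simp only [sub_mul, smul_mul_assoc, mul_assoc (a * δ) a a, ha.1.1, mul_zero, smul_zero, hsq, sub_zero,
      LinearMap.zero_apply] at this
    exact this
  have hw : ∀ c : k, InL G ((2 * c) • -(a * δ * a) + (c * c) • (a * δ * a * δ - δ * a * δ * a)) := fun c => by
    have := bracket_inL ha (hm c) (htr c).1 (htr c).2
    have e : (a + c • (δ * a - a * δ) - (c * c) • (δ * a * δ)) * a -
        a * (a + c • (δ * a - a * δ) - (c * c) • (δ * a * δ)) =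
        (2 * c) • -(a * δ * a) + (c * c) • (a * δ * a * δ - δ * a * δ * a) := by
      rw [hprod]
      simp only [add_mul, sub_mul, smul_mul_assoc, mul_assoc δ a a, ha.1.1, mul_zero, zero_sub, zero_add,
        smul_sub, smul_neg, smul_zero, two_mul, add_smul]
      abel
    rwa [e] at this
  obtain ⟨x, hx⟩ : ∃ x, x = a * δ * a := ⟨_, rfl⟩
  obtain ⟨u, hu⟩ : ∃ u, u = a * δ * a * δ - δ * a * δ * a := ⟨_, rfl⟩
  have xx : x * x = 0 := by rw [hx, show a * δ * a * (a * δ * a) = a * δ * (a * a) * δ * a by noncomm_ring, ha.1.1]; simp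
  have xu : x * u = 0 := by
    rw [hx, hu, show a * δ * a * (a * δ * a * δ - δ * a * δ * a) =
      a * δ * (a * a) * δ * a * δ - (a * δ * a * δ * a) * δ * a by noncomm_ring, ha.1.1, hsq]
    simp
  have ux : u * x = 0 := by
    rw [hx, hu, show (a * δ * a * δ - δ * a * δ * a) * (a * δ * a) =
      (a * δ * a * δ * a) * δ * a - δ * a * δ * (a * a) * δ * a by noncomm_ring, ha.1.1, hsq]
    simp
  have uu : u * u = 0 := by
    rw [hu, show (a * δ * a * δ - δ * a * δ * a) * (a * δ * a * δ - δ * a * δ * a) =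
      (a * δ * a * δ * a) * δ * a * δ - a * δ * a * (δ * δ) * a * δ * a - δ * a * δ * (a * a) * δ * a * δ +
        δ * (a * δ * a * δ * a) * δ * a by noncomm_ring, ha.1.1, hsq, hδ.1]
    simp
  simp only [← hu] at hw
  simp only [← hx] at hw
  rw [← hx]
  have hL := (hw 1).sub (hw (-1)) ?_ ?_
  · have e : ((2 * 1 : k) • -x + (1 * 1 : k) • u) - ((2 * -1 : k) • -x + (-1 * -1 : k) • u) = (-(2 * 2) : k) • x := by
      simp only [smul_neg, mul_neg, mul_one, one_smul, neg_smul, neg_neg, neg_mul, one_mul, two_mul, add_smul]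
      abel
    rw [e] at hL
    have h4 : (-(2 * 2) : k) ≠ 0 := neg_ne_zero.mpr (mul_ne_zero h2 h2)
    have hxL : InL G x := by
      have := hL.smul ((-(2 * 2) : k)⁻¹)
      rwa [smul_smul, inv_mul_cancel₀ h4, one_smul] at this
    refine ha.eq_zero_of_lt hxL ?_
    have hr : LinearMap.range x = (LinearMap.range a).map (a * δ) := hx ▸ LinearMap.range_comp _ _
    rw [hr]
    have hadd := finrank_map_add (a * δ) (LinearMap.range a)
    have hpos : LinearMap.range a ⊓ LinearMap.ker (a * δ) ≠ ⊥ := by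
      intro e0
      refine ha.range_ne_bot (le_bot_iff.mp ?_)
      rintro v ⟨w, rfl⟩
      have h1 : (a * δ) (a w) ∈ LinearMap.range a ⊓ LinearMap.ker (a * δ) :=
        ⟨⟨_, rfl⟩, DFunLike.congr_fun hsq w⟩
      rw [e0, Submodule.mem_bot] at h1
      have h1' : a w ∈ LinearMap.range a ⊓ LinearMap.ker (a * δ) := ⟨⟨w, rfl⟩, h1⟩
      rwa [e0] at h1'
    have := Nat.pos_of_ne_zero fun e => hpos (Submodule.finrank_eq_zero.mp e)
    omega
  · simp only [add_mul, mul_add, smul_mul_assoc, mul_smul_comm, neg_mul, mul_neg, xx, xu, ux, uu,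
      neg_zero, smul_zero, add_zero]
  · simp only [add_mul, mul_add, smul_mul_assoc, mul_smul_comm, neg_mul, mul_neg, xx, xu, ux, uu,
      neg_zero, smul_zero, add_zero]

/-- Subtracting a minimal element. -/
theorem reduce (h2 : (2 : k) ≠ 0) (h3 : Nat.card k ≠ 3) (ha : IsMin G a) (hδ : InL G δ)
    (hinj : ∀ v ∈ LinearMap.range a, a (δ v) = 0 → v = 0) :
    ∃ b, IsMin G b ∧ InL G (δ - b) ∧ b * (δ - b) = 0 ∧ (δ - b) * b = 0 ∧
      Module.finrank k (LinearMap.range (δ - b)) < Module.finrank k (LinearMap.range δ) := by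
  obtain ⟨p, hp, w, hw, hw0, hpw⟩ := exists_irreducible (range_map_le a δ) ha.range_ne_bot
  haveI := Fact.mk hp
  have hpI := aeval_eq_zero_of_injective h2 h3 ha hδ hinj hp hw hw0 hpw
  have hα : IsAlgebraic k (AdjoinRoot.root p) :=
    ⟨p, hp.ne_zero, by rw [AdjoinRoot.aeval_eq, AdjoinRoot.mk_self]⟩
  have hα0 : AdjoinRoot.root p ≠ 0 := by
    intro e
    rw [← AdjoinRoot.mk_X, AdjoinRoot.mk_eq_zero] at e
    obtain ⟨c, hc⟩ := e
    refine hw0 (hinj w hw ?_)
    have : aeval (a * δ) (X : k[X]) w = 0 := by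
      rw [hc, mul_comm, map_mul, Module.End.mul_apply, hpw, map_zero]
    rwa [aeval_X] at this
  have h2K : (2 : AdjoinRoot p) ≠ 0 := fun e =>
    h2 ((algebraMap k (AdjoinRoot p)).injective (by rw [map_ofNat, e, map_zero]))
  have hsq : ∀ u : AdjoinRoot p, ∃ C : k[X], AdjoinRoot.mk p C = u ∧
      InL G (δ * aeval (a * δ) (C * C * X)) := by
    intro u
    by_cases hu : u = 0
    · exact ⟨0, by simp [hu], by simp [InL.zero]⟩
    have htop := genGrp_eq_top h2K h3 hα hα0 AdjoinRoot.adjoinRoot_eq_top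
    rw [show AdjoinRoot.root p = (aeval (AdjoinRoot.root p) : k[X] →ₐ[k] AdjoinRoot p) X by rw [aeval_X],
      ← map_genGrp] at htop
    let g : SpecialLinearGroup (Fin 2) (AdjoinRoot p) := ⟨!![0, -u⁻¹; u, 0], by simp [det_fin_two, hu]⟩
    obtain ⟨γ, hγ, hγe⟩ : g ∈ (genGrp k (X : k[X])).map (SpecialLinearGroup.map
          ((aeval (AdjoinRoot.root p) : k[X] →ₐ[k] AdjoinRoot p) : k[X] →+* AdjoinRoot p)) := by
      rw [htop]; exact Subgroup.mem_top _
    have hent : ∀ r c, AdjoinRoot.mk p (γ.1 r c) = (!![0, -u⁻¹; u, 0] : Matrix (Fin 2) (Fin 2) (AdjoinRoot p)) r c :=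
      fun r c => by
        have := congrArg (fun g : SpecialLinearGroup (Fin 2) (AdjoinRoot p) => g.1 r c) hγe
        simp only [SpecialLinearGroup.map_apply_coe, RingHom.mapMatrix_apply, Matrix.map_apply, RingHom.coe_coe,
          AdjoinRoot.aeval_eq] at this
        exact this
    refine ⟨γ.1 1 0, by simpa using hent 1 0, ?_⟩
    obtain ⟨n, hn, hrep⟩ := exists_rep ha.1 hδ hγ
    have hA : γ.1 0 0 ∈ annR a δ := by
      obtain ⟨c, hc⟩ := AdjoinRoot.mk_eq_zero.mp (by simpa using hent 0 0 : AdjoinRoot.mk p (γ.1 0 0) = 0)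
      rw [hc]
      exact Ideal.mul_mem_right c _ hpI
    have hk : ∀ Q : k[X], ∀ v ∈ LinearMap.range a, aeval (a * δ) (γ.1 0 0 * Q) v = 0 :=
      fun Q => Ideal.mul_mem_right Q (annR a δ) hA
    have hconj := (ha.conj hn).1.neg
    rw [hrep.conj_eq ha.1.1 hδ.1] at hconj
    convert hconj using 1
    have z1 : aeval (a * δ) (γ.1 0 0 * γ.1 1 0) * a = 0 := LinearMap.ext fun v => hk _ _ ⟨v, rfl⟩
    have z2 : aeval (a * δ) (γ.1 0 0 * γ.1 0 0) * a = 0 := LinearMap.ext fun v => hk _ _ ⟨v, rfl⟩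
    rw [mul_assoc δ (aeval (a * δ) (γ.1 0 0 * γ.1 1 0)) a, z1, z2, ← mul_assoc (aeval (a * δ) (γ.1 0 0 * γ.1 1 0)) a δ,
      z1, zero_mul, map_mul (aeval (a * δ)) (γ.1 1 0 * γ.1 1 0), aeval_X]
    simp
  obtain ⟨C1, hC1, hL1⟩ := hsq (((AdjoinRoot.root p)⁻¹ + 1) / 2)
  obtain ⟨C2, hC2, hL2⟩ := hsq (((AdjoinRoot.root p)⁻¹ - 1) / 2)
  have hF : (C1 * C1 - C2 * C2) * X - 1 ∈ annR a δ := by
    have : AdjoinRoot.mk p ((C1 * C1 - C2 * C2) * X - 1) = 0 := by
      simp only [map_sub, map_mul, map_one, hC1, hC2, AdjoinRoot.mk_X]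
      field_simp
      ring
    obtain ⟨c, hc⟩ := AdjoinRoot.mk_eq_zero.mp this
    rw [hc]
    exact Ideal.mul_mem_right c _ hpI
  set F := (C1 * C1 - C2 * C2) * X with hFdef
  set b := δ * aeval (a * δ) F with hb
  have hbb : ∀ P Q : k[X], (δ * aeval (a * δ) P) * (δ * aeval (a * δ) Q) = 0 := fun P Q => by
    rw [← mul_assoc, mul_assoc δ, ← mul_assoc δ, b_aeval_b hδ.1, zero_mul]
  have hbL : InL G b := by
    have := hL1.sub hL2 (hbb _ _) (hbb _ _)
    rwa [← mul_sub, ← map_sub, ← sub_mul] at this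
  have hδe : δ = δ * aeval (a * δ) (1 : k[X]) := by rw [map_one, mul_one]
  have hres : ∀ v ∈ LinearMap.range a, b v = δ v := fun v hv => by
    have := hF v hv
    rw [map_sub, map_one, LinearMap.sub_apply, Module.End.one_apply, sub_eq_zero] at this
    rw [hb, Module.End.mul_apply, this]
  have hb0 : b ≠ 0 := by
    intro e
    obtain ⟨v, hv, hv0⟩ := Submodule.exists_mem_ne_zero_of_ne_bot ha.range_ne_bot
    refine hv0 (hinj v hv ?_)
    rw [← hres v hv, e, LinearMap.zero_apply, map_zero]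
  refine ⟨b, ⟨hbL, hb0, fun c hc hc0 => le_trans ?_ (ha.2.2 c hc hc0)⟩,
    hδ.sub hbL (by rw [hb, ← mul_assoc, hδ.1, zero_mul]) (by rw [hb, hδe]; simp only [← hδe]; exact
      (by have := hbb F 1; rwa [← hδe] at this)), ?_, ?_, ?_⟩
  · refine le_trans (Submodule.finrank_mono (?_ : LinearMap.range b ≤ (LinearMap.range a).map δ))
      (Submodule.finrank_map_le _ _)
    rintro _ ⟨v, rfl⟩
    refine ⟨aeval (a * δ) F v, ?_, rfl⟩
    rw [hFdef, mul_comm, map_mul, aeval_X, Module.End.mul_apply]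
    exact ⟨_, rfl⟩
  · rw [mul_sub, hbb F F, sub_zero, hb]
    conv_lhs => rw [hδe]; simp only [← hδe]
    have := hbb F 1
    rwa [← hδe] at this
  · rw [sub_mul, hbb F F, sub_zero, hb, ← mul_assoc, hδ.1, zero_mul]
  · have hker : LinearMap.ker δ < LinearMap.ker (δ - b) := by
      refine lt_of_le_of_ne (fun v hv => ?_) fun e => ?_
      · have h0 := (b_mul_aeval_range (a := a) hδ.1 F).2.2 hv
        rw [← hb, LinearMap.mem_ker] at h0
        rw [LinearMap.mem_ker] at hv ⊢
        rw [LinearMap.sub_apply, hv, h0, sub_zero]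
      · obtain ⟨v, hv, hv0⟩ := Submodule.exists_mem_ne_zero_of_ne_bot ha.range_ne_bot
        have : v ∈ LinearMap.ker δ := e ▸ (by rw [LinearMap.mem_ker, LinearMap.sub_apply, hres v hv, sub_self])
        rw [LinearMap.mem_ker] at this
        exact hv0 (hinj v hv (by rw [this, map_zero]))
    have := Submodule.finrank_lt_finrank_of_lt hker
    have r1 := LinearMap.finrank_range_add_finrank_ker δ
    have r2 := LinearMap.finrank_range_add_finrank_ker (δ - b)
    omega

theorem unipotent_of_triples {v w : M →ₗ[k] M} (hvv : v * v = 0) (hww : w * w = 0) (h1 : v * w * v = 0)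
    (h1' : w * v * w = 0) : Cfsg.IsUnipotentOn (pairGrp v w) := by
  have hle : LinearMap.range (v * w) ⊔ LinearMap.range (w * v) ≤ LinearMap.range v ⊔ LinearMap.range w :=
    sup_le_sup (LinearMap.range_comp_le_range _ _) (LinearMap.range_comp_le_range _ _)
  refine Kolchin.unipotent_mono (flagGrp_unipotent hle) ?_
  have key : ∀ x y : ND, x * x = 0 → x * y * x = 0 → ∀ c : k,
      (∀ m, (c • x) m ∈ LinearMap.range x ⊔ LinearMap.range y) ∧
      (∀ m ∈ LinearMap.range x ⊔ LinearMap.range y, (c • x) m ∈ LinearMap.range (x * y) ⊔ LinearMap.range (y * x)) ∧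
      ∀ m ∈ LinearMap.range (x * y) ⊔ LinearMap.range (y * x), (c • x) m = 0 := by
    intro x y hxx hxy c
    refine ⟨fun m => Submodule.smul_mem _ c (Submodule.mem_sup_left ⟨m, rfl⟩), ?_, ?_⟩
    · intro m hm
      obtain ⟨_, ⟨p, rfl⟩, _, ⟨q, rfl⟩, rfl⟩ := Submodule.mem_sup.mp hm
      refine Submodule.smul_mem _ c ?_
      rw [map_add, show x (x p) = 0 from DFunLike.congr_fun hxx p, zero_add]
      exact Submodule.mem_sup_left ⟨q, rfl⟩
    · intro m hm
      obtain ⟨_, ⟨p, rfl⟩, _, ⟨q, rfl⟩, rfl⟩ := Submodule.mem_sup.mp hm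
      rw [LinearMap.smul_apply, map_add, show x ((x * y) p) = 0 from DFunLike.congr_fun hxx _,
        show x ((y * x) q) = 0 from DFunLike.congr_fun hxy q, add_zero, smul_zero]
  rw [pairGrp, Subgroup.closure_le]
  rintro _ (⟨c, rfl⟩ | ⟨c, rfl⟩) <;> rw [SetLike.mem_coe, mem_flagGrp]
  · rw [coe_uni (smul_sq hvv c), add_sub_cancel_left]
    exact key v w hvv h1 c
  · rw [coe_uni (smul_sq hww c), add_sub_cancel_left]
    rw [sup_comm (LinearMap.range v), sup_comm (LinearMap.range (v * w))]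
    exact key w v hww h1' c

theorem cen_of_zer (h2 : (2 : k) ≠ 0) (h3 : Nat.card k ≠ 3) (hG : Amb G) (hδ : InL G δ) (hz : Zer G δ) :
    Cen G δ := by
  -- the basic identities
  have basic : ∀ {δ : ND}, InL G δ → Zer G δ → ∀ {a : ND}, IsMin G a →
      InL G (δ * a - a * δ) ∧ Zer G (δ * a - a * δ) ∧ δ * a * δ = 0 ∧
      ∃ a₁ a₂ : ND, IsMin G a₁ ∧ IsMin G a₂ ∧ δ * a - a * δ = (2 : k)⁻¹ • (a₁ - a₂) := by
    intro δ hδ hz a ha
    set v := δ * a - a * δ with hv
    set b := δ * a * δ with hb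
    have av : a * v = 0 := by rw [hv, mul_sub, ← mul_assoc, ← mul_assoc, hz a ha, ha.1.1, zero_mul, sub_zero]
    have va : v * a = 0 := by rw [hv, sub_mul, hz a ha, mul_assoc δ, ha.1.1, mul_zero, sub_zero]
    have ab : a * b = 0 := by rw [hb, ← mul_assoc, ← mul_assoc, hz a ha, zero_mul]
    have ba : b * a = 0 := by rw [hb, mul_assoc δ a δ, mul_assoc δ, hz a ha, mul_zero]
    have bb : b * b = 0 := by
      rw [hb, show δ * a * δ * (δ * a * δ) = δ * a * (δ * δ) * a * δ by noncomm_ring, hδ.1]; simp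
    have vb : v * b = 0 := by
      rw [hv, hb, show (δ * a - a * δ) * (δ * a * δ) = δ * (a * δ * a) * δ - a * (δ * δ) * a * δ by noncomm_ring,
        hz a ha, hδ.1]; simp
    have bv : b * v = 0 := by
      rw [hv, hb, show δ * a * δ * (δ * a - a * δ) = δ * a * (δ * δ) * a - δ * (a * δ * a) * δ by noncomm_ring,
        hz a ha, hδ.1]; simp
    have vv : v * v = 0 := by
      rw [hv, show (δ * a - a * δ) * (δ * a - a * δ) =
        δ * (a * δ * a) - δ * (a * a) * δ - a * (δ * δ) * a + (a * δ * a) * δ by noncomm_ring, hz a ha, ha.1.1, hδ.1]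
      simp
    have hm : ∀ c : k, IsMin G (a + c • v - (c * c) • b) := fun c => conj_expand hδ.1 c a ▸ ha.conj (hδ.2 c)
    have hzero : ∀ c d e c' d' e' : k, (e • a + c • v + d • b) * (e' • a + c' • v + d' • b) = 0 := by
      intros
      simp only [add_mul, mul_add, smul_mul_assoc, mul_smul_comm, av, va, ab, ba, bb, vb, bv, vv, ha.1.1,
        smul_zero, add_zero]
    have hlin : ∀ c : k, a + c • v - (c * c) • b = (1 : k) • a + c • v + (-(c * c)) • b := fun c => by
      rw [one_smul, neg_smul, sub_eq_add_neg]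
    have hpm : InL G ((a + (1 : k) • v - ((1 : k) * 1) • b) - (a + (-1 : k) • v - ((-1 : k) * -1) • b)) :=
      (hm 1).1.sub (hm (-1)).1 (by rw [hlin, hlin]; exact hzero ..) (by rw [hlin, hlin]; exact hzero ..)
    have e2 : (a + (1 : k) • v - ((1 : k) * 1) • b) - (a + (-1 : k) • v - ((-1 : k) * -1) • b) = (2 : k) • v := by
      simp only [one_smul, neg_smul, neg_mul_neg, one_mul, two_smul]; abel
    have hvz : Zer G v := by
      have := hz.sub (hz.conj ha.1.uni_mem)
      convert this using 1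
      have e := conj_expand ha.1.1 (1 : k) δ
      rw [one_smul] at e
      rw [e, hz a ha]
      simp only [one_smul, mul_one, sub_zero, smul_zero, hv]
      abel
    have hvL : InL G v := by
      rw [e2] at hpm
      simpa [smul_smul, inv_mul_cancel₀ h2] using hpm.smul ((2 : k)⁻¹)
    refine ⟨hvL, hvz, ?_, _, _, hm 1, hm (-1), by rw [e2, smul_smul, inv_mul_cancel₀ h2, one_smul]⟩
    -- `b = 0`
    have hbz : Zer G b := by
      have := (hvz.sub (hvz.conj hδ.uni_mem)).smul ((2 : k)⁻¹)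
      convert this using 1
      have e := conj_expand hδ.1 (1 : k) v
      rw [one_smul] at e
      have e1 : δ * v - v * δ = -((2 : k) • b) := by
        rw [hv, hb, two_smul, show δ * (δ * a - a * δ) - (δ * a - a * δ) * δ =
          (δ * δ) * a - δ * a * δ - δ * a * δ + a * (δ * δ) by noncomm_ring, hδ.1]
        simp only [zero_mul, mul_zero, add_zero, zero_sub]; abel
      have e3 : δ * v * δ = 0 := by
        rw [hv, show δ * (δ * a - a * δ) * δ = (δ * δ) * a * δ - δ * a * (δ * δ) by noncomm_ring, hδ.1]; simp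
      rw [e, e1, e3]
      simp [smul_smul, inv_mul_cancel₀ h2]
    have hbL : InL G b := by
      have h12 : InL G ((a + (1 : k) • v - ((1 : k) * 1) • b) + (a + (-1 : k) • v - ((-1 : k) * -1) • b)) :=
        (hm 1).1.add (hm (-1)).1 (by rw [hlin, hlin]; exact hzero ..) (by rw [hlin, hlin]; exact hzero ..)
      have e4 : (a + (1 : k) • v - ((1 : k) * 1) • b) + (a + (-1 : k) • v - ((-1 : k) * -1) • b) =
          (2 : k) • a + (0 : k) • v + (-2 : k) • b := by
        simp only [one_smul, neg_smul, neg_mul_neg, one_mul, two_smul, zero_smul]; abel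
      rw [e4] at h12
      have hs := h12.sub (ha.1.smul 2) (by
        simp only [add_mul, smul_mul_assoc, mul_smul_comm, va, ba, ha.1.1, smul_zero, add_zero]) (by
        simp only [mul_add, smul_mul_assoc, mul_smul_comm, av, ab, ha.1.1, smul_zero, add_zero])
      have e5 : (2 : k) • a + (0 : k) • v + (-2 : k) • b - (2 : k) • a = (-2 : k) • b := by
        simp only [zero_smul]; abel
      rw [e5] at hs
      have := hs.smul ((-2 : k)⁻¹)
      rwa [smul_smul, inv_mul_cancel₀ (neg_ne_zero.mpr h2), one_smul] at this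
    by_contra hb0
    have hle : Module.finrank k (LinearMap.range b) ≤ Module.finrank k (LinearMap.range a) := by
      have : LinearMap.range b ≤ (LinearMap.range a).map δ := by
        rintro _ ⟨w, rfl⟩; exact ⟨_, ⟨δ w, rfl⟩, rfl⟩
      exact (Submodule.finrank_mono this).trans (Submodule.finrank_map_le _ _)
    have hbm : IsMin G b := ⟨hbL, hb0, fun c hc hc0 => hle.trans (ha.2.2 c hc hc0)⟩
    obtain ⟨g, hg, hopp⟩ := exists_opp_conj h2 h3 hG hbm
    obtain ⟨w, hw, hw0⟩ := Submodule.exists_mem_ne_zero_of_ne_bot (hbm.conj hg).range_ne_bot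
    obtain ⟨u, rfl⟩ := hw
    exact hw0 (hopp.symm.injective ⟨u, rfl⟩ (DFunLike.congr_fun (hbz _ (hbm.conj hg)) u))
  intro a₀ ha₀
  by_contra hne
  let W : Set (Subgroup GLM) := {X | ∃ δ a : ND, InL G δ ∧ Zer G δ ∧ IsMin G a ∧
    X = pairGrp (δ * a - a * δ) (δ * a - a * δ)}
  have hWG : ∀ X ∈ W, X ≤ G := by
    rintro X ⟨δ, a, h, hz, ha, rfl⟩
    exact pairGrp_le (basic h hz ha).1 (basic h hz ha).1
  have hWW : ∀ X ∈ W, ∀ Y ∈ W, Cfsg.IsUnipotentOn (X ⊔ Y) := by
    rintro X ⟨δ, a, h, hz, ha, rfl⟩ Y ⟨δ', a', h', hz', ha', rfl⟩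
    obtain ⟨hv, hvz, -, a₁, a₂, m1, m2, e⟩ := basic h hz ha
    obtain ⟨hv', hvz', -, a₁', a₂', m1', m2', e'⟩ := basic h' hz' ha'
    have key : ∀ {v x₁ x₂ : ND}, InL G v → Zer G v → IsMin G x₁ → IsMin G x₂ →
        v * ((2 : k)⁻¹ • (x₁ - x₂)) * v = 0 := by
      intro v x₁ x₂ hv hvz h₁ h₂
      rw [mul_smul_comm, mul_sub, smul_mul_assoc, sub_mul, (basic hv hvz h₁).2.2.1, (basic hv hvz h₂).2.2.1]
      simp
    refine Kolchin.unipotent_mono (unipotent_of_triples hv.1 hv'.1 (e' ▸ key hv hvz m1' m2')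
      (e ▸ key hv' hvz' m1 m2)) ?_
    rw [pairGrp, pairGrp, Set.union_self, Set.union_self, ← Subgroup.closure_union]
    exact le_rfl
  have hWconj : ∀ X ∈ W, ∀ g ∈ G, Cfsg.conjBy X g ∈ W := by
    rintro X ⟨δ, a, h, hz, ha, rfl⟩ g hg
    refine ⟨_, _, h.conj hg, hz.conj hg, ha.conj hg, ?_⟩
    obtain ⟨hv, -⟩ := basic h hz ha
    have e : (g : ND) * δ * ((g⁻¹ : GLM) : ND) * ((g : ND) * a * ((g⁻¹ : GLM) : ND)) -
        (g : ND) * a * ((g⁻¹ : GLM) : ND) * ((g : ND) * δ * ((g⁻¹ : GLM) : ND)) =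
        (g : ND) * (δ * a - a * δ) * ((g⁻¹ : GLM) : ND) := by
      simp [mul_sub, sub_mul, ← mul_assoc, mul_assoc _ ((g⁻¹ : GLM) : ND) (g : ND)]
    rw [e, pairGrp, pairGrp, Set.union_self, Set.union_self, Cfsg.conjBy, MonoidHom.map_closure, ← Set.range_comp]
    congr 1
    refine congrArg Set.range (funext fun c => ?_)
    change g * uni (c • _) * g⁻¹ = _
    rw [conj_uni (smul_sq hv.1 c)]
    congr 1
    simp [mul_assoc]
  have hbot : (⨆ X ∈ W, X) = ⊥ := eq_bot_of_normal_unipotent hG (iSup₂_le hWG)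
    (Kolchin.unipotent_iSup hWG hWW hWconj) fun x hx => by
      simp only [Cfsg.conjBy, Subgroup.map_iSup]
      exact iSup₂_le fun X hX => Kolchin.le_iSup_fam (hWconj X hX x hx)
  obtain ⟨hv, -⟩ := basic hδ hz ha₀
  have hmem : (uni ((1 : k) • (δ * a₀ - a₀ * δ)) : GLM) ∈ ⨆ X ∈ W, X :=
    Kolchin.le_iSup_fam (A := pairGrp (δ * a₀ - a₀ * δ) (δ * a₀ - a₀ * δ)) (U := W) ⟨δ, a₀, hδ, hz, ha₀, rfl⟩
      (mem_pairGrp_left _ _ 1)
  rw [one_smul, hbot, Subgroup.mem_bot, uni_eq_one hv.1] at hmem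
  exact hne (sub_eq_zero.mp hmem)

theorem Cen.mem_root (h : Cen G δ) (hδ : InL G δ) {A : Subgroup GLM} (hA : A ∈ Cfsg.quadraticRootSubgroups G)
    {x : GLM} (hx : x ∈ A) : (uni δ : GLM) * x = x * uni δ := by
  obtain ⟨a, ha, rfl⟩ := mem_sigma.mp hA
  obtain ⟨a', ha', rfl⟩ := (mem_root_iff ha).mp hx
  rw [commute_uni_iff hδ.1 ha'.1.1]
  by_cases h0 : a' = 0
  · simp [h0]
  · exact h _ (ha.spaces ha' h0).1

theorem comp_congr {A B : Subgroup GLM} (h : comp G A = comp G B) (hA : A ∈ Cfsg.quadraticRootSubgroups G)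
    {g : GLM} (hg : g ∈ G) : comp G (Cfsg.conjBy A g) = comp G (Cfsg.conjBy B g) := by
  have hm : A ∈ comp G B := h ▸ self_mem_comp hA
  exact comp_eq (comp_conj hm hg)

/-- The scalar family of a quadratic element stabilises each component. -/
theorem comp_conj_eq (h2 : (2 : k) ≠ 0) (h3 : Nat.card k ≠ 3) (hG : Amb G) (hδ : InL G δ)
    {A : Subgroup GLM} (hA : A ∈ Cfsg.quadraticRootSubgroups G) (c₀ : k) :
    comp G (Cfsg.conjBy A (uni (c₀ • δ))) = comp G A := by
  obtain ⟨a, ha, rfl⟩ := mem_sigma.mp hA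
  let cc : k → Set (Subgroup GLM) := fun c => comp G (Cfsg.conjBy (root G a) (uni (c • δ)))
  have hadd : ∀ c d : k, cc (c + d) = comp G (Cfsg.conjBy (Cfsg.conjBy (root G a) (uni (d • δ))) (uni (c • δ))) := by
    intro c d
    have hz : (c • δ) * (d • δ) = 0 := by rw [smul_mul_smul_comm, hδ.1, smul_zero]
    have hz' : (d • δ) * (c • δ) = 0 := by rw [smul_mul_smul_comm, hδ.1, smul_zero]
    rw [conjBy_conjBy, uni_mul (smul_sq hδ.1 c) (smul_sq hδ.1 d) hz hz', ← add_smul]
  have hshift : ∀ c h : k, cc h = comp G (root G a) → cc (c + h) = cc c := fun c h he => by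
    rw [hadd]
    exact comp_congr he (sigma_conj hA (hδ.2 h)) (hδ.2 c)
  have h0 : cc 0 = comp G (root G a) := by simp [cc, uni_zero, conjBy_one]
  by_contra hc₀
  change cc c₀ ≠ _ at hc₀
  obtain ⟨g, hg, hopp⟩ := exists_opp_conj h2 h3 hG ha
  set q := (g : ND) * a * ((g⁻¹ : GLM) : ND) with hq
  have hqm : IsMin G q := ha.conj hg
  have hqc : comp G (root G q) = comp G (root G a) :=
    comp_eq ⟨mem_sigma.mpr ⟨q, hqm, rfl⟩, Relation.ReflTransGen.single
      ⟨hA, mem_sigma.mpr ⟨q, hqm, rfl⟩, (isSpecial_of_opp h2 h3 ha hqm hopp).1⟩⟩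
  set R := q * a - a * q with hR
  set P := q * (δ * a - a * δ) - (δ * a - a * δ) * q with hP
  set Q := q * (δ * a * δ) - (δ * a * δ) * q with hQ
  have hzero : ∀ c : k, cc c ≠ comp G (root G a) → R + c • P - (c * c) • Q = 0 := by
    intro c hc
    have hm := ha.conj (hδ.2 c)
    have hcm := comp_commute h2 h3 hG (A := root G q)
      (B := Cfsg.conjBy (root G a) (uni (c • δ))) (by rw [hqc]; exact Ne.symm hc)
    have := commute_of_commutator_eq_bot hcm
      (le_compGrp (self_mem_comp (mem_sigma.mpr ⟨q, hqm, rfl⟩)) (uni_self_mem_root hqm.1))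
      (le_compGrp (self_mem_comp (sigma_conj hA (hδ.2 c))) (conj_mem_conjBy (uni_self_mem_root ha.1)))
    rw [conj_uni ha.1.1, commute_uni_iff hqm.1.1 hm.1.1, conj_expand hδ.1, ← sub_eq_zero] at this
    rw [← this, hR, hP, hQ]
    simp only [mul_add, add_mul, mul_sub, sub_mul, mul_smul_comm, smul_mul_assoc, smul_sub]
    abel
  have hneg : cc (-c₀) ≠ comp G (root G a) := fun e => hc₀ (by
    have := hshift c₀ (-c₀) e
    rw [add_neg_cancel, h0] at this
    exact this.symm)
  have hc0 : c₀ ≠ 0 := fun e => hc₀ (e ▸ h0)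
  have hP0 : P = 0 := by
    have e : (R + c₀ • P - (c₀ * c₀) • Q) - (R + (-c₀) • P - (-c₀ * -c₀) • Q) = (2 * c₀) • P := by
      rw [neg_mul_neg, neg_smul, two_mul, add_smul]; abel
    rw [hzero _ hc₀, hzero _ hneg, sub_zero] at e
    exact (smul_eq_zero.mp e.symm).resolve_left (mul_ne_zero h2 hc0)
  have hsq : ∀ c, cc c ≠ comp G (root G a) → R = (c * c) • Q := fun c hc => by
    have := hzero c hc
    rwa [hP0, smul_zero, add_zero, sub_eq_zero] at this
  obtain ⟨c₁, hc₁, hne⟩ : ∃ c₁, cc c₁ ≠ comp G (root G a) ∧ c₁ * c₁ ≠ c₀ * c₀ := by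
    by_cases hH : ∃ h, h ≠ 0 ∧ cc h = comp G (root G a)
    · obtain ⟨h, hh0, hh⟩ := hH
      by_cases he : h = -(2 * c₀)
      · -- use the opposite shift
        have hh' : cc (-h) = comp G (root G a) := by
          have := hshift (-h) h hh
          rw [neg_add_cancel, h0] at this
          exact this.symm
        refine ⟨c₀ + -h, by rw [hshift c₀ (-h) hh']; exact hc₀, fun e => ?_⟩
        rw [he] at e
        have h8 : (2 * 2 * 2 : k) * (c₀ * c₀) = 0 := by linear_combination e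
        exact mul_ne_zero (mul_ne_zero (mul_ne_zero h2 h2) h2) (mul_ne_zero hc0 hc0) h8
      · refine ⟨c₀ + h, by rw [hshift c₀ h hh]; exact hc₀, fun e => ?_⟩
        have : h * (h + 2 * c₀) = 0 := by linear_combination e
        exact he (eq_neg_of_add_eq_zero_left ((mul_eq_zero.mp this).resolve_left hh0))
    · push Not at hH
      obtain ⟨ν, hν, hν2⟩ := exists_scalar h2 h3
      refine ⟨ν * c₀, hH _ (mul_ne_zero hν hc0), fun e => hν2 ?_⟩
      exact mul_right_cancel₀ (mul_ne_zero hc0 hc0) (by linear_combination e)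
  have hQ0 : (c₁ * c₁ - c₀ * c₀) • Q = 0 := by rw [sub_smul, ← hsq _ hc₁, ← hsq _ hc₀, sub_self]
  have hR0 : R = 0 := by rw [hsq _ hc₀, (smul_eq_zero.mp hQ0).resolve_left (sub_ne_zero.mpr hne), smul_zero]
  refine (opp_iff h2 h3 ha hqm).mp hopp ⟨?_, ?_⟩
  · rw [← sub_eq_zero.mp hR0, mul_assoc, ha.1.1, mul_zero]
  · rw [sub_eq_zero.mp hR0, mul_assoc, hqm.1.1, mul_zero]

/-- Components are normal in a group generated by quadratic elements. -/
theorem comp_normal_all (h2 : (2 : k) ≠ 0) (h3 : Nat.card k ≠ 3) (hG : Amb G)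
    (hgen : Subgroup.closure (Cfsg.quadraticElements G) = G) {A : Subgroup GLM}
    (hA : A ∈ Cfsg.quadraticRootSubgroups G) : ∀ g ∈ G, Cfsg.conjBy (compGrp G A) g ≤ compGrp G A := by
  suffices key : ∀ g ∈ Subgroup.closure (Cfsg.quadraticElements G), comp G (Cfsg.conjBy A g) = comp G A by
    intro g hg
    refine (compGrp_conj A hg).trans (le_of_eq ?_)
    rw [compGrp, compGrp, key g (hgen.symm ▸ hg)]
  intro g hg
  have hq : ∀ x ∈ Cfsg.quadraticElements G, ∀ B ∈ Cfsg.quadraticRootSubgroups G,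
      comp G (Cfsg.conjBy B x) = comp G B ∧ comp G (Cfsg.conjBy B x⁻¹) = comp G B := by
    intro x hx B hB
    obtain ⟨hL, -⟩ := mem_quadraticElements_iff.mp hx
    have hxe : x = uni ((x : ND) - 1) := (eq_uni_iff hL.1).mpr rfl
    constructor
    · rw [hxe]; simpa using comp_conj_eq h2 h3 hG hL hB 1
    · rw [hxe, uni_inv hL.1]; simpa using comp_conj_eq h2 h3 hG hL hB (-1)
  induction hg using Subgroup.closure_induction'' with
  | mem x hx => exact (hq x hx A hA).1
  | inv_mem x hx => exact (hq x hx A hA).2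
  | one => rw [conjBy_one]
  | mul x y hx' hy' hx hy =>
    rw [← conjBy_conjBy, comp_congr hy (sigma_conj hA (hgen ▸ hy')) (hgen ▸ hx'), hx]

theorem member_fixed (hb : IsMin G a) (h1 : δ * a = 0) {A : Subgroup GLM} (hA : A = root G a) {g : GLM} (hgG : g ∈ G)
    (hcomm : δ * (g : ND) = (g : ND) * δ) {x : GLM} (hx : x ∈ Cfsg.conjBy A g) :
    δ * ((x : ND) - 1) = 0 := by
  subst hA
  obtain ⟨c, hc, he⟩ := (mem_root_iff hb).mp (mem_conjBy.mp hx)
  have hx' : x = g * uni c * g⁻¹ := by rw [← he]; group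
  have hdc : δ * c = 0 := LinearMap.ext fun v => by
    obtain ⟨u, hu⟩ := hc.2.1 ⟨v, rfl⟩
    rw [Module.End.mul_apply, ← hu]
    exact DFunLike.congr_fun h1 u
  rw [hx', conj_uni hc.1.1, coe_uni (hc.1.conj hgG).1, add_sub_cancel_left, ← mul_assoc, ← mul_assoc, hcomm,
    mul_assoc (g : ND), hdc, mul_zero, zero_mul]

theorem decomp (h2 : (2 : k) ≠ 0) (h3 : Nat.card k ≠ 3) (hG : Amb G)
    (hgen : Subgroup.closure (Cfsg.quadraticElements G) = G) : ∀ {δ : ND}, InL G δ →
    Cen G δ ∨ ∃ A ∈ Cfsg.quadraticRootSubgroups G, ∀ c : k, uni (c • δ) ∈ compGrp G A := by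
  suffices key : ∀ n, ∀ δ : ND, InL G δ → Module.finrank k (LinearMap.range δ) = n →
      Cen G δ ∨ ∃ A ∈ Cfsg.quadraticRootSubgroups G, ∀ c : k, uni (c • δ) ∈ compGrp G A from
    fun {δ} hδ => key _ δ hδ rfl
  intro n
  induction n using Nat.strong_induction_on with
  | _ n ih =>
  intro δ hδ hn
  by_cases hz : Zer G δ
  · exact Or.inl (cen_of_zer h2 h3 hG hδ hz)
  simp only [Zer] at hz
  push Not at hz
  obtain ⟨a, ha, haδ⟩ := hz
  obtain ⟨b, hb, hrest, hbδ, hδb, hlt⟩ := reduce h2 h3 ha hδ ((zer_or_injective h2 h3 ha hδ).resolve_left haδ)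
  set δ' := δ - b with hδ'
  have hBmem : root G b ∈ Cfsg.quadraticRootSubgroups G := mem_sigma.mpr ⟨b, hb, rfl⟩
  refine Or.inr ⟨root G b, hBmem, ?_⟩
  have hbin : ∀ c : k, uni (c • b) ∈ compGrp G (root G b) := fun c =>
    le_compGrp (self_mem_comp hBmem) (uni_mem_root hb.1 c)
  -- an element commuting with the component and killing `b` is trivial
  have hkill : ∀ A₁ : Subgroup GLM, (∀ B ∈ comp G (root G b), ∀ x ∈ B, (uni δ' : GLM) * x = x * uni δ') → δ' = 0 := by
    intro _ hc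
    have hcall : ∀ g ∈ compGrp G (root G b), δ' * (g : ND) = (g : ND) * δ' := by
      intro g hg
      have hle : compGrp G (root G b) ≤ Subgroup.centralizer {(uni δ' : GLM)} := iSup₂_le fun B hB x hx =>
        Subgroup.mem_centralizer_singleton_iff.mpr (hc B hB x hx).symm
      have := congrArg Units.val (Subgroup.mem_centralizer_singleton_iff.mp (hle hg))
      rw [Units.val_mul, Units.val_mul, coe_uni hrest.1, mul_add, add_mul, mul_one, one_mul] at this
      exact (add_left_cancel this).symm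
    have hfix : LinearMap.range δ' ≤ Cfsg.fixedSubmodule (compGrp G (root G b)) := by
      rintro _ ⟨v, rfl⟩
      simp only [Cfsg.fixedSubmodule, Submodule.mem_iInf, LinearMap.mem_ker]
      intro x hx
      suffices hz : δ' * ((x : ND) - 1) = 0 by
        have := DFunLike.congr_fun hz v
        rw [mul_sub, mul_one, hcall x hx] at this
        simpa using this
      rw [compGrp, iSup_subtype', Subgroup.iSup_eq_closure] at hx
      induction hx using Subgroup.closure_induction'' with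
      | mem y hy =>
        obtain ⟨⟨B, hB⟩, hyB⟩ := Set.mem_iUnion.mp hy
        obtain ⟨g, hg, rfl⟩ := comp_conjugate hB
        exact member_fixed hb hδb rfl (comp_le hg) (hcall g hg) hyB
      | inv_mem y hy =>
        obtain ⟨⟨B, hB⟩, hyB⟩ := Set.mem_iUnion.mp hy
        obtain ⟨g, hg, rfl⟩ := comp_conjugate hB
        exact member_fixed hb hδb rfl (comp_le hg) (hcall g hg) (inv_mem hyB)
      | one => simp
      | mul y z _ _ hy hz =>
        have hz' : δ' * (z : ND) = δ' := sub_eq_zero.mp (by rwa [mul_sub, mul_one] at hz)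
        have hy' : δ' * (y : ND) = δ' := sub_eq_zero.mp (by rwa [mul_sub, mul_one] at hy)
        rw [mul_sub, mul_one, Units.val_mul, ← mul_assoc, hy', hz', sub_self]
    by_contra hne
    exact hne (LinearMap.range_eq_bot.mp (le_bot_iff.mp (hfix.trans (le_of_eq
      (fixed_eq_bot hG comp_le (comp_normal_all h2 h3 hG hgen hBmem) (fun e => root_ne_bot hb
        (le_bot_iff.mp (e ▸ le_compGrp (self_mem_comp hBmem)))))))))
  intro c
  have hsplit : uni (c • δ) = (uni (c • b) : GLM) * uni (c • δ') := by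
    rw [uni_mul (smul_sq hb.1.1 c) (smul_sq hrest.1 c) (by simp [hbδ]) (by simp [hδb]), ← smul_add, hδ',
      add_sub_cancel]
  rw [hsplit]
  rcases ih _ (hn ▸ hlt) δ' hrest rfl with h | ⟨A, hA, h⟩
  · rw [hkill ⊥ fun B hB x hx => h.mem_root hrest hB.1 hx]
    simpa [uni_zero] using hbin c
  · by_cases he : comp G A = comp G (root G b)
    · exact mul_mem (hbin c) (by simpa [compGrp, he] using h c)
    · rw [hkill A fun B hB x hx => commute_of_commutator_eq_bot (comp_commute h2 h3 hG he)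
        (by simpa using h 1) (le_compGrp hB hx)]
      simpa [uni_zero] using hbin c

end Cfsg.Agent.Lib.QuadPair
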