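import Cfsg.Agent.Lib.QuadPair.Basic

/-!
Pairs of minimal elements with `a b a = 0 = b a b`.
-/

namespace Cfsg.Agent.Lib.QuadPair

open LinearMap

variable {k : Type*} [Field k] {M : Type*} [AddCommGroup M] [Module k M] [FiniteDimensional k M]
variable {G : Subgroup (LinearMap.GeneralLinearGroup k M)} {a b : M →ₗ[k] M}

local notation "GLM" => LinearMap.GeneralLinearGroup k M
local notation "ND" => M →ₗ[k] M
local notation "dim" => Module.finrank k

omit [FiniteDimensional k M] in
theorem map_range_le_inf (h : b * a * b = 0) :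
    (LinearMap.range b).map a ≤ LinearMap.range a ⊓ LinearMap.ker b := by
  rintro _ ⟨_, ⟨v, rfl⟩, rfl⟩
  exact ⟨⟨_, rfl⟩, DFunLike.congr_fun h v⟩

/-- Rank and nullity of `a` on a subspace. -/
theorem finrank_map_add (a : M →ₗ[k] M) (X : Submodule k M) :
    Module.finrank k (X.map a) + Module.finrank k (X ⊓ LinearMap.ker a : Submodule k M) = Module.finrank k X := by
  rw [← LinearMap.finrank_range_add_finrank_ker (a.domRestrict X), LinearMap.range_domRestrict]
  congr 1
  refine (LinearEquiv.finrank_eq ((Submodule.equivMapOfInjective _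
    (Submodule.injective_subtype _) _).trans (LinearEquiv.ofEq _ _ ?_))).symm
  rw [LinearMap.ker_domRestrict, Submodule.map_comap_subtype]

theorem IsMin.finrank_eq (ha : IsMin G a) (hb : IsMin G b) :
    Module.finrank k (LinearMap.range a) = Module.finrank k (LinearMap.range b) :=
  le_antisymm (ha.2.2 b hb.1 hb.2.1) (hb.2.2 a ha.1 ha.2.1)

/-- The bracket is in the family. -/
theorem bracket_inL (ha : IsMin G a) (hb : IsMin G b) (h : a * b * a = 0) (h' : b * a * b = 0) :
    InL G (b * a - a * b) := by
  have hc := ha.1.conj hb.1.uni_mem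
  rw [coe_uni hb.1.1, coe_uni_inv hb.1.1] at hc
  have e : (1 + b) * a * (1 - b) = a + (b * a - a * b) - b * a * b := by noncomm_ring
  rw [e, h', sub_zero] at hc
  have := hc.sub ha.1 (by rw [add_mul, sub_mul, ha.1.1, h, mul_assoc, ha.1.1]; simp)
    (by rw [mul_add, mul_sub, ha.1.1, ← mul_assoc, ← mul_assoc, h, ha.1.1]; simp)
  simpa using this

omit [FiniteDimensional k M] in
theorem range_bracket_le :
    LinearMap.range (b * a - a * b) ≤ (LinearMap.range b).map a ⊔ (LinearMap.range a).map b := by
  rintro _ ⟨v, rfl⟩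
  rw [LinearMap.sub_apply]
  exact sub_mem (Submodule.mem_sup_right ⟨a v, ⟨v, rfl⟩, rfl⟩) (Submodule.mem_sup_left ⟨b v, ⟨v, rfl⟩, rfl⟩)

/-- The two subspaces of the bracket, as functions of the subspaces of `a` and `b`. -/
def brR (a b : M →ₗ[k] M) : Submodule k M :=
  (LinearMap.range a ⊓ LinearMap.ker b) ⊔ (LinearMap.range b ⊓ LinearMap.ker a)

@[inherit_doc brR]
def brK (a b : M →ₗ[k] M) : Submodule k M :=
  (LinearMap.range a ⊔ LinearMap.ker b) ⊓ (LinearMap.range b ⊔ LinearMap.ker a)

/-- The numerical condition for non-commuting unipotent pairs. -/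
def Skew (a b : M →ₗ[k] M) : Prop :=
  LinearMap.range a ⊓ LinearMap.range b = ⊥ ∧
    Module.finrank k (LinearMap.range a ⊓ LinearMap.ker b : Submodule k M) +
      Module.finrank k (LinearMap.range b ⊓ LinearMap.ker a : Submodule k M) = Module.finrank k (LinearMap.range a)

theorem skew_of_ne (ha : IsMin G a) (hb : IsMin G b) (h : a * b * a = 0) (h' : b * a * b = 0)
    (hne : a * b ≠ b * a) :
    Skew a b ∧ IsMin G (b * a - a * b) ∧ LinearMap.range (b * a - a * b) = brR a b ∧
      LinearMap.ker (b * a - a * b) = brK a b ∧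
      (LinearMap.range b).map a = LinearMap.range a ⊓ LinearMap.ker b ∧
      (LinearMap.range a).map b = LinearMap.range b ⊓ LinearMap.ker a := by
  have hw := bracket_inL ha hb h h'
  have hw0 : b * a - a * b ≠ 0 := fun e => hne (sub_eq_zero.mp e).symm
  have h1 := ha.2.2 _ hw hw0
  have hd := ha.finrank_eq hb
  have hA := map_range_le_inf h'
  have hB := map_range_le_inf h
  have hsum := (Submodule.finrank_mono (range_bracket_le (a := a) (b := b))).trans
    (Submodule.finrank_add_le_finrank_add_finrank _ _)
  have e1 := finrank_map_add a (LinearMap.range b)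
  have e2 := finrank_map_add b (LinearMap.range a)
  have l1 := Submodule.finrank_mono hA
  have l2 := Submodule.finrank_mono hB
  have eA : (LinearMap.range b).map a = LinearMap.range a ⊓ LinearMap.ker b :=
    Submodule.eq_of_le_of_finrank_le hA (by omega)
  have eB : (LinearMap.range a).map b = LinearMap.range b ⊓ LinearMap.ker a :=
    Submodule.eq_of_le_of_finrank_le hB (by omega)
  have hr : LinearMap.range (b * a - a * b) = brR a b := by
    refine Submodule.eq_of_le_of_finrank_le (range_bracket_le.trans (by rw [eA, eB, brR])) ?_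
    refine le_trans ?_ h1
    exact (Submodule.finrank_add_le_finrank_add_finrank _ _).trans (by omega)
  have hdis : (LinearMap.range a ⊓ LinearMap.ker b) ⊓ (LinearMap.range b ⊓ LinearMap.ker a) = (⊥ : Submodule k M) := by
    have := Submodule.finrank_sup_add_finrank_inf_eq (LinearMap.range a ⊓ LinearMap.ker b)
      (LinearMap.range b ⊓ LinearMap.ker a)
    rw [← brR, ← hr] at this
    rw [← Submodule.finrank_eq_zero (R := k)]
    omega
  refine ⟨⟨?_, by omega⟩, ⟨hw, hw0, fun c hc hc0 => le_trans ?_ (ha.2.2 c hc hc0)⟩, hr, ?_, eA, eB⟩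
  · rw [eq_bot_iff, ← hdis]
    exact le_inf (le_inf inf_le_left (inf_le_right.trans (range_le_ker hb.1.1)))
      (le_inf inf_le_right (inf_le_left.trans (range_le_ker ha.1.1)))
  · omega
  · symm
    refine Submodule.eq_of_le_of_finrank_le ?_ ?_
    · rintro v ⟨hv1, hv2⟩
      obtain ⟨r, ⟨u, rfl⟩, x, hx, rfl⟩ := Submodule.mem_sup.mp hv1
      obtain ⟨r', ⟨u', rfl⟩, y, hy, hy'⟩ := Submodule.mem_sup.mp hv2
      rw [LinearMap.mem_ker] at hx hy ⊢
      rw [LinearMap.sub_apply, sub_eq_zero]
      have g1 : b (a (b u' + y)) = 0 := by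
        rw [map_add, hy, add_zero]; exact DFunLike.congr_fun h' u'
      have g2 : a (b (a u + x)) = 0 := by
        rw [map_add, hx, add_zero]; exact DFunLike.congr_fun h u
      rw [hy'] at g1
      exact g1.trans g2.symm
    · have c1 := Submodule.finrank_sup_add_finrank_inf_eq (LinearMap.range a) (LinearMap.ker b)
      have c2 := Submodule.finrank_sup_add_finrank_inf_eq (LinearMap.range b) (LinearMap.ker a)
      have c3 := Submodule.finrank_sup_add_finrank_inf_eq (LinearMap.range a ⊔ LinearMap.ker b)
        (LinearMap.range b ⊔ LinearMap.ker a)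
      have c4 := Submodule.finrank_le ((LinearMap.range a ⊔ LinearMap.ker b) ⊔ (LinearMap.range b ⊔ LinearMap.ker a))
      have r1 := LinearMap.finrank_range_add_finrank_ker (b * a - a * b)
      have r2 := LinearMap.finrank_range_add_finrank_ker a
      have r3 := LinearMap.finrank_range_add_finrank_ker b
      rw [← brK] at c3
      omega

theorem ne_of_skew (ha : IsMin G a) (hb : IsMin G b) (hs : Skew a b) : a * b ≠ b * a := by
  intro e
  obtain ⟨hR, hd⟩ := hs
  have hab : a * b = 0 := by
    ext v
    have : (a * b) v ∈ LinearMap.range a ⊓ LinearMap.range b :=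
      ⟨⟨b v, rfl⟩, by rw [e]; exact ⟨a v, rfl⟩⟩
    rw [hR, Submodule.mem_bot] at this
    exact this
  have hP : LinearMap.range a ⊓ LinearMap.ker b = LinearMap.range a := by
    refine inf_eq_left.mpr ?_
    rintro _ ⟨v, rfl⟩
    exact DFunLike.congr_fun (e.symm.trans hab) v
  have hP' : LinearMap.range b ⊓ LinearMap.ker a = LinearMap.range b := by
    refine inf_eq_left.mpr ?_
    rintro _ ⟨v, rfl⟩
    exact DFunLike.congr_fun hab v
  rw [hP, hP', ← ha.finrank_eq hb] at hd
  have : Module.finrank k (LinearMap.range a) = 0 := by omega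
  exact ha.range_ne_bot (Submodule.finrank_eq_zero.mp this)

theorem commute_of_common_range (ha : IsMin G a) (hb : IsMin G b) (h : a * b * a = 0) (h' : b * a * b = 0)
    (hR : LinearMap.range a ⊓ LinearMap.range b ≠ ⊥) : a * b = b * a := by
  by_contra hne
  exact hR (skew_of_ne ha hb h h' hne).1.1

end Cfsg.Agent.Lib.QuadPair
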