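import Cfsg.Agent.Lib.QuadPair.Basic

/-!
Two minimal elements with nilpotent product satisfy `a b a = 0`.
-/

namespace Cfsg.Agent.Lib.QuadPair

variable {k : Type*} [Field k] {M : Type*} [AddCommGroup M] [Module k M]

local notation "GLM" => LinearMap.GeneralLinearGroup k M
local notation "ND" => M →ₗ[k] M

/-- The alternating product of length `n` starting with `a`. -/
def alt : (M →ₗ[k] M) → (M →ₗ[k] M) → ℕ → (M →ₗ[k] M)
  | _, _, 0 => 1
  | a, b, n + 1 => a * alt b a n

variable {a b : M →ₗ[k] M}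

@[simp] theorem alt_zero : alt a b 0 = 1 := rfl

theorem alt_succ (n : ℕ) : alt a b (n + 1) = a * alt b a n := rfl

theorem alt_one : alt a b 1 = a := by simp [alt_succ]

theorem alt_two_mul (m : ℕ) : alt a b (2 * m) = (a * b) ^ m := by
  induction m with
  | zero => simp
  | succ m ih =>
    rw [show 2 * (m + 1) = 2 * m + 1 + 1 by ring, alt_succ, alt_succ, ih, pow_succ', mul_assoc]

theorem alt_two_mul_add_one (m : ℕ) : alt a b (2 * m + 1) = (a * b) ^ m * a := by
  induction m with
  | zero => simp [alt_succ]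
  | succ m ih =>
    rw [show 2 * (m + 1) + 1 = 2 * m + 1 + 1 + 1 by ring, alt_succ, alt_succ, ih, pow_succ']
    simp [mul_assoc]

variable (a b) in
/-- The span of the alternating products of length at least `j`. -/
def filt (j : ℕ) : Submodule k (M →ₗ[k] M) :=
  Submodule.span k {w | ∃ i, j ≤ i ∧ (w = alt a b i ∨ w = alt b a i)}

theorem alt_mem_filt {i j : ℕ} (h : j ≤ i) : alt a b i ∈ filt a b j :=
  Submodule.subset_span ⟨i, h, Or.inl rfl⟩

theorem alt_mem_filt' {i j : ℕ} (h : j ≤ i) : alt b a i ∈ filt a b j :=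
  Submodule.subset_span ⟨i, h, Or.inr rfl⟩

theorem filt_mono {i j : ℕ} (h : i ≤ j) : filt a b j ≤ filt a b i :=
  Submodule.span_mono fun _ ⟨l, hl, hw⟩ => ⟨l, h.trans hl, hw⟩

theorem mul_alt_cases (ha : a * a = 0) (n : ℕ) {w : M →ₗ[k] M}
    (hw : w = 0 ∨ w = alt a b n ∨ w = alt b a n) : a * w = 0 ∨ a * w = alt a b (n + 1) := by
  rcases hw with rfl | rfl | rfl
  · simp
  · rcases n with _ | n
    · right; simp [alt_succ]
    · left; rw [alt_succ, ← mul_assoc, ha, zero_mul]
  · exact Or.inr rfl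

theorem alt_mul_alt : ∀ (i j : ℕ) {a b : M →ₗ[k] M}, a * a = 0 → b * b = 0 → ∀ w, (w = alt a b j ∨ w = alt b a j) →
    alt a b i * w = 0 ∨ alt a b i * w = alt a b (i + j) ∨ alt a b i * w = alt b a (i + j) := by
  intro i
  induction i with
  | zero =>
    intro j a b _ _ w hw
    rw [alt_zero, one_mul, Nat.zero_add]
    exact Or.inr hw
  | succ i ih =>
    intro j a b ha hb w hw
    rw [alt_succ, mul_assoc, show i + 1 + j = (i + j) + 1 by ring]
    have := mul_alt_cases ha (i + j) (b := b) (w := alt b a i * w)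
      (by rcases ih j hb ha w hw.symm with h | h | h
          exacts [Or.inl h, Or.inr (Or.inr h), Or.inr (Or.inl h)])
    rcases this with h | h
    exacts [Or.inl h, Or.inr (Or.inl h)]

theorem filt_mul (ha : a * a = 0) (hb : b * b = 0) {i j : ℕ} {x y : M →ₗ[k] M}
    (hx : x ∈ filt a b i) (hy : y ∈ filt a b j) : x * y ∈ filt a b (i + j) := by
  refine Submodule.span_induction ?_ ?_ ?_ ?_ hx
  · rintro x ⟨i', hi, hx'⟩
    refine Submodule.span_induction ?_ ?_ ?_ ?_ hy
    · rintro y ⟨j', hj, hy'⟩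
      rcases hx' with rfl | rfl
      · rcases alt_mul_alt i' j' ha hb y hy' with h | h | h <;> rw [h]
        exacts [Submodule.zero_mem _, alt_mem_filt (by omega), alt_mem_filt' (by omega)]
      · rcases alt_mul_alt i' j' hb ha y hy'.symm with h | h | h <;> rw [h]
        exacts [Submodule.zero_mem _, alt_mem_filt' (by omega), alt_mem_filt (by omega)]
    · simp
    · intro u v _ _ hu hv; rw [mul_add]; exact add_mem hu hv
    · intro c u _ hu; rw [mul_smul_comm]; exact Submodule.smul_mem _ c hu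
  · simp
  · intro u v _ _ hu hv; rw [add_mul]; exact add_mem hu hv
  · intro c u _ hu; rw [smul_mul_assoc]; exact Submodule.smul_mem _ c hu

theorem alt_eq_zero_of_le : ∀ (i : ℕ) {n : ℕ} {a b : M →ₗ[k] M}, alt a b n = 0 → alt b a n = 0 →
    n ≤ i → alt a b i = 0 := by
  intro i
  induction i with
  | zero =>
    intro n a b h _ hn
    rwa [Nat.le_zero.mp hn] at h
  | succ i ih =>
    intro n a b h h' hn
    rcases hn.eq_or_lt with e | e
    · rwa [e] at h
    · rw [alt_succ, ih h' h (Nat.lt_succ_iff.mp e), mul_zero]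

theorem filt_mul_le (ha : a * a = 0) (hb : b * b = 0) {i j l : ℕ} (hl : l ≤ i + j) {x y : M →ₗ[k] M}
    (hx : x ∈ filt a b i) (hy : y ∈ filt a b j) : x * y ∈ filt a b l :=
  filt_mono hl (filt_mul ha hb hx hy)

theorem filt_eq_zero {n j : ℕ} (h : alt a b n = 0) (h' : alt b a n = 0) (hj : n ≤ j) {x : M →ₗ[k] M}
    (hx : x ∈ filt a b j) : x = 0 := by
  refine Submodule.span_induction ?_ rfl (fun u v _ _ hu hv => by rw [hu, hv, add_zero])
    (fun c u _ hu => by rw [hu, smul_zero]) hx
  rintro w ⟨i, hi, rfl | rfl⟩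
  exacts [alt_eq_zero_of_le i h h' (hj.trans hi), alt_eq_zero_of_le i h' h (hj.trans hi)]

theorem self_mem_filt : a ∈ filt a b 1 := by
  simpa [alt_one] using alt_mem_filt (a := a) (b := b) (le_refl 1)

theorem self_mem_filt' : b ∈ filt a b 1 := by
  simpa [alt_one] using alt_mem_filt' (a := a) (b := b) (le_refl 1)

theorem filt_eq_bot {n : ℕ} (h : alt a b n = 0) (h' : alt b a n = 0) : filt a b n = ⊥ := by
  rw [filt, Submodule.span_eq_bot]
  rintro w ⟨i, hi, rfl | rfl⟩
  exacts [alt_eq_zero_of_le i h h' hi, alt_eq_zero_of_le i h' h hi]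

/-- An element of `G` whose leading term is `w`. -/
def HasLead (G : Subgroup GLM) (a b : ND) (j : ℕ) (w : ND) : Prop :=
  ∃ g ∈ G, (g : ND) - 1 - w ∈ filt a b (j + 1) ∧ ((g : ND) - 1) + (((g⁻¹ : GLM) : ND) - 1) ∈ filt a b (j + 1)

variable {G : Subgroup (LinearMap.GeneralLinearGroup k M)}

/-- The conjugate minus the element has the bracket as leading term. -/
theorem lead_diff (ha : a * a = 0) (hb : b * b = 0) {j : ℕ} (hj : 1 ≤ j) {w c : M →ₗ[k] M} (hw : w ∈ filt a b j)
    (hc : c ∈ filt a b 1) {g : LinearMap.GeneralLinearGroup k M}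
    (h1 : (g : M →ₗ[k] M) - 1 - w ∈ filt a b (j + 1))
    (h2 : ((g : M →ₗ[k] M) - 1) + (((g⁻¹ : LinearMap.GeneralLinearGroup k M) : M →ₗ[k] M) - 1) ∈ filt a b (j + 1)) :
    ((g : M →ₗ[k] M) * c * ((g⁻¹ : LinearMap.GeneralLinearGroup k M) : M →ₗ[k] M) - c) - (w * c - c * w)
      ∈ filt a b (j + 2) := by
  set x := (g : ND) - 1 with hx
  set y := ((g⁻¹ : GLM) : ND) - 1 with hy
  have hxj : x ∈ filt a b j := by
    simpa using add_mem (filt_mono (Nat.le_succ j) h1) hw
  have hyj : y ∈ filt a b j := by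
    simpa using sub_mem (filt_mono (Nat.le_succ j) h2) hxj
  have e : ((g : ND) * c * ((g⁻¹ : GLM) : ND) - c) - (w * c - c * w) =
      (x - w) * c + c * (x + y) - c * (x - w) + x * c * y := by
    rw [hx, hy]; noncomm_ring
  rw [e]
  have h3 : x * c * y ∈ filt a b (j + 2) :=
    filt_mono (by omega) (filt_mul ha hb (filt_mul ha hb hxj hc) hyj)
  refine add_mem (sub_mem (add_mem (filt_mul_le ha hb (by omega) h1 hc) ?_) ?_) h3
  · exact filt_mul_le ha hb (by omega) hc h2
  · exact filt_mul_le ha hb (by omega) hc h1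

/-- The bracket step. -/
theorem lead_step (ha : a * a = 0) (hb : b * b = 0) {j : ℕ} (hj : 1 ≤ j) {w c : M →ₗ[k] M}
    (hw : w ∈ filt a b j) (hcF : c ∈ filt a b 1) (hc : InL G c) (h : HasLead G a b j w) :
    HasLead G a b (j + 1) (w * c - c * w) := by
  obtain ⟨g, hg, h1, h2⟩ := h
  have hd := lead_diff ha hb hj hw hcF h1 h2
  set W := (g : ND) * c * ((g⁻¹ : GLM) : ND) - c with hW
  have hc' := hc.conj hg
  have hWF : W ∈ filt a b (j + 1) := by
    have : w * c - c * w ∈ filt a b (j + 1) :=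
      sub_mem (filt_mul ha hb hw hcF) (filt_mono (by omega) (filt_mul ha hb hcF hw))
    simpa using add_mem (filt_mono (Nat.le_succ _) hd) this
  refine ⟨g * uni c * g⁻¹ * uni (-c), G.mul_mem (G.mul_mem (G.mul_mem hg hc.uni_mem) (G.inv_mem hg)) hc.neg.uni_mem, ?_, ?_⟩
  all_goals rw [conj_uni hc.1]
  · rw [Units.val_mul, coe_uni hc'.1, coe_uni hc.neg.1]
    have e : (1 + (g : ND) * c * ((g⁻¹ : GLM) : ND)) * (1 + -c) - 1 - (w * c - c * w) =
        (W - (w * c - c * w)) - W * c - c * c := by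
      rw [hW]; noncomm_ring
    rw [e, hc.1, sub_zero]
    exact sub_mem hd (filt_mul ha hb hWF hcF)
  · rw [mul_inv_rev, uni_inv hc.neg.1, uni_inv hc'.1, neg_neg, Units.val_mul, Units.val_mul,
      coe_uni hc'.1, coe_uni hc.neg.1, coe_uni hc.1, coe_uni hc'.neg.1]
    have e : (1 + (g : ND) * c * ((g⁻¹ : GLM) : ND)) * (1 + -c) - 1 +
        ((1 + c) * (1 + -((g : ND) * c * ((g⁻¹ : GLM) : ND))) - 1) = -(W * c) - c * W - c * c - c * c := by
      rw [hW]; noncomm_ring
    rw [e, hc.1, sub_zero, sub_zero]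
    refine sub_mem (neg_mem (filt_mul ha hb hWF hcF)) ?_
    exact filt_mono (by omega) (filt_mul ha hb hcF hWF)

theorem comm_odd (i : ℕ) (hb : b * b = 0) :
    alt a b (2 * i + 1) * b - b * alt a b (2 * i + 1) = alt a b (2 * (i + 1)) - alt b a (2 * (i + 1)) := by
  have e : b * alt a b (2 * i + 1) = alt b a (2 * (i + 1)) := rfl
  rw [e, alt_two_mul_add_one, alt_two_mul, alt_two_mul, pow_succ, pow_succ, mul_assoc]

theorem comm_even (i : ℕ) (ha : a * a = 0) :
    (alt a b (2 * (i + 1)) - alt b a (2 * (i + 1))) * a - a * (alt a b (2 * (i + 1)) - alt b a (2 * (i + 1))) =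
      (2 : k) • alt a b (2 * (i + 1) + 1) := by
  have e : a * alt b a (2 * (i + 1)) = alt a b (2 * (i + 1) + 1) := rfl
  have e2 : a * alt a b (2 * (i + 1)) = 0 := by
    rw [show 2 * (i + 1) = 2 * i + 1 + 1 by ring, alt_succ, ← mul_assoc, ha, zero_mul]
  have e3 : alt b a (2 * (i + 1)) * a = 0 := by
    rw [alt_two_mul, pow_succ, mul_assoc, mul_assoc, ha, mul_zero, mul_zero]
  rw [sub_mul, mul_sub, e, e2, e3, alt_two_mul, ← alt_two_mul_add_one, two_smul]
  abel

theorem lead_odd (haL : InL G a) (hbL : InL G b) : ∀ i : ℕ,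
    HasLead G a b (2 * i + 1) ((2 : k) ^ i • alt a b (2 * i + 1)) ∧
      HasLead G a b (2 * (i + 1)) ((2 : k) ^ i • (alt a b (2 * (i + 1)) - alt b a (2 * (i + 1)))) := by
  have second : ∀ i : ℕ, HasLead G a b (2 * i + 1) ((2 : k) ^ i • alt a b (2 * i + 1)) →
      HasLead G a b (2 * (i + 1)) ((2 : k) ^ i • (alt a b (2 * (i + 1)) - alt b a (2 * (i + 1)))) := by
    intro i h
    have := lead_step haL.1 hbL.1 (by omega) (Submodule.smul_mem _ _ (alt_mem_filt le_rfl)) self_mem_filt' hbL h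
    rwa [smul_mul_assoc, mul_smul_comm, ← smul_sub, comm_odd i hbL.1] at this
  intro i
  induction i with
  | zero =>
    refine (fun h => ⟨h, second 0 h⟩) ⟨uni a, haL.uni_mem, ?_, ?_⟩ <;>
      simp [coe_uni haL.1, coe_uni_inv haL.1, alt_succ]
  | succ i ih =>
    refine (fun h => ⟨h, second _ h⟩) ?_
    have := lead_step haL.1 hbL.1 (by omega)
      (Submodule.smul_mem _ _ (sub_mem (alt_mem_filt le_rfl) (alt_mem_filt' le_rfl))) self_mem_filt haL ih.2
    rwa [smul_mul_assoc, mul_smul_comm, ← smul_sub, comm_even i haL.1, smul_smul, ← pow_succ] at this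

section FiniteDim

variable [FiniteDimensional k M]

/-- A nilpotent endomorphism strictly shrinks an invariant non-zero subspace. -/
theorem finrank_map_lt {T : M →ₗ[k] M} {X : Submodule k M} (hX : X ≠ ⊥) (hT : X.map T ≤ X) {N : ℕ}
    (hN : ∀ v ∈ X, (T ^ N) v = 0) {m : ℕ} (hm : 1 ≤ m) :
    Module.finrank k (X.map (T ^ m)) < Module.finrank k X := by
  have hle : ∀ i, X.map (T ^ i) ≤ X := by
    intro i
    induction i with
    | zero => simp [Module.End.one_eq_id]
    | succ i ih =>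
      rw [pow_succ', Module.End.mul_eq_comp, Submodule.map_comp]
      exact (Submodule.map_mono ih).trans hT
  refine Submodule.finrank_lt_finrank_of_lt (lt_of_le_of_ne (hle m) fun e => hX ?_)
  have hj : ∀ j, X.map (T ^ (m * j)) = X := by
    intro j
    induction j with
    | zero => simp [Module.End.one_eq_id]
    | succ j ih => rw [Nat.mul_succ, pow_add, Module.End.mul_eq_comp, Submodule.map_comp, e, ih]
  rw [eq_bot_iff, ← hj N]
  rintro _ ⟨v, hv, rfl⟩
  rw [Submodule.mem_bot, show m * N = (m * N - N) + N by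
    have : N ≤ m * N := Nat.le_mul_of_pos_left N hm
    omega, pow_add, Module.End.mul_apply, hN v hv, map_zero]

theorem range_le_range_alt (a b : M →ₗ[k] M) (m : ℕ) :
    LinearMap.range (alt a b (2 * m + 1)) = (LinearMap.range a).map ((a * b) ^ m) := by
  rw [alt_two_mul_add_one, Module.End.mul_eq_comp, LinearMap.range_comp]

theorem range_invariant (a b : M →ₗ[k] M) : (LinearMap.range a).map (a * b) ≤ LinearMap.range a := by
  rintro _ ⟨v, -, rfl⟩
  exact ⟨b v, rfl⟩

theorem alt_odd_eq_zero (haL : IsMin G a) (hbL : InL G b) (h2 : (2 : k) ≠ 0) {m : ℕ} (hm : 1 ≤ m)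
    (h : alt a b (2 * m + 2) = 0) (h' : alt b a (2 * m + 2) = 0) : alt a b (2 * m + 1) = 0 := by
  obtain ⟨i, rfl⟩ : ∃ i, m = i + 1 := ⟨m - 1, by omega⟩
  obtain ⟨g, hg, h1, hy⟩ := (lead_odd haL.1 hbL i).2
  have hd := lead_diff haL.1.1 hbL.1 (by omega) (Submodule.smul_mem _ _ (sub_mem (alt_mem_filt le_rfl) (alt_mem_filt' le_rfl)))
    (self_mem_filt (b := b)) h1 hy
  rw [smul_mul_assoc, mul_smul_comm, ← smul_sub, comm_even i haL.1.1, smul_smul, ← pow_succ] at hd
  replace hd := sub_eq_zero.mp (filt_eq_zero h h' (by omega) hd)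
  have hz : ∀ w : M →ₗ[k] M, w ∈ filt a b (2 * (i + 1) + 1) → w * a = 0 ∧ a * w = 0 := fun w hw =>
    ⟨filt_eq_zero h h' (by omega) (filt_mul haL.1.1 hbL.1 hw (self_mem_filt (a := a) (b := b))),
      filt_eq_zero h h' (by omega) (filt_mul haL.1.1 hbL.1 (self_mem_filt (a := a) (b := b)) hw)⟩
  set a' := (g : ND) * a * ((g⁻¹ : GLM) : ND) with ha'
  have hW : a' - a ∈ filt a b (2 * (i + 1) + 1) := by
    rw [hd]; exact Submodule.smul_mem _ _ (alt_mem_filt le_rfl)
  obtain ⟨z1, z2⟩ := hz _ hW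
  rw [sub_mul, haL.1.1, sub_zero] at z1
  rw [mul_sub, haL.1.1, sub_zero] at z2
  have hL : InL G ((2 : k) ^ (i + 1) • alt a b (2 * (i + 1) + 1)) := by
    rw [← hd]; exact (haL.1.conj hg).sub haL.1 z1 z2
  by_contra hne
  have hsm : InL G (alt a b (2 * (i + 1) + 1)) := by
    have := hL.smul ((2 : k) ^ (i + 1))⁻¹
    rwa [inv_smul_smul₀ (pow_ne_zero _ h2)] at this
  refine hne (haL.eq_zero_of_lt hsm ?_)
  rw [range_le_range_alt]
  refine finrank_map_lt haL.range_ne_bot (range_invariant a b) (N := i + 2) ?_ (by omega)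
  rintro _ ⟨v, rfl⟩
  have h0 := alt_eq_zero_of_le (2 * (i + 2) + 1) h h' (by omega)
  rw [alt_two_mul_add_one] at h0
  exact DFunLike.congr_fun h0 v

theorem alt_even_eq_zero (haL : IsMin G a) (hbL : IsMin G b) (h2 : (2 : k) ≠ 0) {m : ℕ} (hm : 2 ≤ m)
    (h : alt a b (2 * m + 1) = 0) (h' : alt b a (2 * m + 1) = 0) :
    alt a b (2 * m) = 0 ∧ alt b a (2 * m) = 0 := by
  obtain ⟨i, rfl⟩ : ∃ i, m = i + 2 := ⟨m - 2, by omega⟩
  have haa := haL.1.1
  have hbb := hbL.1.1
  set P := (a * b) ^ (i + 1) with hP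
  have hPR : ∀ v ∈ LinearMap.range a, (a * b) (P v) = 0 := by
    rintro _ ⟨v, rfl⟩
    rw [← Module.End.mul_apply, hP, ← pow_succ', ← Module.End.mul_apply, ← alt_two_mul_add_one, h]
    rfl
  have hnil : ∀ v ∈ LinearMap.range a, ((a * b) ^ (i + 2)) v = 0 := fun v hv => by
    rw [pow_succ', Module.End.mul_apply]; exact hPR v hv
  -- first the difference of the two longest products
  have hz : alt a b (2 * (i + 2)) - alt b a (2 * (i + 2)) = 0 := by
    obtain ⟨g, hg, h1, hy⟩ := (lead_odd haL.1 hbL.1 (i + 1)).1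
    have hd := lead_diff haa hbb (by omega) (Submodule.smul_mem _ _ (alt_mem_filt le_rfl))
      (self_mem_filt' (a := a)) h1 hy
    rw [smul_mul_assoc, mul_smul_comm, ← smul_sub, comm_odd _ hbb] at hd
    replace hd := sub_eq_zero.mp (filt_eq_zero h h' (by omega) hd)
    have hW : (g : ND) * b * ((g⁻¹ : GLM) : ND) - b ∈ filt a b (2 * (i + 2)) := by
      rw [hd]; exact Submodule.smul_mem _ _ (sub_mem (alt_mem_filt le_rfl) (alt_mem_filt' le_rfl))
    have z1 := filt_mul haa hbb hW (self_mem_filt' (a := a))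
    have z2 := filt_mul haa hbb (self_mem_filt' (a := a)) hW
    replace z1 := filt_eq_zero h h' (by omega) z1
    replace z2 := filt_eq_zero h h' (by omega) z2
    rw [sub_mul, hbb, sub_zero] at z1
    rw [mul_sub, hbb, sub_zero] at z2
    have hL := ((hbL.1.conj hg).sub hbL.1 z1 z2).smul ((2 : k) ^ (i + 1))⁻¹
    rw [hd, inv_smul_smul₀ (pow_ne_zero _ h2)] at hL
    by_cases hX : (LinearMap.range b).map a = ⊥
    · have hab : a * b = 0 := by
        ext v
        have : a (b v) ∈ (LinearMap.range b).map a := Submodule.mem_map_of_mem ⟨v, rfl⟩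
        rw [hX, Submodule.mem_bot] at this
        exact this
      have e1 : alt a b (2 * (i + 2)) = 0 := by rw [alt_two_mul, hab, zero_pow (by omega)]
      have e2 : alt b a (2 * (i + 2)) = 0 := by
        rw [show 2 * (i + 2) = 2 * (i + 1) + 1 + 1 by ring, alt_succ, alt_two_mul_add_one, hab,
          zero_pow (by omega), zero_mul, mul_zero]
      rw [e1, e2, sub_zero]
    · refine haL.eq_zero_of_lt hL ?_
      set X := (LinearMap.range b).map a with hXdef
      have hXR : X ≤ LinearMap.range a := LinearMap.map_le_range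
      have hr1 : LinearMap.range (alt a b (2 * (i + 2))) ≤ X.map P := by
        rw [alt_two_mul, hP, pow_succ, Module.End.mul_eq_comp, LinearMap.range_comp, Module.End.mul_eq_comp,
          LinearMap.range_comp]
      have hr2 : LinearMap.range (alt b a (2 * (i + 2))) ≤ LinearMap.range b ⊓ LinearMap.ker a := by
        rintro _ ⟨v, rfl⟩
        rw [show 2 * (i + 2) = 2 * (i + 1) + 1 + 1 by ring, alt_succ, alt_two_mul_add_one]
        exact ⟨⟨_, rfl⟩, hPR (a v) ⟨v, rfl⟩⟩
      have hlt : Module.finrank k (X.map P) < Module.finrank k X := by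
        refine finrank_map_lt hX ?_ (fun v hv => hnil v (hXR hv)) (by omega)
        rintro _ ⟨_, ⟨v, hv, rfl⟩, rfl⟩
        exact ⟨b (a v), ⟨_, rfl⟩, rfl⟩
      have hsum : Module.finrank k X + Module.finrank k (LinearMap.range b ⊓ LinearMap.ker a : Submodule k M) =
          Module.finrank k (LinearMap.range b) := by
        rw [← LinearMap.finrank_range_add_finrank_ker (a.domRestrict (LinearMap.range b)),
          LinearMap.range_domRestrict, hXdef]
        congr 1
        refine (LinearEquiv.finrank_eq ((Submodule.equivMapOfInjective _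
          (Submodule.injective_subtype _) _).trans (LinearEquiv.ofEq _ _ ?_))).symm
        rw [LinearMap.ker_domRestrict, Submodule.map_comap_subtype]
      have hbd : Module.finrank k (LinearMap.range b) ≤ Module.finrank k (LinearMap.range a) :=
        hbL.2.2 a haL.1 haL.2.1
      have hsub : LinearMap.range (alt a b (2 * (i + 2)) - alt b a (2 * (i + 2))) ≤
          X.map P ⊔ (LinearMap.range b ⊓ LinearMap.ker a) := by
        rintro _ ⟨v, rfl⟩
        exact Submodule.sub_mem_sup (hr1 ⟨v, rfl⟩) (hr2 ⟨v, rfl⟩)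
      have h3 := (Submodule.finrank_mono hsub).trans (Submodule.finrank_add_le_finrank_add_finrank _ _)
      omega
  rw [sub_eq_zero] at hz
  rw [← hz, and_self]
  -- the preceding odd product carries it
  obtain ⟨g, hg, h1, hy⟩ := (lead_odd haL.1 hbL.1 i).2
  have hd := lead_diff haa hbb (by omega) (Submodule.smul_mem _ _ (sub_mem (alt_mem_filt le_rfl) (alt_mem_filt' le_rfl)))
    (self_mem_filt (b := b)) h1 hy
  rw [smul_mul_assoc, mul_smul_comm, ← smul_sub, comm_even i haa, smul_smul, ← pow_succ] at hd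
  set u := alt a b (2 * (i + 1) + 1) with hu
  set Z := alt a b (2 * (i + 2)) with hZ
  have hline : filt a b (2 * (i + 2)) ≤ k ∙ Z := by
    rw [filt, Submodule.span_le]
    rintro w ⟨j, hj, hw⟩
    rcases hj.eq_or_lt with e | e
    · subst e
      rcases hw with rfl | rfl
      · exact Submodule.mem_span_singleton_self _
      · rw [← hz]; exact Submodule.mem_span_singleton_self _
    · rcases hw with rfl | rfl
      · rw [alt_eq_zero_of_le j h h' (by omega)]; simp
      · rw [alt_eq_zero_of_le j h' h (by omega)]; simp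
  obtain ⟨μ, hμ⟩ := Submodule.mem_span_singleton.mp (hline hd)
  set lam := (2 : k) ^ (i + 1) with hlam
  set a' := (g : ND) * a * ((g⁻¹ : GLM) : ND) with ha'
  have hWe : a' - a = lam • u + μ • Z := by
    rw [hμ, add_sub_cancel]
  have hZa : Z * a = 0 := by
    rw [hZ, alt_two_mul, ← alt_two_mul_add_one]
    exact h
  have haZ : a * Z = 0 := by
    rw [hZ, show 2 * (i + 2) = 2 * (i + 1) + 1 + 1 by ring, alt_succ, ← mul_assoc, haa, zero_mul]
  have hua : u * a = 0 := by rw [hu, alt_two_mul_add_one, mul_assoc, haa, mul_zero]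
  have hau : a * u = 0 := by
    rw [hu, alt_succ, ← mul_assoc, haa, zero_mul]
  have z1 : a' * a = 0 := by
    have : (a' - a) * a = 0 := by rw [hWe, add_mul, smul_mul_assoc, smul_mul_assoc, hua, hZa]; simp
    rwa [sub_mul, haa, sub_zero] at this
  have z2 : a * a' = 0 := by
    have : a * (a' - a) = 0 := by rw [hWe, mul_add, mul_smul_comm, mul_smul_comm, hau, haZ]; simp
    rwa [mul_sub, haa, sub_zero] at this
  have hL := (haL.1.conj hg).sub haL.1 z1 z2
  rw [hWe] at hL
  have h0 : lam • u + μ • Z = 0 := by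
    refine haL.eq_zero_of_lt hL (lt_of_le_of_lt ?_ (finrank_map_lt haL.range_ne_bot (range_invariant a b)
      (N := i + 2) hnil (show 1 ≤ i + 1 by omega)))
    refine Submodule.finrank_mono ?_
    rintro _ ⟨v, rfl⟩
    rw [LinearMap.add_apply, LinearMap.smul_apply, LinearMap.smul_apply]
    refine add_mem (Submodule.smul_mem _ _ ⟨a v, ⟨v, rfl⟩, ?_⟩) (Submodule.smul_mem _ _ ⟨a (b v), ⟨b v, rfl⟩, ?_⟩)
    · rw [hu, alt_two_mul_add_one]; rfl
    · rw [hZ, alt_two_mul, pow_succ]; rfl
  have hZb : Z * b = 0 := by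
    rw [hZ, alt_two_mul, pow_succ, mul_assoc, mul_assoc, hbb, mul_zero, mul_zero]
  have hub : u * b = Z := by
    rw [hu, hZ, alt_two_mul_add_one, alt_two_mul, mul_assoc]
    exact (pow_succ (a * b) (i + 1)).symm
  have := congrArg (· * b) h0
  simp only [add_mul, smul_mul_assoc, hub, hZb, smul_zero, add_zero, zero_mul] at this
  exact (smul_eq_zero.mp this).resolve_left (pow_ne_zero _ h2)

/-- Nilpotent product: the words of length three vanish. -/
theorem mul_mul_eq_zero (haL : IsMin G a) (hbL : IsMin G b) (h2 : (2 : k) ≠ 0) {N : ℕ}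
    (hN : (a * b) ^ N = 0) : a * b * a = 0 ∧ b * a * b = 0 := by
  suffices h : ∀ n, 3 ≤ n → alt a b n = 0 → alt b a n = 0 → alt a b 3 = 0 ∧ alt b a 3 = 0 by
    obtain ⟨e1, e2⟩ := h (2 * (N + 1) + 1) (by omega)
      (by rw [alt_two_mul_add_one, pow_succ, hN]; simp)
      (by rw [alt_succ, alt_two_mul, pow_succ, hN]; simp)
    refine ⟨?_, ?_⟩
    · rw [← e1]; simp [alt_succ, mul_assoc]
    · rw [← e2]; simp [alt_succ, mul_assoc]
  intro n
  induction n with
  | zero => intro h; omega
  | succ n ih =>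
    intro hn h h'
    rcases hn.eq_or_lt with e | e
    · rw [e]; exact ⟨h, h'⟩
    refine ih (by omega) ?_ ?_ <;> rcases Nat.even_or_odd n with ⟨m, hm⟩ | ⟨m, hm⟩
    all_goals subst hm
    all_goals try rw [← two_mul] at h h' ⊢
    · exact (alt_even_eq_zero haL hbL h2 (by omega) h h').1
    · exact alt_odd_eq_zero haL hbL.1 h2 (by omega) h h'
    · exact (alt_even_eq_zero haL hbL h2 (by omega) h h').2
    · exact alt_odd_eq_zero hbL haL.1 h2 (by omega) h' h

end FiniteDim

end Cfsg.Agent.Lib.QuadPair
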