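import Cfsg.Agent.Lib.QuadPair.Psi
import Cfsg.Agent.Lib.QuadPair.Words
import Cfsg.Agent.Lib.QuadPair.Unip
import Cfsg.Agent.Lib.QuadPair.Congruence
import Mathlib.RingTheory.AdjoinRoot

/-!
For two minimal elements the product is nilpotent or invertible on the range.
-/

namespace Cfsg.Agent.Lib.QuadPair

open Matrix Polynomial

variable {k : Type*} [Field k] {M : Type*} [AddCommGroup M] [Module k M]

local notation "GLM" => LinearMap.GeneralLinearGroup k M
local notation "ND" => M →ₗ[k] M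

section Basics

variable {T : M →ₗ[k] M} {R : Submodule k M}

theorem aeval_mem (h : R.map T ≤ R) (P : k[X]) {v : M} (hv : v ∈ R) : aeval T P v ∈ R := by
  induction P using Polynomial.induction_on' with
  | add p q hp hq => rw [map_add, LinearMap.add_apply]; exact R.add_mem hp hq
  | monomial n c =>
    rw [aeval_monomial, Module.End.mul_apply, Algebra.algebraMap_eq_smul_one]
    refine R.smul_mem c ?_
    have : ∀ n, (T ^ n) v ∈ R := by
      intro n
      induction n with
      | zero => simpa using hv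
      | succ n ih => rw [pow_succ', Module.End.mul_apply]; exact h ⟨_, ih, rfl⟩
    exact this n

theorem map_pow_le (h : R.map T ≤ R) {i j : ℕ} (hij : i ≤ j) : R.map (T ^ j) ≤ R.map (T ^ i) := by
  obtain ⟨l, rfl⟩ := Nat.exists_eq_add_of_le hij
  rw [pow_add, Module.End.mul_eq_comp, Submodule.map_comp]
  refine Submodule.map_mono ?_
  rintro _ ⟨v, hv, rfl⟩
  simpa using aeval_mem h (X ^ l : k[X]) hv

variable [FiniteDimensional k M]

theorem map_pow_stable (h : R.map T ≤ R) {N : ℕ} (hN : Module.finrank k R ≤ N) :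
    R.map (T ^ N) = R.map (T ^ Module.finrank k R) := by
  have hone : ∀ i, R.map (T ^ (i + 1)) = R.map (T ^ i) → ∀ j, i ≤ j → R.map (T ^ j) = R.map (T ^ i) := by
    intro i e j hj
    induction hj with
    | refl => rfl
    | step _ ih =>
      rw [pow_succ', Module.End.mul_eq_comp, Submodule.map_comp, ih, ← Submodule.map_comp,
        ← Module.End.mul_eq_comp, ← pow_succ', e]
  have hex : ∃ i ≤ Module.finrank k R, R.map (T ^ (i + 1)) = R.map (T ^ i) := by
    by_contra hno
    push Not at hno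
    have : ∀ i ≤ Module.finrank k R + 1, Module.finrank k (R.map (T ^ i)) + i ≤ Module.finrank k R := by
      intro i hi
      induction i with
      | zero => rw [pow_zero, Nat.add_zero]; exact Submodule.finrank_map_le _ _
      | succ i ih =>
        have := Submodule.finrank_lt_finrank_of_lt
          (lt_of_le_of_ne (map_pow_le h (Nat.le_succ i)) (hno i (by omega)))
        have := ih (by omega)
        simp only [Nat.succ_eq_add_one] at *
        omega
    have := this _ le_rfl
    omega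
  obtain ⟨i, hi, e⟩ := hex
  rw [hone i e N (hi.trans hN), hone i e _ hi]

/-- `T` is injective on the stable image. -/
theorem stable_injective (h : R.map T ≤ R) {v : M} (hv : v ∈ R.map (T ^ Module.finrank k R))
    (h0 : T v = 0) : v = 0 := by
  set Xs := R.map (T ^ Module.finrank k R) with hX
  have hmap : Xs.map T = Xs := by
    rw [hX, ← Submodule.map_comp, ← Module.End.mul_eq_comp, ← pow_succ', map_pow_stable h (Nat.le_succ _)]
  have := finrank_map_add T Xs
  rw [hmap] at this
  have hz : Xs ⊓ LinearMap.ker T = ⊥ := Submodule.finrank_eq_zero.mp (by omega)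
  exact (Submodule.mem_bot k).mp (hz ▸ (⟨hv, h0⟩ : v ∈ Xs ⊓ LinearMap.ker T))

/-- An irreducible polynomial with a root on an invariant subspace. -/
theorem exists_irreducible (h : R.map T ≤ R) (hR : R ≠ ⊥) :
    ∃ p : k[X], Irreducible p ∧ ∃ w ∈ R, w ≠ 0 ∧ aeval T p w = 0 := by
  obtain ⟨v, hv, hv0⟩ := Submodule.exists_mem_ne_zero_of_ne_bot hR
  have hP : ∀ n, ∀ P : k[X], P ≠ 0 → P.natDegree = n → aeval T P v = 0 →
      ∃ p : k[X], Irreducible p ∧ ∃ w ∈ R, w ≠ 0 ∧ aeval T p w = 0 := by
    intro n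
    induction n using Nat.strong_induction_on with
    | _ n ih =>
      intro P hP0 hPn hPv
      have hnu : ¬ IsUnit P := by
        intro hu
        obtain ⟨c, hc, rfl⟩ := Polynomial.isUnit_iff.mp hu
        rw [aeval_C, Algebra.algebraMap_eq_smul_one, LinearMap.smul_apply, Module.End.one_apply] at hPv
        exact hv0 ((smul_eq_zero.mp hPv).resolve_left hc.ne_zero)
      obtain ⟨p, hp, q, rfl⟩ := WfDvdMonoid.exists_irreducible_factor hnu hP0
      by_cases hq : aeval T q v = 0
      · have hq0 : q ≠ 0 := fun e => hP0 (by rw [e, mul_zero])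
        refine ih q.natDegree ?_ q hq0 rfl hq
        rw [← hPn, natDegree_mul hp.ne_zero hq0]
        have := hp.natDegree_pos
        omega
      · refine ⟨p, hp, _, aeval_mem h q hv, hq, ?_⟩
        rw [← Module.End.mul_apply, ← map_mul]
        exact hPv
  exact hP _ (minpoly k T) (minpoly.ne_zero (Algebra.IsIntegral.isIntegral T)) rfl
    (by rw [minpoly.aeval]; rfl)

end Basics

variable [FiniteDimensional k M] {G : Subgroup (LinearMap.GeneralLinearGroup k M)} {a b : M →ₗ[k] M}

theorem range_map_le (a b : M →ₗ[k] M) : (LinearMap.range a).map (a * b) ≤ LinearMap.range a := by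
  rintro _ ⟨v, -, rfl⟩
  exact ⟨b v, rfl⟩

/-- A nilpotent product gives vanishing triple products. -/
theorem triple_eq_zero (h2 : (2 : k) ≠ 0) (ha : IsMin G a) (hb : IsMin G b)
    (h : (LinearMap.range a).map ((a * b) ^ Module.finrank k (LinearMap.range a)) = ⊥) :
    a * b * a = 0 ∧ b * a * b = 0 := by
  refine mul_mul_eq_zero ha hb h2 (N := Module.finrank k (LinearMap.range a) + 1) ?_
  ext v
  have : ((a * b) ^ Module.finrank k (LinearMap.range a)) (a (b v)) ∈
      (LinearMap.range a).map ((a * b) ^ Module.finrank k (LinearMap.range a)) :=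
    Submodule.mem_map_of_mem ⟨b v, rfl⟩
  rw [h, Submodule.mem_bot] at this
  rw [pow_succ]
  exact this

/-- The products of `a` and its conjugate, on the range of `a`. -/
theorem Rep.mul_conj_apply (ha : a * a = 0) (hb : b * b = 0) {γ : SpecialLinearGroup (Fin 2) k[X]}
    {n : LinearMap.GeneralLinearGroup k M} (h : Rep a b γ n) {v : M} (hv : v ∈ LinearMap.range a) :
    (a * ((n : M →ₗ[k] M) * a * ((n⁻¹ : LinearMap.GeneralLinearGroup k M) : M →ₗ[k] M))) v =
      -(aeval (a * b) ((X : k[X]) ^ 2 * (γ.1 1 0 * γ.1 1 0)) v) := by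
  obtain ⟨u, rfl⟩ := hv
  have hz : a (a u) = 0 := DFunLike.congr_fun ha u
  have hT : ∀ P : k[X], a (aeval (a * b) P ((a * b) (a u))) = 0 := fun P => by
    have := DFunLike.congr_fun (aeval_mul_comm (a * b) P) (a u)
    simp only [Module.End.mul_apply] at this ⊢
    rw [this]
    exact DFunLike.congr_fun ha _
  rw [h.conj_eq ha hb]
  simp only [Module.End.mul_apply, LinearMap.add_apply, LinearMap.sub_apply, LinearMap.neg_apply, map_add,
    map_sub, map_neg, hz, map_zero, add_zero]
  have hT' := hT (γ.1 0 0 * γ.1 1 0)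
  simp only [Module.End.mul_apply] at hT'
  rw [hT', neg_zero, zero_sub, map_mul (aeval (a * b)) (X ^ 2), map_pow, aeval_X, pow_two, Module.End.mul_apply,
    Module.End.mul_apply, Module.End.mul_apply]
  congr 1
  have := DFunLike.congr_fun (aeval_mul_comm (a * b) (γ.1 1 0 * γ.1 1 0)) (a u)
  simp only [Module.End.mul_apply] at this
  rw [this]
  rfl

/-- When the conjugate commutes with `a`, two products vanish on the range. -/
theorem Rep.of_commute (h2 : (2 : k) ≠ 0) (ha : a * a = 0) (hb : b * b = 0) {γ : SpecialLinearGroup (Fin 2) k[X]}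
    {n : LinearMap.GeneralLinearGroup k M} (h : Rep a b γ n)
    (hc : a * ((n : M →ₗ[k] M) * a * ((n⁻¹ : LinearMap.GeneralLinearGroup k M) : M →ₗ[k] M)) =
      (n : M →ₗ[k] M) * a * ((n⁻¹ : LinearMap.GeneralLinearGroup k M) : M →ₗ[k] M) * a) :
    ∀ v ∈ LinearMap.range a, aeval (a * b) ((X : k[X]) ^ 2 * γ.1 1 0) v = 0 := by
  set T := a * b with hT
  set r := γ.1 1 0 * γ.1 1 0 with hr
  set p := γ.1 0 0 * γ.1 1 0 with hp
  have hca := h.conj_eq ha hb
  simp only [← hT, ← hp, ← hr] at hca
  have hcc : ∀ P : k[X], aeval T P * T = T * aeval T P := aeval_mul_comm T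
  have hz2 : a * (T * a) = 0 := by rw [hT, ← mul_assoc, ← mul_assoc, ha, zero_mul, zero_mul]
  -- `a' * a`
  have e2 : (n : ND) * a * ((n⁻¹ : GLM) : ND) * a = -(aeval T p * (T * a)) - b * (aeval T r * (T * a)) := by
    rw [hca]
    simp only [add_mul, sub_mul, neg_mul, mul_assoc, ha, mul_zero, add_zero]
  have e1 : a * ((n : ND) * a * ((n⁻¹ : GLM) : ND)) = -(T * (aeval T r * T)) + T * (aeval T p * a) := by
    rw [hca]
    have z1 : a * (aeval T p * T) = 0 := by
      rw [hcc, ← mul_assoc, hT, ← mul_assoc a a, ha, zero_mul, zero_mul]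
    have z3 := a_aeval_a (b := b) ha (γ.1 0 0 * γ.1 0 0)
    rw [← hT] at z3
    simp only [mul_add, mul_sub, mul_neg, z1, neg_zero, zero_add]
    rw [← mul_assoc a (aeval T (γ.1 0 0 * γ.1 0 0)), z3, zero_sub, ← mul_assoc a b, ← mul_assoc a (b * _), ← mul_assoc a b, ← hT, mul_assoc T]
  rw [e1, e2] at hc
  have hR : ∀ v ∈ LinearMap.range a, aeval T (X ^ 2 * r) v = 0 := by
    rintro _ ⟨u, rfl⟩
    have := DFunLike.congr_fun hc (a u)
    have hz : a (a u) = 0 := DFunLike.congr_fun ha u
    simp only [LinearMap.add_apply, LinearMap.sub_apply, LinearMap.neg_apply, Module.End.mul_apply, hz,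
      map_zero, add_zero, neg_zero, sub_zero, neg_eq_zero] at this
    rw [map_mul, map_pow, aeval_X, pow_two, Module.End.mul_apply, Module.End.mul_apply]
    have h' := DFunLike.congr_fun (hcc r) (a u)
    simp only [Module.End.mul_apply] at h'
    rwa [h'] at this
  have hP : ∀ v ∈ LinearMap.range a, aeval T (X ^ 2 * p) v = 0 := by
    rintro _ ⟨u, rfl⟩
    -- compare the two products at `b (a u)`
    have := DFunLike.congr_fun hc (b (a u))
    have hb' : b (b (a u)) = 0 := DFunLike.congr_fun hb _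
    have hTb : T (b (a u)) = 0 := by rw [hT, Module.End.mul_apply, hb', map_zero]
    have hab : ∀ w, a (b w) = T w := fun w => rfl
    have h' := DFunLike.congr_fun (hcc p) (a u)
    have h'' := DFunLike.congr_fun (hcc r) (a u)
    simp only [Module.End.mul_apply] at h' h''
    simp only [LinearMap.add_apply, LinearMap.sub_apply, LinearMap.neg_apply, Module.End.mul_apply, hTb,
      map_zero, neg_zero, zero_add, hab] at this
    have hr' := hR (a u) ⟨u, rfl⟩
    rw [map_mul, map_pow, aeval_X, pow_two, Module.End.mul_apply, Module.End.mul_apply] at hr' ⊢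
    have hcT : ∀ (P : k[X]) (w : M), aeval T P (T w) = T (aeval T P w) := fun P w => DFunLike.congr_fun (hcc P) w
    simp only [hcT] at this
    rw [hr', map_zero, sub_zero] at this
    have h22 : (2 : k) • T (T (aeval T p (a u))) = 0 := by
      rw [two_smul]
      nth_rw 1 [this]
      rw [neg_add_cancel]
    exact (smul_eq_zero.mp h22).resolve_left h2
  have hdet : γ.1 0 0 * γ.1 1 1 - γ.1 0 1 * γ.1 1 0 = 1 := by rw [← det_fin_two]; exact γ.2
  intro v hv
  have e : (X : k[X]) ^ 2 * γ.1 1 0 = γ.1 1 1 * (X ^ 2 * p) - γ.1 0 1 * (X ^ 2 * r) := by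
    rw [hp, hr]
    linear_combination (-(X ^ 2 * γ.1 1 0)) * hdet
  rw [e, map_sub, map_mul (aeval T) (γ.1 1 1), map_mul (aeval T) (γ.1 0 1), LinearMap.sub_apply, Module.End.mul_apply, Module.End.mul_apply, hR v hv,
    hP v hv]
  simp

/-- The product of two minimal elements is nilpotent or bijective on the range. -/
theorem dichotomy (h2 : (2 : k) ≠ 0) (h3 : Nat.card k ≠ 3) (ha : IsMin G a) : ∀ b : M →ₗ[k] M, IsMin G b →
    (LinearMap.range a).map ((a * b) ^ Module.finrank k (LinearMap.range a)) = ⊥ ∨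
      (LinearMap.range a).map ((a * b) ^ Module.finrank k (LinearMap.range a)) = LinearMap.range a := by
  suffices key : ∀ n, ∀ b : M →ₗ[k] M, IsMin G b →
      Module.finrank k ((LinearMap.range a).map ((a * b) ^ Module.finrank k (LinearMap.range a))) = n →
      (LinearMap.range a).map ((a * b) ^ Module.finrank k (LinearMap.range a)) = ⊥ ∨
        (LinearMap.range a).map ((a * b) ^ Module.finrank k (LinearMap.range a)) = LinearMap.range a from
    fun b hb => key _ b hb rfl
  intro n
  induction n using Nat.strong_induction_on with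
  | _ n ih =>
  intro b hb hn
  set R := LinearMap.range a with hRdef
  set d := Module.finrank k R with hd
  set T := a * b with hT
  set Xs := R.map (T ^ d) with hXs
  by_contra hcon
  rw [not_or] at hcon
  obtain ⟨hne, htop⟩ := hcon
  have hinv := range_map_le a b
  rw [← hT, ← hRdef] at hinv
  have hXR : Xs ≤ R := by
    have := map_pow_le hinv (Nat.zero_le d)
    simpa [Module.End.one_eq_id] using this
  have hXinv : Xs.map T ≤ Xs := by
    rw [hXs, ← Submodule.map_comp, ← Module.End.mul_eq_comp, ← pow_succ']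
    exact map_pow_le hinv (Nat.le_succ d)
  obtain ⟨p, hp, w, hwX, hw0, hpw⟩ := exists_irreducible hXinv hne
  have hinj := fun v (hv : v ∈ Xs) => stable_injective hinv hv
  haveI := Fact.mk hp
  have hα : IsAlgebraic k (AdjoinRoot.root p) := by
    refine ⟨p, hp.ne_zero, ?_⟩
    rw [AdjoinRoot.aeval_eq, AdjoinRoot.mk_self]
  have hα0 : AdjoinRoot.root p ≠ 0 := by
    intro e
    have : AdjoinRoot.mk p X = 0 := by rw [AdjoinRoot.mk_X]; exact e
    obtain ⟨q, hq⟩ := AdjoinRoot.mk_eq_zero.mp this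
    rcases (Polynomial.irreducible_X (R := k)).isUnit_or_isUnit hq with h | h
    · exact hp.not_isUnit h
    · obtain ⟨c, hc, rfl⟩ := Polynomial.isUnit_iff.mp h
      apply hw0
      apply hinj w hwX
      have : aeval T (X : k[X]) w = 0 := by
        rw [hq, mul_comm, map_mul, Module.End.mul_apply, hpw, map_zero]
      simpa using this
  obtain ⟨ν, hν, hν2⟩ := exists_scalar h2 h3
  let hd0 : SpecialLinearGroup (Fin 2) (AdjoinRoot p) :=
    ⟨!![algebraMap k _ ν, 0; 0, (algebraMap k _ ν)⁻¹], by simp [det_fin_two, hν]⟩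
  obtain ⟨γ, ⟨hγ, hfil⟩, hγe⟩ := exists_deep h2 h3 hα hα0 (AdjoinRoot.adjoinRoot_eq_top) (2 * (d + 1)) hd0
  have hdvd : ∀ r c, (X : k[X]) ^ (d + 1) ∣ (γ.1 - 1) r c := fun r c =>
    (pow_dvd_pow _ (by fin_cases r <;> fin_cases c <;> simp [expo] <;> omega)).trans (hfil r c)
  have hmod : ∀ r c, (p : k[X]) ∣ γ.1 r c - Polynomial.C
      ((!![ν, 0; 0, ν⁻¹] : Matrix (Fin 2) (Fin 2) k) r c) := fun r c => by
    rw [← AdjoinRoot.mk_eq_mk]
    have := congrArg (fun g : SpecialLinearGroup (Fin 2) (AdjoinRoot p) => g.1 r c) hγe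
    rw [SpecialLinearGroup.map_apply_coe] at this
    simp only [RingHom.mapMatrix_apply, Matrix.map_apply, RingHom.coe_coe, AdjoinRoot.aeval_eq] at this
    rw [this, AdjoinRoot.mk_C]
    fin_cases r <;> fin_cases c <;> simp [hd0, AdjoinRoot.algebraMap_eq]
  obtain ⟨m, hm, hrep⟩ := exists_rep ha.1 hb.1 hγ
  set a' := (m : ND) * a * ((m⁻¹ : GLM) : ND) with ha'
  have ha'm : IsMin G a' := ha.conj hm
  have hmul : ∀ v ∈ R, (a * a') v = -(aeval T ((X : k[X]) ^ 2 * (γ.1 1 0 * γ.1 1 0)) v) :=
    fun v hv => hrep.mul_conj_apply ha.1.1 hb.1.1 hv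
  have hC0 : γ.1 1 0 = (γ.1 - 1) 1 0 := by simp
  have hA0 : γ.1 0 0 - 1 = (γ.1 - 1) 0 0 := by simp
  obtain ⟨C1, hC1⟩ := hdvd 1 0
  rw [← hC0] at hC1
  have hpC : p ∣ γ.1 1 0 := by simpa using hmod 1 0
  -- high powers land in the stable image
  have hstab : ∀ (j : ℕ) (Q : k[X]) v, v ∈ R → d ≤ j → aeval T (X ^ j * Q) v ∈ Xs := by
    intro j Q v hv hj
    rw [mul_comm, map_mul, map_pow, aeval_X, Module.End.mul_apply]
    have h' : (T ^ j) v ∈ Xs := by rw [hXs, ← map_pow_stable hinv hj]; exact ⟨v, hv, rfl⟩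
    exact aeval_mem hXinv Q h'
  set F : k[X] := (X : k[X]) ^ 2 * (γ.1 1 0 * γ.1 1 0) with hF
  have hFR : ∀ v ∈ R, aeval T F v ∈ Xs := fun v hv => by
    rw [hF, hC1, show (X : k[X]) ^ 2 * (X ^ (d + 1) * C1 * (X ^ (d + 1) * C1)) =
      X ^ (2 + (d + 1) + (d + 1)) * (C1 * C1) by ring]
    exact hstab _ _ v hv (by omega)
  have hFw : aeval T F w = 0 := by
    obtain ⟨c, hc⟩ := hpC
    rw [hF, hc, show (X : k[X]) ^ 2 * (p * c * (p * c)) = (X ^ 2 * c * p * c) * p by ring, map_mul,
      Module.End.mul_apply, hpw, map_zero]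
  have hlt : Module.finrank k (R.map ((a * a') ^ d)) < n := by
    have hd1 : 1 ≤ d := Nat.one_le_iff_ne_zero.mpr fun e => ha.range_ne_bot (Submodule.finrank_eq_zero.mp e)
    obtain ⟨e, he⟩ : ∃ e, d = e + 1 := ⟨d - 1, by omega⟩
    have hle : R.map ((a * a') ^ d) ≤ (Xs.map (aeval T F)) := by
      rintro _ ⟨v, hv, rfl⟩
      have hiter : ∀ i, ∃ z ∈ R, ((a * a') ^ (i + 1)) v = aeval T F z ∧ (0 < i → z ∈ Xs) := by
        intro i
        induction i with
        | zero =>
          exact ⟨-v, R.neg_mem hv, by rw [pow_one, hmul v hv, map_neg], fun h => absurd h (lt_irrefl 0)⟩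
        | succ i ih =>
          obtain ⟨z, hz, hze, -⟩ := ih
          refine ⟨-aeval T F z, R.neg_mem (hXR (hFR z hz)), ?_, fun _ => Xs.neg_mem (hFR z hz)⟩
          rw [pow_succ', Module.End.mul_apply, hze, hmul _ (hXR (hFR z hz)), map_neg]
      rw [he]
      obtain ⟨z, hz, hze, hzX⟩ := hiter e
      rw [hze]
      by_cases he0 : 0 < e
      · exact ⟨z, hzX he0, rfl⟩
      · -- one dimensional range
        exfalso
        have hd1' : d = 1 := by omega
        apply htop
        exact Submodule.eq_of_le_of_finrank_le hXR (by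
          rw [← hd, hd1']
          exact Nat.one_le_iff_ne_zero.mpr fun h0 => hne (Submodule.finrank_eq_zero.mp h0))
    refine lt_of_le_of_lt (Submodule.finrank_mono hle) ?_
    have := finrank_map_add (aeval T F) Xs
    have hpos : 0 < Module.finrank k (Xs ⊓ LinearMap.ker (aeval T F) : Submodule k M) :=
      Nat.pos_of_ne_zero fun e => hw0 ((Submodule.mem_bot k).mp
        (Submodule.finrank_eq_zero.mp e ▸ (⟨hwX, hFw⟩ : w ∈ Xs ⊓ LinearMap.ker (aeval T F))))
    omega
  have hzero := (ih _ hlt a' ha'm rfl).resolve_right fun e => by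
    rw [e, ← hn] at hlt
    exact absurd (Submodule.finrank_mono hXR) (not_le.mpr hlt)
  obtain ⟨t1, t2⟩ := triple_eq_zero h2 ha ha'm hzero
  have hAw : ∃ s : k[X], γ.1 0 0 = Polynomial.C ν + s * p := by
    obtain ⟨s, hs⟩ := hmod 0 0
    exact ⟨s, by
      rw [mul_comm]
      simp only [Matrix.cons_val', Matrix.cons_val_zero, Matrix.of_apply, Matrix.cons_val_fin_one] at hs
      linear_combination hs⟩
  obtain ⟨s, hs⟩ := hAw
  have hmw : (m : ND) w = ν • w := by
    obtain ⟨c, hc⟩ := hpC
    rw [hrep.apply_range ha.1.1 (hXR hwX), hs, map_add, LinearMap.add_apply, aeval_C, map_mul,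
      Module.End.mul_apply, hpw, map_zero, add_zero, hc, mul_comm p c, map_mul, Module.End.mul_apply, hpw,
      map_zero, map_zero, add_zero, Algebra.algebraMap_eq_smul_one, LinearMap.smul_apply, Module.End.one_apply]
  have hcomm : a * a' = a' * a := by
    refine commute_of_common_range ha ha'm t1 t2 fun e => smul_ne_zero hν hw0 ?_
    rw [← Submodule.mem_bot k, ← e]
    refine ⟨R.smul_mem ν (hXR hwX), ?_⟩
    rw [ha', range_conj, ← hmw]
    exact Submodule.mem_map_of_mem (hXR hwX)
  have hC2 := hrep.of_commute h2 ha.1.1 hb.1.1 hcomm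
  have hCR : ∀ v ∈ R, aeval T (γ.1 1 0) v = 0 := by
    intro v hv
    have h1 : aeval T (γ.1 1 0) v ∈ Xs := by rw [hC1]; exact hstab (d + 1) C1 v hv (by omega)
    refine hinj _ h1 (hinj _ (hXinv ⟨_, h1, rfl⟩) ?_)
    have := hC2 v hv
    rwa [map_mul, map_pow, aeval_X, pow_two, Module.End.mul_apply, Module.End.mul_apply] at this
  have hCv : ∀ (Q : k[X]) v, v ∈ R → aeval T (Q * γ.1 1 0) v = 0 := fun Q v hv => by
    rw [map_mul, Module.End.mul_apply, hCR v hv, map_zero]
  have hconj : a' = aeval T (γ.1 0 0 * γ.1 0 0) * a := by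
    rw [ha', hrep.conj_eq ha.1.1 hb.1.1]
    ext v
    have g1 : aeval T (γ.1 0 0 * γ.1 1 0) (a (b v)) = 0 := hCv _ _ ⟨_, rfl⟩
    have g2 : aeval T (γ.1 1 0 * γ.1 1 0) (a (b v)) = 0 := hCv _ _ ⟨_, rfl⟩
    have g3 : aeval T (γ.1 0 0 * γ.1 1 0) (a v) = 0 := hCv _ _ ⟨_, rfl⟩
    simp only [LinearMap.add_apply, LinearMap.sub_apply, LinearMap.neg_apply, Module.End.mul_apply, ← hT, g3]
    rw [show T v = a (b v) from rfl, g1, g2]
    simp
  have hW : InL G (a' - a) := by
    refine ha'm.1.sub ha.1 ?_ ?_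
    · rw [hconj, mul_assoc, ha.1.1, mul_zero]
    · rw [hcomm, hconj, mul_assoc, ha.1.1, mul_zero]
  have hW0 : a' - a = 0 := by
    refine ha.eq_zero_of_lt hW (lt_of_le_of_lt (Submodule.finrank_mono ?_)
      (Submodule.finrank_lt_finrank_of_lt (lt_of_le_of_ne hXR htop)))
    rintro _ ⟨v, rfl⟩
    obtain ⟨A1, hA1⟩ := hdvd 0 0
    rw [← hA0] at hA1
    rw [hconj, LinearMap.sub_apply, Module.End.mul_apply]
    have e : γ.1 0 0 * γ.1 0 0 = 1 + X ^ (d + 1) * (A1 * (γ.1 0 0 + 1)) := by
      linear_combination (γ.1 0 0 + 1) * hA1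
    rw [e, map_add, map_one, LinearMap.add_apply, Module.End.one_apply, add_sub_cancel_left]
    exact hstab _ _ _ ⟨v, rfl⟩ (by omega)
  obtain ⟨u, hu⟩ := hXR hwX
  have := DFunLike.congr_fun hW0 u
  rw [hconj, LinearMap.sub_apply, Module.End.mul_apply, hu, LinearMap.zero_apply, sub_eq_zero, map_mul,
    Module.End.mul_apply] at this
  have hA : ∀ c : k, aeval T (γ.1 0 0) (c • w) = (c * ν) • w := fun c => by
    rw [map_smul, hs, map_add, LinearMap.add_apply, aeval_C, map_mul, Module.End.mul_apply, hpw, map_zero,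
      add_zero, Algebra.algebraMap_eq_smul_one, LinearMap.smul_apply, Module.End.one_apply, smul_smul]
  have h1 : aeval T (γ.1 0 0) w = ν • w := by simpa using hA 1
  rw [h1, hA ν] at this
  apply hw0
  have h0 : (ν * ν - 1) • w = 0 := by rw [sub_smul, this, one_smul, sub_self]
  exact (smul_eq_zero.mp h0).resolve_left (sub_ne_zero.mpr (by rwa [← sq]))

/-- The two possibilities. -/
theorem nil_or_injective (h2 : (2 : k) ≠ 0) (h3 : Nat.card k ≠ 3) (ha : IsMin G a) (hb : IsMin G b) :
    (a * b * a = 0 ∧ b * a * b = 0) ∨ ∀ v ∈ LinearMap.range a, a (b v) = 0 → v = 0 := by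
  rcases dichotomy h2 h3 ha b hb with h | h
  · exact Or.inl (triple_eq_zero h2 ha hb h)
  · refine Or.inr fun v hv h0 => stable_injective (range_map_le a b) (h.symm ▸ hv) ?_
    exact h0

end Cfsg.Agent.Lib.QuadPair
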