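import Cfsg.Agent.Lib.QuadPair.ContFrac
import Cfsg.Agent.S0801

/-!
`x(k α)` and `y(k)` generate `SL₂(k(α))`.
-/

namespace Cfsg.Agent.Lib.QuadPair

open Matrix Polynomial

variable {k K : Type*} [Field k] [Field K] [Algebra k K]

/-- The `u` with `x(u)` in `H`. -/
def upperPart (H : Subgroup (SpecialLinearGroup (Fin 2) K)) : AddSubgroup K where
  carrier := {u | xU u ∈ H}
  zero_mem' := by simp
  add_mem' hu hv := by simpa [xU_add] using H.mul_mem hu hv
  neg_mem' hu := by simpa [xU_neg] using hu

theorem sq_mul_mem {H : Subgroup (SpecialLinearGroup (Fin 2) K)} {g : SpecialLinearGroup (Fin 2) K}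
    (hg : g ∈ H) (hc : g.1 1 0 = 0) {u : K} (hu : u ∈ upperPart H) : g.1 0 0 ^ 2 * u ∈ upperPart H := by
  change xU _ ∈ H
  rw [← conj_xU hc]
  exact H.mul_mem (H.mul_mem hg hu) (H.inv_mem hg)

theorem exists_sum_powers {α : K} (hα : IsAlgebraic k α) (htop : Algebra.adjoin k ({α} : Set K) = ⊤)
    {m : ℕ} (hm : (minpoly k α).natDegree ≤ m + 1) (z : K) :
    ∃ v : Fin (m + 1) → k, ∑ j : Fin (m + 1), v j • α ^ (j : ℕ) = z := by
  have hz : z ∈ Algebra.adjoin k ({α} : Set K) := htop ▸ Algebra.mem_top
  rw [Algebra.adjoin_singleton_eq_range_aeval] at hz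
  obtain ⟨F, rfl⟩ := hz
  refine ⟨fun j => (F %ₘ minpoly k α).coeff j, ?_⟩
  change _ = (aeval α) F
  rw [← Polynomial.aeval_modByMonic_eq_self_of_root (p := F) (minpoly.aeval k α)]
  conv_rhs => rw [Polynomial.aeval_eq_sum_range' (n := m + 1) (lt_of_lt_of_le
    (natDegree_modByMonic_lt F (minpoly.monic hα.isIntegral) (minpoly.ne_one k α)) hm)]
  rw [Fin.sum_univ_eq_sum_range (fun i => (F %ₘ minpoly k α).coeff i • α ^ i) (m + 1)]

theorem genGrp_eq_top_of_infinite [Infinite k] (h2 : (2 : K) ≠ 0) {α : K} (hα : IsAlgebraic k α)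
    (hα0 : α ≠ 0) (htop : Algebra.adjoin k ({α} : Set K) = ⊤) : genGrp k α = ⊤ := by
  classical
  refine eq_top_of_xU (fun u => ?_) (by simpa using yL_mem_genGrp (k := k) α 1)
  set H := genGrp k α with hH
  obtain ⟨m, hm⟩ : ∃ m, (minpoly k α).natDegree = m := ⟨_, rfl⟩
  set Good : (Fin (m + 1) → k) → Prop := fun v => v 0 ≠ 0 ∧ ∃ g ∈ genGrp k (X : k[X]),
    Polynomial.C (v 0) * g.1 0 0 = ∑ j : Fin (m + 1), Polynomial.C (v j) * X ^ (j : ℕ) ∧
      Polynomial.C (v 0) * g.1 1 0 = minpoly k α with hGood
  let W : Submodule k K := Submodule.span k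
    ((fun v : Fin (m + 1) → k => (∑ j : Fin (m + 1), v j • α ^ (j : ℕ)) ^ 2) '' {v | Good v})
  have hW : W = ⊤ := by
    by_contra hne
    obtain ⟨ψ, hψ0, hψ⟩ := Submodule.exists_le_ker_of_lt_top W (lt_top_iff_ne_top.mpr hne)
    let Φ : MvPolynomial (Fin (m + 1)) k := ∑ i : Fin (m + 1), ∑ j : Fin (m + 1),
      MvPolynomial.C (ψ (α ^ (i : ℕ) * α ^ (j : ℕ))) * (MvPolynomial.X i * MvPolynomial.X j)
    have hev : ∀ v, MvPolynomial.eval v Φ = ψ ((∑ j : Fin (m + 1), v j • α ^ (j : ℕ)) ^ 2) := by
      intro v
      simp only [Φ, map_sum, map_mul, MvPolynomial.eval_C, MvPolynomial.eval_X, sq, Finset.sum_mul,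
        Finset.mul_sum, smul_mul_smul_comm, map_smul, smul_eq_mul]
      rw [Finset.sum_comm]
      exact Finset.sum_congr rfl fun i _ => Finset.sum_congr rfl fun j _ => by
        first | ring | (rw [mul_comm (α ^ (i : ℕ))]; ring)
    have hΦ : Φ = 0 := by
      by_contra hΦ
      obtain ⟨v, hv0, hv, g, hg, h⟩ := ContFrac.exists_generic (minpoly.ne_zero hα.isIntegral) hm Φ hΦ
      apply hv
      rw [hev]
      exact hψ (Submodule.subset_span ⟨v, ⟨hv0, g, hg, h⟩, rfl⟩)
    apply hψ0
    ext z
    have hsq : ∀ z : K, ψ (z ^ 2) = 0 := fun z => by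
      obtain ⟨v, rfl⟩ := exists_sum_powers hα htop (m := m) (by omega) z
      rw [← hev, hΦ, map_zero]
    rw [eq_half_sq_sub h2 z, map_sub, hsq, hsq, sub_zero, LinearMap.zero_apply]
  have key : ∀ w ∈ W, ∀ t : k, w * (algebraMap k K t * α) ∈ upperPart H := by
    intro w hw
    refine Submodule.span_induction ?_ ?_ ?_ ?_ hw
    · rintro _ ⟨v, ⟨hv0, g, hg, h0, h1⟩, rfl⟩ t
      let g' := SpecialLinearGroup.map ((aeval α : k[X] →ₐ[k] K) : k[X] →+* K) g
      have hg' : g' ∈ H := by
        have := map_genGrp (aeval α : k[X] →ₐ[k] K) (X : k[X])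
        rw [aeval_X] at this
        rw [hH, ← this]
        exact Subgroup.mem_map_of_mem _ hg
      have e0 : algebraMap k K (v 0) * g'.1 0 0 = ∑ j : Fin (m + 1), v j • α ^ (j : ℕ) := by
        have := congrArg (aeval α) h0
        simpa [g', SpecialLinearGroup.map_apply_coe, Algebra.smul_def] using this
      have e1 : g'.1 1 0 = 0 := by
        have := congrArg (aeval α) h1
        simp only [map_mul, aeval_C, minpoly.aeval, mul_eq_zero, map_eq_zero, hv0, false_or] at this
        simpa [g', SpecialLinearGroup.map_apply_coe] using this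
      have := sq_mul_mem hg' e1 (u := algebraMap k K (v 0 ^ 2 * t) * α) (xU_mem_genGrp _ _)
      convert this using 1
      simp only [← e0, map_mul, map_pow]
      ring
    · intro t; rw [zero_mul]; exact zero_mem _
    · intro a b _ _ ha hb t; rw [add_mul]; exact add_mem (ha t) (hb t)
    · intro c a _ ha t
      have := ha (c * t)
      rwa [map_mul, show a * (algebraMap k K c * algebraMap k K t * α) = c • a * (algebraMap k K t * α) by
        rw [Algebra.smul_def]; ring] at this
  have := key (u / α) (hW ▸ Submodule.mem_top) 1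
  rw [map_one, one_mul, div_mul_cancel₀ _ hα0] at this
  exact this

theorem genGrp_eq_top_of_finite [Finite k] (h2 : (2 : K) ≠ 0) (hk3 : Nat.card k ≠ 3) {α : K}
    (hα : IsAlgebraic k α) (hα0 : α ≠ 0) (htop : Algebra.adjoin k ({α} : Set K) = ⊤) :
    genGrp k α = ⊤ := by
  classical
  haveI : FiniteDimensional k K := by
    have := hα.isIntegral.fg_adjoin_singleton
    rw [htop, Algebra.top_toSubmodule] at this
    exact ⟨this⟩
  haveI : Finite K := Module.finite_of_finite k
  haveI := Fintype.ofFinite k
  set H := genGrp k α with hH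
  refine eq_top_of_xU (fun u => ?_) (by simpa using yL_mem_genGrp (k := k) α 1)
  let Sring : Subring K :=
    { carrier := {w | ∀ u ∈ upperPart H, w * u ∈ upperPart H}
      one_mem' := fun u hu => by rwa [one_mul]
      mul_mem' := fun {a b} ha hb u hu => by rw [mul_assoc]; exact ha _ (hb u hu)
      zero_mem' := fun u _ => by rw [zero_mul]; exact zero_mem _
      add_mem' := fun {a b} ha hb u hu => by rw [add_mul]; exact add_mem (ha u hu) (hb u hu)
      neg_mem' := fun {a} ha u hu => by rw [neg_mul]; exact neg_mem (ha u hu) }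
  -- the scalars that do not fall into the exceptional case
  have hgood : ∀ d : k, d ≠ 0 → (algebraMap k K d * α) ^ 2 ≠ -1 → algebraMap k K d * α ∈ Sring := by
    intro d hd hexc
    set lam := algebraMap k K d * α with hlam
    have hlam0 : lam ≠ 0 := mul_ne_zero (by simpa using hd) hα0
    set L := Subfield.closure ({lam} : Set K) with hL
    let lam' : L := ⟨lam, Subfield.subset_closure rfl⟩
    haveI := Fintype.ofFinite L
    have hgen : Subfield.closure ({lam'} : Set L) = ⊤ := by
      rw [eq_top_iff]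
      intro z _
      have h := Subfield.map_le_iff_le_comap.mp (le_refl ((Subfield.closure ({lam'} : Set L)).map L.subtype))
      have hz : (z : K) ∈ (Subfield.closure ({lam'} : Set L)).map L.subtype := by
        rw [RingHom.map_field_closure, Set.image_singleton]
        exact z.2
      obtain ⟨z', hz', e⟩ := hz
      rwa [← Subtype.ext (a1 := z') (a2 := z) e]
    have h2L : (2 : L) ≠ 0 := fun e => h2 (by
      have := congrArg L.subtype e
      rwa [map_ofNat, map_zero] at this)
    have hres := Cfsg.Agent.S0801.result h2L lam' (fun e => hlam0 (congrArg Subtype.val e)) hgen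
    rcases hres with ⟨htopL, -⟩ | ⟨-, he, -⟩
    swap
    · exact absurd (by simpa [lam'] using congrArg Subtype.val he) hexc
    have hmap : ∀ g : SpecialLinearGroup (Fin 2) L, SpecialLinearGroup.map L.subtype g ∈ H := by
      intro g
      have : g ∈ Subgroup.comap (SpecialLinearGroup.map L.subtype) H := by
        have hle : Subgroup.closure {g : SpecialLinearGroup (Fin 2) L |
            (g : Matrix (Fin 2) (Fin 2) L) = !![1, 0; 1, 1] ∨ (g : Matrix (Fin 2) (Fin 2) L) = !![1, lam'; 0, 1]} ≤
            Subgroup.comap (SpecialLinearGroup.map L.subtype) H := by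
          rw [Subgroup.closure_le]
          rintro g (hg | hg)
          · rw [show g = yL 1 from Subtype.ext hg, SetLike.mem_coe, Subgroup.mem_comap, map_yL, map_one]
            simpa using yL_mem_genGrp (k := k) α 1
          · rw [show g = xU lam' from Subtype.ext hg, SetLike.mem_coe, Subgroup.mem_comap, map_xU]
            exact xU_mem_genGrp α d
        exact hle (htopL ▸ Subgroup.mem_top g)
      exact this
    have hsq : ∀ ν : L, ((ν : K) ^ 2) ∈ Sring := by
      intro ν u hu
      by_cases hν : ν = 0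
      · subst hν; simp
      obtain ⟨g, hg⟩ : ∃ g : SpecialLinearGroup (Fin 2) L, g.1 = !![ν, 0; 0, ν⁻¹] :=
        ⟨⟨!![ν, 0; 0, ν⁻¹], by simp [det_fin_two, hν]⟩, rfl⟩
      have e1 : (SpecialLinearGroup.map L.subtype g).1 1 0 = 0 := by
        rw [SpecialLinearGroup.map_apply_coe]
        simp [hg]
      have e0 : (SpecialLinearGroup.map L.subtype g).1 0 0 = (ν : K) := by
        rw [SpecialLinearGroup.map_apply_coe]
        simp [hg]
      have := sq_mul_mem (hmap g) e1 hu
      rwa [e0] at this
    have e := eq_half_sq_sub h2L lam'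
    have e' := congrArg (fun z : L => (z : K)) e
    push_cast at e'
    rw [show lam = _ from e']
    have m1 := hsq ((lam' + 1) / 2)
    have m2 := hsq ((lam' - 1) / 2)
    push_cast at m1 m2
    exact sub_mem m1 m2
  -- one exceptional scalar at most up to sign
  have hall : ∀ d : k, algebraMap k K d * α ∈ Sring := by
    intro d
    by_cases hd : d = 0
    · subst hd; simp
    by_cases hexc : (algebraMap k K d * α) ^ 2 = -1
    swap
    · exact hgood d hd hexc
    have hcard : 5 ≤ Fintype.card k := by
      have h1 : 1 < Fintype.card k := Fintype.one_lt_card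
      have h22 : (2 : k) ≠ 0 := fun e => h2 (by simpa [map_ofNat] using congrArg (algebraMap k K) e)
      have hne4 : Fintype.card k ≠ 4 := by
        intro e
        obtain ⟨p, hp⟩ := CharP.exists k
        obtain ⟨n, hn, hc⟩ := FiniteField.card k p
        rw [e] at hc
        have : p ∣ 2 ^ 2 := ⟨p ^ ((n : ℕ) - 1), by
          rw [← pow_succ', Nat.sub_add_cancel n.pos, ← hc]; rfl⟩
        have hp2 : p = 2 := (Nat.prime_dvd_prime_iff_eq hn Nat.prime_two).mp (hn.dvd_of_dvd_pow this)
        subst hp2
        exact h22 (by exact_mod_cast CharP.cast_eq_zero k 2)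
      have hne2 : Fintype.card k ≠ 2 := by
        intro e
        have := FiniteField.cast_card_eq_zero k
        rw [e] at this
        exact h22 (by exact_mod_cast this)
      rw [Nat.card_eq_fintype_card] at hk3
      omega
    obtain ⟨g, hg⟩ : ∃ g : k, g ∉ ({0, d, -d, -(2 * d)} : Finset k) := by
      by_contra h
      push Not at h
      have := (Finset.card_le_card (fun g _ => h g) : (Finset.univ : Finset k).card ≤ _)
      have := this.trans Finset.card_le_four
      rw [Finset.card_univ] at this
      omega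
    simp only [Finset.mem_insert, Finset.mem_singleton, not_or] at hg
    obtain ⟨g0, g1, g2, g3⟩ := hg
    have hbad : ∀ e : k, (algebraMap k K e * α) ^ 2 = -1 → e = d ∨ e = -d := by
      intro e he
      rw [← hexc, mul_pow, mul_pow, ← map_pow, ← map_pow] at he
      exact sq_eq_sq_iff_eq_or_eq_neg.mp ((algebraMap k K).injective (mul_right_cancel₀ (pow_ne_zero 2 hα0) he))
    have hdg : d + g ≠ 0 := fun e => g2 (eq_neg_of_add_eq_zero_right e)
    have m1 := hgood g g0 fun e => (hbad g e).elim g1 g2
    have m2 := hgood (d + g) hdg fun e => (hbad _ e).elim (fun e => g0 (by linear_combination e))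
      (fun e => g3 (by linear_combination e))
    have := sub_mem m2 m1
    rwa [← sub_mul, ← map_sub, add_sub_cancel_right] at this
  have hαS : α ∈ Sring := by simpa using hall 1
  have hαinv : α⁻¹ ∈ Sring := by
    obtain ⟨n, hn0, hn⟩ := isOfFinOrder_iff_pow_eq_one.mp (isOfFinOrder_of_finite (Units.mk0 α hα0))
    have e : α⁻¹ = α ^ (n - 1) := by
      refine inv_eq_of_mul_eq_one_right ?_
      rw [← pow_succ', Nat.sub_add_cancel hn0]
      simpa [Units.ext_iff] using hn
    rw [e]
    exact pow_mem hαS _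
  have hkS : ∀ t : k, algebraMap k K t ∈ Sring := fun t => by
    have := mul_mem (hall t) hαinv
    rwa [mul_inv_cancel_right₀ hα0] at this
  let Salg : Subalgebra k K := { Sring.toSubsemiring with algebraMap_mem' := hkS }
  have hSK : u / α ∈ Salg := by
    have : Algebra.adjoin k ({α} : Set K) ≤ Salg := Algebra.adjoin_le (Set.singleton_subset_iff.mpr hαS)
    rw [htop] at this
    exact this Algebra.mem_top
  have hα1 : α ∈ upperPart H := by
    change xU α ∈ H
    simpa using xU_mem_genGrp (k := k) α 1
  have := (hSK : ∀ v ∈ upperPart H, u / α * v ∈ upperPart H) α hα1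
  rwa [div_mul_cancel₀ _ hα0] at this

theorem genGrp_eq_top (h2 : (2 : K) ≠ 0) (hk3 : Nat.card k ≠ 3) {α : K} (hα : IsAlgebraic k α)
    (hα0 : α ≠ 0) (htop : Algebra.adjoin k ({α} : Set K) = ⊤) : genGrp k α = ⊤ := by
  rcases finite_or_infinite k with h | h
  · exact genGrp_eq_top_of_finite h2 hk3 hα hα0 htop
  · exact genGrp_eq_top_of_infinite h2 hα hα0 htop

end Cfsg.Agent.Lib.QuadPair
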