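import Cfsg.Agent.Lib.QuadPair.Opposite
import Cfsg.Agent.Lib.RootSub.Unipotent

/-!
Unipotent pairs of root subgroups: the flag of the bracket, and existence of opposite conjugates.
-/

namespace Cfsg.Agent.Lib.QuadPair

open Cfsg.Agent.Lib.RootSub

variable {k : Type*} [Field k] {M : Type*} [AddCommGroup M] [Module k M]
variable {G : Subgroup (LinearMap.GeneralLinearGroup k M)} {a b : M →ₗ[k] M}

local notation "GLM" => LinearMap.GeneralLinearGroup k M
local notation "ND" => M →ₗ[k] M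

/-- The elements acting trivially on the three factors of a flag `M ⊇ W₁ ⊇ W₂ ⊇ 0`. -/
def flagGrp {W₁ W₂ : Submodule k M} (h : W₂ ≤ W₁) : Subgroup GLM where
  carrier := {g | (∀ m, ((g : ND) - 1) m ∈ W₁) ∧ (∀ m ∈ W₁, ((g : ND) - 1) m ∈ W₂) ∧
    ∀ m ∈ W₂, ((g : ND) - 1) m = 0}
  one_mem' := by simp
  mul_mem' := by
    intro x y hx hy
    have e : ((x * y : GLM) : ND) - 1 = ((x : ND) - 1) + ((y : ND) - 1) + ((x : ND) - 1) * ((y : ND) - 1) := by
      rw [Units.val_mul]; noncomm_ring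
    refine ⟨fun m => ?_, fun m hm => ?_, fun m hm => ?_⟩ <;>
      rw [e, LinearMap.add_apply, LinearMap.add_apply, Module.End.mul_apply]
    · exact add_mem (add_mem (hx.1 m) (hy.1 m)) (h (hx.2.1 _ (hy.1 m)))
    · exact add_mem (add_mem (hx.2.1 m hm) (hy.2.1 m hm)) (hx.2.1 _ (h (hy.2.1 m hm)))
    · rw [hx.2.2 m hm, hy.2.2 m hm, map_zero, add_zero, add_zero]
  inv_mem' := by
    intro x hx
    set d := (x : ND) - 1 with hd
    have hd3 : d * d * d = 0 := by
      ext m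
      exact hx.2.2 _ (hx.2.1 _ (hx.1 m))
    have e : ((x⁻¹ : GLM) : ND) - 1 = d * d - d := by
      have : (x : ND) * (1 - d + d * d) = 1 := by
        rw [show (x : ND) = 1 + d by rw [hd]; abel]
        rw [show (1 + d) * (1 - d + d * d) = 1 + d * d * d by noncomm_ring, hd3, add_zero]
      rw [Units.inv_eq_of_mul_eq_one_right this]
      abel
    refine ⟨fun m => ?_, fun m hm => ?_, fun m hm => ?_⟩ <;>
      rw [e, LinearMap.sub_apply, Module.End.mul_apply]
    · exact sub_mem (h (hx.2.1 _ (hx.1 m))) (hx.1 m)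
    · exact sub_mem (hx.2.1 _ (hx.1 _)) (hx.2.1 m hm)
    · rw [hx.2.2 m hm, map_zero, sub_zero]

theorem mem_flagGrp {W₁ W₂ : Submodule k M} {h : W₂ ≤ W₁} {g : GLM} :
    g ∈ flagGrp h ↔ (∀ m, ((g : ND) - 1) m ∈ W₁) ∧ (∀ m ∈ W₁, ((g : ND) - 1) m ∈ W₂) ∧
      ∀ m ∈ W₂, ((g : ND) - 1) m = 0 := Iff.rfl

theorem unipotent_iff_prod {H : Subgroup GLM} : Cfsg.IsUnipotentOn H ↔ ∃ n : ℕ, ∀ l : List GLM,
    (∀ g ∈ l, g ∈ H) → l.length = n → (l.map fun g : GLM => ((g : ND) - 1)).prod = 0 := by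
  simp [Cfsg.IsUnipotentOn, bind_pure_comp, List.map_flatMap, ← List.map_eq_flatMap, Function.comp_def]

theorem flagGrp_unipotent {W₁ W₂ : Submodule k M} (h : W₂ ≤ W₁) :
    Cfsg.IsUnipotentOn (flagGrp h : Subgroup GLM) := by
  refine unipotent_iff_prod.mpr ⟨3, fun l hl hlen => ?_⟩
  obtain ⟨x, y, z, rfl⟩ := List.length_eq_three.mp hlen
  ext m
  simp only [List.map_cons, List.map_nil, List.prod_cons, List.prod_nil, mul_one, Module.End.mul_apply]
  exact (hl x (by simp)).2.2 _ ((hl y (by simp)).2.1 _ ((hl z (by simp)).1 m))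

theorem exists_fixed {U : Subgroup GLM} (hU : Cfsg.IsUnipotentOn U) (h : ∃ m : M, m ≠ 0) :
    ∃ v : M, v ≠ 0 ∧ ∀ g ∈ U, ((g : ND) - 1) v = 0 := by
  obtain ⟨n, hn⟩ := unipotent_iff_prod.mp hU
  have key : ∀ n, ∀ v : M, v ≠ 0 → (∀ l : List GLM, (∀ g ∈ l, g ∈ U) → l.length = n →
      (l.map fun g : GLM => ((g : ND) - 1)).prod v = 0) → ∃ w : M, w ≠ 0 ∧ ∀ g ∈ U, ((g : ND) - 1) w = 0 := by
    intro n
    induction n with
    | zero =>
      intro v hv hl
      exact absurd (by simpa using hl [] (by simp) rfl) hv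
    | succ n ih =>
      intro v hv hl
      by_cases hf : ∀ g ∈ U, ((g : ND) - 1) v = 0
      · exact ⟨v, hv, hf⟩
      push Not at hf
      obtain ⟨g, hg, hgv⟩ := hf
      refine ih _ hgv fun l hlU hlen => ?_
      have := hl (l ++ [g]) (by simpa [or_imp, forall_and] using And.intro hlU hg) (by simp [hlen])
      rwa [List.map_append, List.prod_append, List.map_singleton, List.prod_singleton,
        Module.End.mul_apply] at this
  obtain ⟨m, hm⟩ := h
  exact key n m hm fun l hl hlen => by rw [hn l hl hlen]; rfl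

theorem brR_comm (a b : M →ₗ[k] M) : brR a b = brR b a := sup_comm _ _

theorem brK_comm (a b : M →ₗ[k] M) : brK a b = brK b a := inf_comm _ _

theorem brR_le_brK (haa : a * a = 0) (hbb : b * b = 0) : brR a b ≤ brK a b := by
  refine sup_le (le_inf ?_ ?_) (le_inf ?_ ?_)
  · exact inf_le_left.trans le_sup_left
  · exact (inf_le_left.trans (range_le_ker haa)).trans le_sup_right
  · exact (inf_le_left.trans (range_le_ker hbb)).trans le_sup_right
  · exact inf_le_left.trans le_sup_left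

theorem conj_conj (g h : GLM) (a : ND) :
    (g : ND) * ((h : ND) * a * ((h⁻¹ : GLM) : ND)) * ((g⁻¹ : GLM) : ND) =
      ((g * h : GLM) : ND) * a * (((g * h)⁻¹ : GLM) : ND) := by
  rw [mul_inv_rev, Units.val_mul, Units.val_mul]; simp only [mul_assoc]

theorem conj_one (a : ND) : ((1 : GLM) : ND) * a * (((1 : GLM)⁻¹ : GLM) : ND) = a := by simp

theorem root_congr {a' : M →ₗ[k] M} (h1 : LinearMap.range a' = LinearMap.range a)
    (h2 : LinearMap.ker a' = LinearMap.ker a) : root G a' = root G a := by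
  rw [root, root, h1, h2]

variable [FiniteDimensional k M]

theorem Opp.conj {g : GLM} (h : Opp a b) :
    Opp ((g : ND) * a * ((g⁻¹ : GLM) : ND)) ((g : ND) * b * ((g⁻¹ : GLM) : ND)) := by
  have hinj : Function.Injective (g : ND) := by
    refine Function.LeftInverse.injective (g := ((g⁻¹ : GLM) : ND)) fun v => ?_
    rw [← Module.End.mul_apply, ← Units.val_mul, inv_mul_cancel]; rfl
  refine ⟨?_, ?_⟩ <;>
    rw [range_conj, ker_conj, ← Submodule.map_inf _ hinj]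
  · rw [h.1, Submodule.map_bot]
  · rw [h.2, Submodule.map_bot]

theorem IsMin.opp_of_mem (ha : IsMin G a) (hb : IsMin G b) {a' b' : M →ₗ[k] M}
    (ha' : a' ∈ fam G (LinearMap.range a) (LinearMap.ker a)) (ha0 : a' ≠ 0)
    (hb' : b' ∈ fam G (LinearMap.range b) (LinearMap.ker b)) (hb0 : b' ≠ 0) :
    Opp a' b' ↔ Opp a b :=
  opp_congr (ha.spaces ha' ha0).2.1 (ha.spaces ha' ha0).2.2 (hb.spaces hb' hb0).2.1 (hb.spaces hb' hb0).2.2

/-- All members of two families that are not opposite satisfy the two triple relations. -/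
theorem triple_of_mem (h2 : (2 : k) ≠ 0) (h3 : Nat.card k ≠ 3) (ha : IsMin G a) (hb : IsMin G b)
    (hno : ¬ Opp a b) {a' b' : M →ₗ[k] M}
    (ha' : a' ∈ fam G (LinearMap.range a) (LinearMap.ker a))
    (hb' : b' ∈ fam G (LinearMap.range b) (LinearMap.ker b)) :
    a' * b' * a' = 0 ∧ b' * a' * b' = 0 := by
  by_cases ha0 : a' = 0
  · simp [ha0]
  by_cases hb0 : b' = 0
  · simp [hb0]
  exact triple_of_not_opp h2 h3 (ha.spaces ha' ha0).1 (hb.spaces hb' hb0).1
    fun h => hno ((ha.opp_of_mem hb ha' ha0 hb' hb0).mp h)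

theorem root_le_flag (h2 : (2 : k) ≠ 0) (h3 : Nat.card k ≠ 3) (ha : IsMin G a) (hb : IsMin G b)
    (hno : ¬ Opp a b) :
    root G a ⊔ root G b ≤ flagGrp (brR_le_brK ha.1.1 hb.1.1) := by
  have key : ∀ {a b : M →ₗ[k] M}, IsMin G a → IsMin G b → ¬ Opp a b →
      ∀ c ∈ fam G (LinearMap.range a) (LinearMap.ker a),
        (∀ m, c m ∈ brK a b) ∧ (∀ m ∈ brK a b, c m ∈ brR a b) ∧ ∀ m ∈ brR a b, c m = 0 := by
    intro a b ha hb hno c hc
    have hRK : ∀ m, c m ∈ LinearMap.range a := fun m => hc.2.1 ⟨m, rfl⟩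
    refine ⟨fun m => ⟨Submodule.mem_sup_left (hRK m),
      Submodule.mem_sup_right (range_le_ker ha.1.1 (hRK m))⟩, ?_, ?_⟩
    · rintro m ⟨-, hm⟩
      obtain ⟨_, ⟨u, rfl⟩, y, hy, rfl⟩ := Submodule.mem_sup.mp hm
      rw [map_add, LinearMap.mem_ker.mp (hc.2.2 hy), add_zero]
      refine Submodule.mem_sup_left ⟨hRK _, ?_⟩
      exact DFunLike.congr_fun (triple_of_mem h2 h3 ha hb hno hc (self_mem_fam hb.1)).2 u
    · intro m hm
      obtain ⟨r, hr, s, hs, rfl⟩ := Submodule.mem_sup.mp hm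
      rw [map_add, LinearMap.mem_ker.mp (hc.2.2 (range_le_ker ha.1.1 hr.1)),
        LinearMap.mem_ker.mp (hc.2.2 hs.2), add_zero]
  refine sup_le (fun g hg => ?_) (fun g hg => ?_)
  · obtain ⟨c, hc, rfl⟩ := (mem_root_iff ha).mp hg
    rw [mem_flagGrp, coe_uni hc.1.1, add_sub_cancel_left]
    exact key ha hb hno c hc
  · obtain ⟨c, hc, rfl⟩ := (mem_root_iff hb).mp hg
    rw [mem_flagGrp, coe_uni hc.1.1, add_sub_cancel_left, brR_comm a b, brK_comm a b]
    exact key hb ha (fun h => hno h.symm) c hc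

theorem unipotent_of_not_opp (h2 : (2 : k) ≠ 0) (h3 : Nat.card k ≠ 3) (ha : IsMin G a) (hb : IsMin G b)
    (hno : ¬ Opp a b) : Cfsg.IsUnipotentOn (root G a ⊔ root G b) :=
  Kolchin.unipotent_mono (flagGrp_unipotent _) (root_le_flag h2 h3 ha hb hno)

theorem not_unipotent_of_opp (ha : IsMin G a) (hb : IsMin G b) (h : Opp a b) {X : Subgroup GLM}
    (haX : uni a ∈ X) (hbX : uni b ∈ X) : ¬ Cfsg.IsUnipotentOn X := by
  intro hu
  obtain ⟨n, hn⟩ := unipotent_iff_prod.mp hu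
  obtain ⟨v₀, hv₀, hv0⟩ := Submodule.exists_mem_ne_zero_of_ne_bot ha.range_ne_bot
  have key : ∀ n, ∃ l : List GLM, (∀ g ∈ l, g ∈ X) ∧ l.length = n ∧
      ∃ w, (l.map fun g : GLM => ((g : ND) - 1)).prod v₀ = w ∧ w ≠ 0 ∧ (w ∈ LinearMap.range a ∨ w ∈ LinearMap.range b) := by
    intro n
    induction n with
    | zero => exact ⟨[], by simp, rfl, v₀, by simp, hv0, Or.inl hv₀⟩
    | succ n ih =>
      obtain ⟨l, hl, hlen, w, hw, hw0, hwm⟩ := ih
      rcases hwm with hwa | hwb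
      · refine ⟨uni b :: l, by simpa using ⟨hbX, hl⟩, by simp [hlen], b w, ?_,
          fun e => hw0 (h.eq_zero_left hwa e), Or.inr ⟨w, rfl⟩⟩
        rw [List.map_cons, List.prod_cons, Module.End.mul_apply, hw, coe_uni hb.1.1, add_sub_cancel_left]
      · refine ⟨uni a :: l, by simpa using ⟨haX, hl⟩, by simp [hlen], a w, ?_,
          fun e => hw0 (h.symm.eq_zero_left hwb e), Or.inl ⟨w, rfl⟩⟩
        rw [List.map_cons, List.prod_cons, Module.End.mul_apply, hw, coe_uni ha.1.1, add_sub_cancel_left]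
  obtain ⟨l, hl, hlen, w, hw, hw0, -⟩ := key n
  rw [hn l hl hlen] at hw
  exact hw0 (by simpa using hw.symm)

theorem uni_self_mem_root (ha : InL G a) : uni a ∈ root G a := by simpa using uni_mem_root ha (1 : k)

theorem isUnipotentOn_root_iff (h2 : (2 : k) ≠ 0) (h3 : Nat.card k ≠ 3) (ha : IsMin G a) (hb : IsMin G b) :
    Cfsg.IsUnipotentOn (root G a ⊔ root G b) ↔ ¬ Opp a b :=
  ⟨fun hu h => not_unipotent_of_opp ha hb h (Subgroup.mem_sup_left (uni_self_mem_root ha.1))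
    (Subgroup.mem_sup_right (uni_self_mem_root hb.1)) hu, unipotent_of_not_opp h2 h3 ha hb⟩

/-- `G` acts on itself as an irreducible group does. -/
def Amb (G : Subgroup GLM) : Prop :=
  ∃ Γ : Subgroup GLM, Cfsg.IsIrreducibleFor Γ ∧ ∀ g ∈ Γ, ∃ g' ∈ G, ∀ x ∈ G, g * x * g⁻¹ = g' * x * g'⁻¹

omit [FiniteDimensional k M] in
theorem amb_of_irreducible (h : Cfsg.IsIrreducibleFor G) : Amb G :=
  ⟨G, h, fun g hg => ⟨g, hg, fun _ _ => rfl⟩⟩

omit [FiniteDimensional k M] in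
/-- A non-trivial normal subgroup fixes no non-zero vector. -/
theorem fixed_eq_bot (hG : Amb G) {U : Subgroup GLM} (hle : U ≤ G) (hn : ∀ g ∈ G, Cfsg.conjBy U g ≤ U)
    (hU : U ≠ ⊥) : Cfsg.fixedSubmodule U = ⊥ := by
  obtain ⟨Γ, ⟨-, hirr⟩, hact⟩ := hG
  have hfix : ∀ x ∈ Γ, ∀ w ∈ Cfsg.fixedSubmodule U, (x : ND) w ∈ Cfsg.fixedSubmodule U := by
    intro x hx w hw
    simp only [Cfsg.fixedSubmodule, Submodule.mem_iInf, LinearMap.mem_ker] at hw ⊢
    intro g hg
    obtain ⟨x', hx', hxx⟩ := hact _ (inv_mem hx)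
    have hg' : x⁻¹ * g * x ∈ U := by
      have := hn _ hx' (conj_mem_conjBy (g := x') hg)
      rwa [← hxx g (hle hg), inv_inv] at this
    have h0 := hw _ hg'
    rw [LinearMap.sub_apply, Module.End.one_apply, sub_eq_zero, Units.val_mul, Units.val_mul,
      Module.End.mul_apply, Module.End.mul_apply] at h0
    have := congrArg (x : ND) h0
    rw [← Module.End.mul_apply, ← Units.val_mul, mul_inv_cancel, Units.val_one, Module.End.one_apply] at this
    rw [LinearMap.sub_apply, Module.End.one_apply, this, sub_self]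
  refine (hirr _ hfix).resolve_right fun htop => hU ((Subgroup.eq_bot_iff_forall _).mpr fun g hg => ?_)
  ext1
  refine LinearMap.ext fun w => ?_
  have hw : w ∈ Cfsg.fixedSubmodule U := by rw [htop]; trivial
  simp only [Cfsg.fixedSubmodule, Submodule.mem_iInf, LinearMap.mem_ker] at hw
  exact sub_eq_zero.mp (hw g hg)

/-- A unipotent normal subgroup is trivial. -/
theorem eq_bot_of_normal_unipotent (hG : Amb G) {U : Subgroup GLM} (hle : U ≤ G)
    (hU : Cfsg.IsUnipotentOn U) (hn : ∀ g ∈ G, Cfsg.conjBy U g ≤ U) : U = ⊥ := by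
  by_contra hne
  have hb := fixed_eq_bot hG hle hn hne
  obtain ⟨Γ, ⟨hM, -⟩, -⟩ := hG
  obtain ⟨v, hv, hvf⟩ := exists_fixed hU hM
  exact hv ((Submodule.mem_bot k).mp (hb ▸ by simpa [Cfsg.fixedSubmodule] using hvf))

theorem exists_opp_conj (h2 : (2 : k) ≠ 0) (h3 : Nat.card k ≠ 3) (hG : Amb G)
    (ha : IsMin G a) :
    ∃ g ∈ G, Opp a ((g : ND) * a * ((g⁻¹ : GLM) : ND)) := by
  by_contra hno
  push Not at hno
  set W := {A : Subgroup GLM | ∃ g ∈ G, A = root G ((g : ND) * a * ((g⁻¹ : GLM) : ND))} with hW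
  have hWG : ∀ A ∈ W, A ≤ G := by rintro A ⟨g, -, rfl⟩; exact grp_le
  have hWconj : ∀ A ∈ W, ∀ x ∈ G, Cfsg.conjBy A x ∈ W := by
    rintro A ⟨g, hg, rfl⟩ x hx
    exact ⟨x * g, mul_mem hx hg, by rw [conjBy_root hx, conj_conj]⟩
  have hWW : ∀ A ∈ W, ∀ B ∈ W, Cfsg.IsUnipotentOn (A ⊔ B) := by
    rintro A ⟨g, hg, rfl⟩ B ⟨h, hh, rfl⟩
    refine unipotent_of_not_opp h2 h3 (ha.conj hg) (ha.conj hh) fun ho => hno (g⁻¹ * h) (mul_mem (inv_mem hg) hh) ?_
    have := ho.conj (g := g⁻¹)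
    rwa [conj_conj, conj_conj, inv_mul_cancel, conj_one] at this
  have hbot : (⨆ A ∈ W, A) = ⊥ := eq_bot_of_normal_unipotent hG (iSup₂_le hWG)
    (Kolchin.unipotent_iSup hWG hWW hWconj) fun x hx => by
      simp only [Cfsg.conjBy, Subgroup.map_iSup]
      exact iSup₂_le fun A hA => Kolchin.le_iSup_fam (hWconj A hA x hx)
  refine root_ne_bot ha (le_bot_iff.mp ?_)
  rw [← hbot]
  exact Kolchin.le_iSup_fam (A := root G a) (U := W) ⟨1, one_mem G, by rw [conj_one]⟩

end Cfsg.Agent.Lib.QuadPair
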