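import Cfsg.Agent.Lib.QuadPair.Opposite

/-!
An opposite pair carries a copy of `SL₂` over a simple algebraic extension.
-/

namespace Cfsg.Agent.Lib.QuadPair

open Matrix Polynomial

variable {k : Type*} [Field k] {M : Type*} [AddCommGroup M] [Module k M] [FiniteDimensional k M]
variable {G : Subgroup (LinearMap.GeneralLinearGroup k M)} {a b : M →ₗ[k] M}

local notation "GLM" => LinearMap.GeneralLinearGroup k M
local notation "ND" => M →ₗ[k] M

theorem eq_zero_on_sup (h : Opp a b) (ha : IsMin G a) (hb : IsMin G b) (v : M) :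
    ∃ r ∈ LinearMap.range a, b v = b r := by
  have : b v ∈ (LinearMap.range a).map b := by rw [h.map_range ha hb]; exact ⟨v, rfl⟩
  obtain ⟨r, hr, e⟩ := this
  exact ⟨r, hr, e.symm⟩

/-- A polynomial vanishing on the range vanishes after applying `b`. -/
theorem b_aeval_eq_zero (h : Opp a b) (ha : IsMin G a) (hb : IsMin G b) {F : k[X]} (hF : F ∈ annR a b) :
    b * aeval (a * b) F = 0 := by
  ext v
  obtain ⟨r, hr, e⟩ := eq_zero_on_sup h ha hb v
  have hd : ∀ u : M, (aeval (a * b) F) u = F.coeff 0 • u + aeval (a * b) F.divX ((a * b) u) := by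
    intro u
    conv_lhs => rw [← divX_mul_X_add F]
    rw [map_add, map_mul, aeval_X, aeval_C, LinearMap.add_apply, Module.End.mul_apply,
      Algebra.algebraMap_eq_smul_one, LinearMap.smul_apply, Module.End.one_apply, add_comm]
  have e' : (a * b) v = (a * b) r := by
    change a (b v) = a (b r); rw [e]
  rw [Module.End.mul_apply, hd v, e', map_add, map_smul, e, ← map_smul, ← map_add, ← hd r, hF r hr, map_zero]
  rfl

theorem divX_mem_annR (h : Opp a b) {g : k[X]} (hg : X * g ∈ annR a b) : g ∈ annR a b := by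
  intro v hv
  refine h.injective (aeval_mem (range_map_le a b) _ hv) ?_
  have := hg v hv
  rw [map_mul, aeval_X] at this
  exact this

/-- The representation only depends on the entries on the range. -/
theorem psi_eq_zero (h : Opp a b) (ha : IsMin G a) (hb : IsMin G b) {Y : Matrix (Fin 2) (Fin 2) k[X]}
    (hY : Adm Y) (hI : ∀ r c, Y r c ∈ annR a b) : psi a b Y = 0 := by
  obtain ⟨f, g, j, h1, h2, h3⟩ := hY
  have hf : f ∈ annR a b := divX_mem_annR h (h1 ▸ hI 0 0)
  have hg : g ∈ annR a b := divX_mem_annR h (h2 ▸ hI 0 1)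
  have hj : j ∈ annR a b := divX_mem_annR h (h3 ▸ hI 1 1)
  have e1 : aeval (a * b) (Y 0 0) = 0 := by
    rw [h1, mul_comm, map_mul, aeval_X]
    ext v
    exact hf _ ⟨b v, rfl⟩
  have e2 : aeval (a * b) g * a = 0 := by
    ext v; exact hg _ ⟨v, rfl⟩
  have e3 : aeval (a * b) j * a = 0 := by
    ext v; exact hj _ ⟨v, rfl⟩
  rw [psi, e1, h2, h3, divX_X_mul, divX_X_mul, e2, b_aeval_eq_zero h ha hb (hI 1 0), mul_assoc b, e3,
    mul_zero, zero_add, zero_add, add_zero]

theorem Rep.eq_one (h : Opp a b) (ha : IsMin G a) (hb : IsMin G b) {γ : SpecialLinearGroup (Fin 2) k[X]}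
    {n : LinearMap.GeneralLinearGroup k M} (hn : Rep a b γ n) (hI : ∀ r c, (γ.1 - 1) r c ∈ annR a b) :
    n = 1 := by
  ext1
  rw [hn.2, psi_eq_zero h ha hb hn.1 hI, add_zero, Units.val_one]

theorem Rep.entries_of_eq_one (h : Opp a b) (ha : IsMin G a) (hb : IsMin G b) {γ : SpecialLinearGroup (Fin 2) k[X]}
    (hn : Rep a b γ (1 : LinearMap.GeneralLinearGroup k M)) : ∀ r c, (γ.1 - 1) r c ∈ annR a b := by
  obtain ⟨f, g, j, h1, h2, h3⟩ := hn.1
  have he : psi a b (γ.1 - 1) = 0 := by
    have := hn.2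
    rw [Units.val_one] at this
    exact (left_eq_add.mp this)
  rw [psi, h1, h2, h3, divX_X_mul, divX_X_mul, mul_comm X f, map_mul, aeval_X] at he
  have haa := ha.1.1
  have hbb := hb.1.1
  have hR := h.inf_range hbb
  have split : ∀ x y : M, x ∈ LinearMap.range a → y ∈ LinearMap.range a → x + b y = 0 → x = 0 ∧ y = 0 := by
    intro x y hx hy e
    have hbx : x = 0 := by
      have : x ∈ LinearMap.range a ⊓ LinearMap.range b :=
        ⟨hx, ⟨-y, by rw [map_neg, neg_eq_of_add_eq_zero_left e]⟩⟩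
      rwa [hR, Submodule.mem_bot] at this
    refine ⟨hbx, h.eq_zero_left hy ?_⟩
    rwa [hbx, zero_add] at e
  have hmem := fun (P : k[X]) (v : M) (hv : v ∈ LinearMap.range a) => aeval_mem (range_map_le a b) P hv
  have key : ∀ v ∈ LinearMap.range a, (aeval (a * b) (X * f) v = 0 ∧ aeval (a * b) ((γ.1 - 1) 1 0) v = 0) ∧
      (aeval (a * b) (X * g) v = 0 ∧ aeval (a * b) (X * j) v = 0) := by
    intro v hv
    obtain ⟨u, rfl⟩ := hv
    have ha0 : a (a u) = 0 := DFunLike.congr_fun haa u
    have hb0 : b (b (a u)) = 0 := DFunLike.congr_fun hbb _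
    refine ⟨split _ _ (hmem _ _ ⟨u, rfl⟩) (hmem _ _ ⟨u, rfl⟩) ?_, ?_⟩
    · have := DFunLike.congr_fun he (a u)
      simp only [LinearMap.add_apply, Module.End.mul_apply, LinearMap.zero_apply, ha0, map_zero,
        add_zero] at this
      rw [mul_comm X f, map_mul, aeval_X]
      exact this
    · have := DFunLike.congr_fun he (b (a u))
      have hz : ∀ P : k[X], b (aeval (a * b) P (b (a u))) = 0 := fun P =>
        DFunLike.congr_fun (b_aeval_b hbb P) (a u)
      simp only [LinearMap.add_apply, Module.End.mul_apply, LinearMap.zero_apply, hz, hb0, map_zero,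
        zero_add, add_zero] at this
      have h' : aeval (a * b) (X * g) (a u) + b (aeval (a * b) (X * j) (a u)) = 0 := by
        rw [mul_comm X g, mul_comm X j, map_mul, map_mul, aeval_X]
        exact this
      exact split _ _ (hmem _ _ ⟨u, rfl⟩) (hmem _ _ ⟨u, rfl⟩) h'
  intro r c
  fin_cases r <;> fin_cases c <;> intro v hv
  · change aeval (a * b) ((γ.1 - 1) 0 0) v = 0; rw [h1]; exact (key v hv).1.1
  · change aeval (a * b) ((γ.1 - 1) 0 1) v = 0; rw [h2]; exact (key v hv).2.1
  · change aeval (a * b) ((γ.1 - 1) 1 0) v = 0; exact (key v hv).1.2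
  · change aeval (a * b) ((γ.1 - 1) 1 1) v = 0; rw [h3]; exact (key v hv).2.2

/-- The group of the two scalar families. -/
noncomputable def pairGrp (a b : ND) : Subgroup GLM :=
  Subgroup.closure ((Set.range fun c : k => uni (c • a)) ∪ Set.range fun c : k => uni (c • b))

omit [FiniteDimensional k M] in
theorem mem_pairGrp_left (a b : M →ₗ[k] M) (c : k) : uni (c • a) ∈ pairGrp a b :=
  Subgroup.subset_closure (Or.inl ⟨c, rfl⟩)

omit [FiniteDimensional k M] in
theorem mem_pairGrp_right (a b : M →ₗ[k] M) (c : k) : uni (c • b) ∈ pairGrp a b :=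
  Subgroup.subset_closure (Or.inr ⟨c, rfl⟩)

omit [FiniteDimensional k M] in
theorem pairGrp_le (ha : InL G a) (hb : InL G b) : pairGrp a b ≤ G := by
  rw [pairGrp, Subgroup.closure_le]
  rintro _ (⟨c, rfl⟩ | ⟨c, rfl⟩)
  exacts [ha.2 c, hb.2 c]

/-- The irreducible polynomial, the homomorphism, and its description. -/
theorem exists_hom (h2 : (2 : k) ≠ 0) (h3 : Nat.card k ≠ 3) (ha : IsMin G a) (hb : IsMin G b) (h : Opp a b) :
    ∃ (p : k[X]) (_ : Fact (Irreducible p)) (φ : SpecialLinearGroup (Fin 2) (AdjoinRoot p) →* GLM),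
      (AdjoinRoot.root p ≠ 0) ∧ (∀ F, p ∣ F ↔ F ∈ annR a b) ∧ Function.Injective φ ∧ φ.range = pairGrp a b ∧
      (∀ u, ∃ F : k[X], AdjoinRoot.mk p (X * F) = u ∧ (φ (xU u) : ND) = 1 + aeval (a * b) F * a) ∧
      (∀ u, ∃ F : k[X], AdjoinRoot.mk p F = u ∧ (φ (yL u) : ND) = 1 + b * aeval (a * b) F) := by
  obtain ⟨p, hp, w, hw, hw0, hpw⟩ := exists_irreducible (range_map_le a b) ha.range_ne_bot
  haveI := Fact.mk hp
  have hinj : ∀ v ∈ LinearMap.range a, a (b v) = 0 → v = 0 := fun v hv => h.injective hv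
  have hpI := aeval_eq_zero_of_injective h2 h3 ha hb.1 hinj hp hw hw0 hpw
  have hiff : ∀ F, p ∣ F ↔ F ∈ annR a b := by
    intro F
    refine ⟨fun ⟨c, hc⟩ => hc ▸ Ideal.mul_mem_right c _ hpI, fun hF => ?_⟩
    by_contra hnd
    obtain ⟨s, t, hst⟩ := hp.coprime_iff_not_dvd.mpr hnd
    have := congrArg (fun Q => aeval (a * b) Q w) hst
    simp only [map_add, map_mul, LinearMap.add_apply, Module.End.mul_apply, hpw, hF w hw, map_zero, map_one,
      Module.End.one_apply, add_zero] at this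
    exact hw0 this.symm
  have hα : IsAlgebraic k (AdjoinRoot.root p) :=
    ⟨p, hp.ne_zero, by rw [AdjoinRoot.aeval_eq, AdjoinRoot.mk_self]⟩
  have hα0 : AdjoinRoot.root p ≠ 0 := by
    intro e
    rw [← AdjoinRoot.mk_X, AdjoinRoot.mk_eq_zero, hiff] at e
    have hX := e w hw
    rw [aeval_X] at hX
    exact hw0 (hinj w hw hX)
  have h2K : (2 : AdjoinRoot p) ≠ 0 := fun e =>
    h2 ((algebraMap k (AdjoinRoot p)).injective (by rw [map_ofNat, e, map_zero]))
  set K := AdjoinRoot p
  set f := SpecialLinearGroup.map (n := Fin 2) ((aeval (AdjoinRoot.root p) : k[X] →ₐ[k] K) : k[X] →+* K) with hf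
  have himg : (genGrp k (X : k[X])).map f = ⊤ := by
    rw [hf, map_genGrp, aeval_X, genGrp_eq_top h2K h3 hα hα0 AdjoinRoot.adjoinRoot_eq_top]
  have hentry : ∀ γ r c, (f γ).1 r c = AdjoinRoot.mk p (γ.1 r c) := fun γ r c => by
    simp [hf, SpecialLinearGroup.map_apply_coe, AdjoinRoot.aeval_eq]
    exact AdjoinRoot.aeval_eq _
  have hlift : ∀ g, ∃ γ, γ ∈ genGrp k (X : k[X]) ∧ f γ = g := fun g => by
    have : g ∈ (genGrp k (X : k[X])).map f := by rw [himg]; exact Subgroup.mem_top g
    exact this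
  choose lift hliftm hlifte using hlift
  have hrep : ∀ g, ∃ n : GLM, Rep a b (lift g) n := fun g => by
    obtain ⟨n, -, hn⟩ := exists_rep ha.1 hb.1 (hliftm g); exact ⟨n, hn⟩
  choose val hval using hrep
  have hker : ∀ γ, f γ = 1 ↔ ∀ r c, (γ.1 - 1) r c ∈ annR a b := by
    intro γ
    have hone : ∀ r c, AdjoinRoot.mk p ((1 : Matrix (Fin 2) (Fin 2) k[X]) r c) =
        (1 : Matrix (Fin 2) (Fin 2) K) r c := by
      intro r c; fin_cases r <;> fin_cases c <;> simp
    constructor
    · intro hγ r c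
      rw [← hiff, Matrix.sub_apply, ← AdjoinRoot.mk_eq_mk, ← hentry, hγ, hone]
      rfl
    · intro hγ
      ext r c
      have := hγ r c
      rw [← hiff, Matrix.sub_apply, ← AdjoinRoot.mk_eq_mk, hone] at this
      rw [hentry, this]
      rfl
  have huniq : ∀ {γ g n}, f γ = g → Rep a b γ n → n = val g := by
    intro γ g n hγ hn
    have := (hn.inv ha.1.1 hb.1.1).mul ha.1.1 hb.1.1 (hval g)
    have h1 := this.eq_one h ha hb ((hker _).mp (by rw [map_mul, map_inv, hγ, hlifte, inv_mul_cancel]))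
    exact inv_mul_eq_one.mp h1
  let φ : SpecialLinearGroup (Fin 2) K →* GLM :=
    { toFun := val
      map_one' := (huniq (γ := 1) (map_one f)
        ⟨⟨0, 0, 0, by simp, by simp, by simp⟩, by simp [psi_zero]⟩).symm
      map_mul' := fun g g' => (huniq (by rw [map_mul, hlifte, hlifte]) ((hval g).mul ha.1.1 hb.1.1 (hval g'))).symm }
  have hgen : ∀ {γ g n}, f γ = g → Rep a b γ n → φ g = n := fun hγ hn => (huniq hγ hn).symm
  have hxrep : ∀ t : k, Rep a b (xU (algebraMap k k[X] t * X)) (uni (t • a)) := by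
    intro t
    refine ⟨⟨0, Polynomial.C t, 0, by simp [coe_xU], by simp [coe_xU], by simp [coe_xU]⟩, ?_⟩
    rw [coe_uni (smul_sq ha.1.1 t)]
    have e : (xU (algebraMap k k[X] t * X)).1 - 1 = !![0, X * Polynomial.C t; 0, 0] := by
      ext i j; fin_cases i <;> fin_cases j <;> simp [coe_xU]
    rw [e, psi]
    simp only [Matrix.cons_val', Matrix.cons_val_zero, Matrix.cons_val_one, Matrix.of_apply,
      Matrix.cons_val_fin_one, divX_zero, divX_X_mul, map_zero, zero_mul, mul_zero, add_zero, zero_add, aeval_C]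
    rw [← Algebra.smul_def]
  have hyrep : ∀ d : k, Rep a b (yL (algebraMap k k[X] d)) (uni (d • b)) := by
    intro d
    refine ⟨⟨0, 0, 0, by simp [coe_yL], by simp [coe_yL], by simp [coe_yL]⟩, ?_⟩
    rw [coe_uni (smul_sq hb.1.1 d)]
    have e : (yL (algebraMap k k[X] d)).1 - 1 = !![0, 0; Polynomial.C d, 0] := by
      ext i j; fin_cases i <;> fin_cases j <;> simp [coe_yL]
    rw [e, psi]
    simp only [Matrix.cons_val', Matrix.cons_val_zero, Matrix.cons_val_one, Matrix.of_apply,
      Matrix.cons_val_fin_one, divX_zero, map_zero, zero_mul, mul_zero, add_zero, zero_add, aeval_C]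
    rw [← Algebra.commutes, ← Algebra.smul_def]
  refine ⟨p, inferInstance, φ, hα0, hiff, ?_, ?_, ?_, ?_⟩
  · rw [injective_iff_map_eq_one]
    intro g hg
    have hv := hval g
    rw [show val g = 1 from hg] at hv
    rw [← hlifte g, hker]
    exact hv.entries_of_eq_one h ha hb
  · rw [MonoidHom.range_eq_map, ← himg, Subgroup.map_map, genGrp, MonoidHom.map_closure, pairGrp,
      Set.image_union, ← Set.range_comp, ← Set.range_comp]
    congr 3
    · funext t; exact hgen rfl (hxrep t)
    · funext d; exact hgen rfl (hyrep d)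
  · intro u
    obtain ⟨f0, g, j, h1, h2', h3'⟩ := (hval (xU u)).1
    have hent : ∀ r c, AdjoinRoot.mk p ((lift (xU u)).1 r c) = (xU u).1 r c := fun r c => by
      rw [← hentry, hlifte]
    refine ⟨g, ?_, ?_⟩
    · rw [← h2']
      simp [hent, coe_xU]
    · change ((val (xU u) : GLM) : ND) = _
      have hz : psi a b ((lift (xU u)).1 - 1 - !![0, X * g; 0, 0]) = 0 := by
        refine psi_eq_zero h ha hb ⟨f0, 0, j, by simp [← h1], ?_, by simp [← h3']⟩ ?_
        · rw [Matrix.sub_apply, h2']; simp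
        · intro r c
          rw [← hiff, ← AdjoinRoot.mk_eq_zero, Matrix.sub_apply, map_sub]
          fin_cases r <;> fin_cases c <;> simp [hent, coe_xU, ← h2']
      rw [(hval (xU u)).2, show (lift (xU u)).1 - 1 = ((lift (xU u)).1 - 1 - !![0, X * g; 0, 0]) +
        !![0, X * g; 0, 0] by abel, psi_add, hz, zero_add, psi]
      simp [divX_X_mul]
  · intro u
    obtain ⟨f0, g, j, h1, h2', h3'⟩ := (hval (yL u)).1
    have hent : ∀ r c, AdjoinRoot.mk p ((lift (yL u)).1 r c) = (yL u).1 r c := fun r c => by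
      rw [← hentry, hlifte]
    refine ⟨(lift (yL u)).1 1 0, by rw [hent]; simp [coe_yL], ?_⟩
    change ((val (yL u) : GLM) : ND) = _
    have hz : psi a b ((lift (yL u)).1 - 1 - !![0, 0; (lift (yL u)).1 1 0, 0]) = 0 := by
      refine psi_eq_zero h ha hb ⟨f0, g, j, by simp [← h1], by simp [← h2'], by simp [← h3']⟩ ?_
      intro r c
      rw [← hiff, ← AdjoinRoot.mk_eq_zero, Matrix.sub_apply, map_sub]
      fin_cases r <;> fin_cases c <;> simp [hent, coe_yL]
    rw [(hval (yL u)).2, show (lift (yL u)).1 - 1 =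
      ((lift (yL u)).1 - 1 - !![0, 0; (lift (yL u)).1 1 0, 0]) + !![0, 0; (lift (yL u)).1 1 0, 0] by abel,
      psi_add, hz, zero_add, psi]
    simp

end Cfsg.Agent.Lib.QuadPair
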