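import Cfsg.Agent.Lib.QuadPair.Dichotomy

/-!
In the bijective case the product is annihilated on the range by an irreducible polynomial.
-/

namespace Cfsg.Agent.Lib.QuadPair

open Matrix Polynomial

variable {k : Type*} [Field k] {M : Type*} [AddCommGroup M] [Module k M] [FiniteDimensional k M]
variable {G : Subgroup (LinearMap.GeneralLinearGroup k M)} {a b : M →ₗ[k] M}

local notation "GLM" => LinearMap.GeneralLinearGroup k M
local notation "ND" => M →ₗ[k] M

omit [FiniteDimensional k M] in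
/-- The conjugate when the lower left entry vanishes on the range. -/
theorem Rep.conj_of_lower (ha : a * a = 0) (hb : b * b = 0) {γ : SpecialLinearGroup (Fin 2) k[X]}
    {n : LinearMap.GeneralLinearGroup k M} (h : Rep a b γ n)
    (hC : ∀ v ∈ LinearMap.range a, aeval (a * b) (γ.1 1 0) v = 0) :
    (n : M →ₗ[k] M) * a * ((n⁻¹ : LinearMap.GeneralLinearGroup k M) : M →ₗ[k] M) =
      aeval (a * b) (γ.1 0 0 * γ.1 0 0) * a := by
  have hCv : ∀ (Q : k[X]) v, v ∈ LinearMap.range a → aeval (a * b) (Q * γ.1 1 0) v = 0 := fun Q v hv => by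
    rw [map_mul, Module.End.mul_apply, hC v hv, map_zero]
  rw [h.conj_eq ha hb]
  ext v
  have g1 : aeval (a * b) (γ.1 0 0 * γ.1 1 0) ((a * b) v) = 0 := hCv _ _ ⟨_, rfl⟩
  have g2 : aeval (a * b) (γ.1 1 0 * γ.1 1 0) ((a * b) v) = 0 := hCv _ _ ⟨_, rfl⟩
  have g3 : aeval (a * b) (γ.1 0 0 * γ.1 1 0) (a v) = 0 := hCv _ _ ⟨_, rfl⟩
  have s1 : (aeval (a * b) (γ.1 0 0 * γ.1 1 0) * (a * b)) v = 0 := g1
  have s2 : (b * (aeval (a * b) (γ.1 1 0 * γ.1 1 0) * (a * b))) v = 0 := by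
    change b (aeval (a * b) (γ.1 1 0 * γ.1 1 0) ((a * b) v)) = 0
    rw [g2, map_zero]
  have s3 : (b * aeval (a * b) (γ.1 0 0 * γ.1 1 0) * a) v = 0 := by
    change b (aeval (a * b) (γ.1 0 0 * γ.1 1 0) (a v)) = 0
    rw [g3, map_zero]
  rw [LinearMap.add_apply, LinearMap.sub_apply, LinearMap.add_apply, LinearMap.neg_apply, s1, s2, s3]
  simp

variable (a b) in
/-- The polynomials vanishing on the range. -/
noncomputable def annR : Ideal k[X] where
  carrier := {P | ∀ v ∈ LinearMap.range a, aeval (a * b) P v = 0}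
  zero_mem' := fun v _ => by simp
  add_mem' := fun {P Q} hP hQ v hv => by rw [map_add, LinearMap.add_apply, hP v hv, hQ v hv, add_zero]
  smul_mem' := fun P Q hQ v hv => by
    rw [smul_eq_mul, map_mul, Module.End.mul_apply, hQ v hv, map_zero]

omit [FiniteDimensional k M] in
theorem mem_annR {P : k[X]} : P ∈ annR a b ↔ ∀ v ∈ LinearMap.range a, aeval (a * b) P v = 0 := Iff.rfl

theorem lower_mem_annR (h2 : (2 : k) ≠ 0) (h3 : Nat.card k ≠ 3) (ha : IsMin G a) (hb : InL G b)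
    (hinj : ∀ v ∈ LinearMap.range a, a (b v) = 0 → v = 0) {p : k[X]} (hp : Irreducible p) {w : M}
    (hw : w ∈ LinearMap.range a) (hw0 : w ≠ 0) (hpw : aeval (a * b) p w = 0)
    {γ : SpecialLinearGroup (Fin 2) k[X]} (hγ : γ ∈ genGrp k (X : k[X])) (hC : p ∣ γ.1 1 0) :
    γ.1 1 0 ∈ annR a b := by
  obtain ⟨n, hn, hrep⟩ := exists_rep ha.1 hb hγ
  set a' := (n : ND) * a * ((n⁻¹ : GLM) : ND) with ha'
  have ha'm : IsMin G a' := ha.conj hn
  obtain ⟨c, hc⟩ := hC
  have hT' : a (a' w) = 0 := by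
    have := hrep.mul_conj_apply ha.1.1 hb.1 hw
    rw [hc, show (X : k[X]) ^ 2 * (p * c * (p * c)) = X ^ 2 * c * p * c * p by ring] at this
    simp only [map_mul, Module.End.mul_apply, hpw, map_zero, neg_zero] at this
    exact this
  obtain ⟨t1, t2⟩ := (nil_or_injective h2 h3 ha ha'm).resolve_right fun h => hw0 (h w hw hT')
  have hcomm : a * a' = a' * a := by
    refine commute_of_common_range ha ha'm t1 t2 fun e => ?_
    have hndvd : ¬ p ∣ γ.1 0 0 := fun hA => hp.not_isUnit (isUnit_of_dvd_one (by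
      rw [← γ.2, det_fin_two, hc]
      exact dvd_sub (hA.mul_right _) (dvd_mul_of_dvd_right (dvd_mul_right p c) _)))
    obtain ⟨s, t, hst⟩ := (hp.coprime_iff_not_dvd.mpr hndvd)
    have hw' : aeval (a * b) (γ.1 0 0) w = 0 := by
      rw [← Submodule.mem_bot k, ← e]
      refine ⟨aeval_mem (range_map_le a b) _ hw, ?_⟩
      rw [ha', range_conj]
      refine ⟨w, hw, ?_⟩
      rw [hrep.apply_range ha.1.1 hw, hc, mul_comm p c, map_mul, Module.End.mul_apply, hpw, map_zero,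
        map_zero, add_zero]
    apply hw0
    have := congrArg (fun P => aeval (a * b) P w) hst
    simp only [map_add, map_mul, LinearMap.add_apply, Module.End.mul_apply, hpw, hw', map_zero, map_one,
      Module.End.one_apply, add_zero] at this
    exact this.symm
  have hC2 := hrep.of_commute h2 ha.1.1 hb.1 hcomm
  intro v hv
  have h1 : aeval (a * b) (γ.1 1 0) v ∈ LinearMap.range a := aeval_mem (range_map_le a b) _ hv
  refine hinj _ h1 (hinj _ ⟨b _, rfl⟩ ?_)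
  have := hC2 v hv
  rw [map_mul, map_pow, aeval_X, pow_two, Module.End.mul_apply, Module.End.mul_apply] at this
  exact this

theorem sq_sub_one_mem_annR (ha : IsMin G a) (hb : InL G b) {γ : SpecialLinearGroup (Fin 2) k[X]}
    (hγ : γ ∈ genGrp k (X : k[X])) (hC : γ.1 1 0 ∈ annR a b) {w : M} (hw : w ∈ LinearMap.range a) (hw0 : w ≠ 0)
    (hA : aeval (a * b) (γ.1 0 0 * γ.1 0 0 - 1) w = 0) : γ.1 0 0 * γ.1 0 0 - 1 ∈ annR a b := by
  obtain ⟨n, hn, hrep⟩ := exists_rep ha.1 hb hγ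
  have hconj := hrep.conj_of_lower ha.1.1 hb.1 hC
  have hL := (ha.1.conj hn).sub ha.1 (by rw [hconj, mul_assoc, ha.1.1, mul_zero])
    (by rw [hconj, ← mul_assoc, a_aeval_a ha.1.1])
  rw [hconj] at hL
  set q := aeval (a * b) (γ.1 0 0 * γ.1 0 0 - 1) with hq
  have he : aeval (a * b) (γ.1 0 0 * γ.1 0 0) * a - a = q * a := by
    rw [hq, map_sub, map_one, sub_mul, one_mul]
  rw [he] at hL
  have hz : q * a = 0 := by
    refine ha.eq_zero_of_lt hL ?_
    rw [Module.End.mul_eq_comp, LinearMap.range_comp]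
    have := finrank_map_add q (LinearMap.range a)
    have hpos : 0 < Module.finrank k (LinearMap.range a ⊓ LinearMap.ker q : Submodule k M) :=
      Nat.pos_of_ne_zero fun e => hw0 ((Submodule.mem_bot k).mp
        (Submodule.finrank_eq_zero.mp e ▸ (⟨hw, hA⟩ : w ∈ LinearMap.range a ⊓ LinearMap.ker q)))
    omega
  rintro _ ⟨u, rfl⟩
  exact DFunLike.congr_fun hz u

/-- The irreducible polynomial annihilates the range. -/
theorem aeval_eq_zero_of_injective (h2 : (2 : k) ≠ 0) (h3 : Nat.card k ≠ 3) (ha : IsMin G a) (hb : InL G b)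
    (hinj : ∀ v ∈ LinearMap.range a, a (b v) = 0 → v = 0) {p : k[X]} (hp : Irreducible p) {w : M}
    (hw : w ∈ LinearMap.range a) (hw0 : w ≠ 0) (hpw : aeval (a * b) p w = 0) :
    p ∈ annR a b := by
  set I := annR a b with hI
  haveI := Fact.mk hp
  set K := AdjoinRoot p
  have hIp : ∀ P ∈ I, AdjoinRoot.mk p P = 0 := by
    intro P hP
    rw [AdjoinRoot.mk_eq_zero]
    by_contra hnd
    obtain ⟨s, t, hst⟩ := hp.coprime_iff_not_dvd.mpr hnd
    have := congrArg (fun Q => aeval (a * b) Q w) hst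
    simp only [map_add, map_mul, LinearMap.add_apply, Module.End.mul_apply, hpw, hP w hw, map_zero, map_one,
      Module.End.one_apply, add_zero] at this
    exact hw0 this.symm
  let π : k[X] ⧸ I →ₐ[k] AdjoinRoot p := Ideal.Quotient.liftₐ I (AdjoinRoot.mkₐ p) hIp
  let mkI : k[X] →ₐ[k] k[X] ⧸ I := Ideal.Quotient.mkₐ k I
  have hπ : ∀ P, π (mkI P) = AdjoinRoot.mk p P := fun P => rfl
  set τ : k[X] ⧸ I := mkI X with hτ
  set Γ := genGrp k τ with hΓ
  have hlift : ∀ g ∈ Γ, ∃ γ ∈ genGrp k (X : k[X]), SpecialLinearGroup.map (mkI : k[X] →+* k[X] ⧸ I) γ = g := by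
    intro g hg
    rw [hΓ, hτ, ← map_genGrp] at hg
    exact hg
  have hentry : ∀ (γ : SpecialLinearGroup (Fin 2) k[X]) r c,
      (SpecialLinearGroup.map (mkI : k[X] →+* k[X] ⧸ I) γ).1 r c = mkI (γ.1 r c) := fun γ r c => rfl
  have hzero : ∀ P : k[X], mkI P = 0 ↔ P ∈ I := fun P => Ideal.Quotient.eq_zero_iff_mem
  -- the two facts
  have hlow : ∀ g ∈ Γ, π (g.1 1 0) = 0 → g.1 1 0 = 0 := by
    intro g hg h
    obtain ⟨γ, hγ, rfl⟩ := hlift g hg
    rw [hentry, hπ, AdjoinRoot.mk_eq_zero] at h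
    rw [hentry, hzero]
    exact lower_mem_annR h2 h3 ha hb hinj hp hw hw0 hpw hγ h
  have hsqone : ∀ g ∈ Γ, g.1 1 0 = 0 → π (g.1 0 0 * g.1 0 0 - 1) = 0 → g.1 0 0 * g.1 0 0 = 1 := by
    intro g hg hC h
    obtain ⟨γ, hγ, rfl⟩ := hlift g hg
    rw [hentry, hzero] at hC
    rw [hentry] at h ⊢
    rw [← map_mul, ← map_one mkI, ← map_sub, hπ, AdjoinRoot.mk_eq_zero] at h
    rw [← sub_eq_zero, ← map_mul, ← map_one mkI, ← map_sub, hzero]
    obtain ⟨c, hc⟩ := h
    refine sq_sub_one_mem_annR ha hb hγ hC hw hw0 ?_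
    rw [hc, mul_comm, map_mul, Module.End.mul_apply, hpw, map_zero]
  -- the upper part
  let P : Set (k[X] ⧸ I) := {β | xU β ∈ Γ}
  have Padd : ∀ β ∈ P, ∀ β' ∈ P, β + β' ∈ P := fun β hβ β' hβ' => by
    change xU _ ∈ Γ; rw [xU_add]; exact Γ.mul_mem hβ hβ'
  have Pneg : ∀ β ∈ P, -β ∈ P := fun β hβ => by change xU _ ∈ Γ; rw [xU_neg]; exact Γ.inv_mem hβ
  have P0 : (0 : k[X] ⧸ I) ∈ P := by change xU _ ∈ Γ; rw [xU_zero]; exact Γ.one_mem
  have Psub : ∀ β ∈ P, ∀ β' ∈ P, β - β' ∈ P := fun β hβ β' hβ' => by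
    rw [sub_eq_add_neg]; exact Padd β hβ _ (Pneg _ hβ')
  have Ptau : ∀ t : k, algebraMap k _ t * τ ∈ P := fun t => xU_mem_genGrp τ t
  have Pinj : ∀ β ∈ P, π β = 0 → β = 0 := by
    intro β hβ h
    have hy : yL (1 : k[X] ⧸ I) ∈ Γ := by simpa using yL_mem_genGrp (k := k) τ 1
    have e : (yL 1 * xU β * (yL (1 : k[X] ⧸ I))⁻¹).1 1 0 = -β := by
      rw [← yL_neg]
      simp [coe_xU, coe_yL, Matrix.mul_apply, Fin.sum_univ_two]
      ring
    have := hlow _ (Γ.mul_mem (Γ.mul_mem hy hβ) (Γ.inv_mem hy)) (by rw [e, map_neg, h, neg_zero])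
    rwa [e, neg_eq_zero] at this
  have hα : IsAlgebraic k (AdjoinRoot.root p) :=
    ⟨p, hp.ne_zero, by rw [AdjoinRoot.aeval_eq, AdjoinRoot.mk_self]⟩
  have hπτ : π τ = AdjoinRoot.root p := by rw [hτ, hπ, AdjoinRoot.mk_X]
  have hα0 : AdjoinRoot.root p ≠ 0 := by
    intro e
    rw [← AdjoinRoot.mk_X, AdjoinRoot.mk_eq_zero] at e
    obtain ⟨q, hq⟩ := e
    rcases (Polynomial.irreducible_X (R := k)).isUnit_or_isUnit hq with h | h
    · exact hp.not_isUnit h
    · obtain ⟨c, hc, rfl⟩ := Polynomial.isUnit_iff.mp h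
      apply hw0
      apply hinj w hw
      have : aeval (a * b) (X : k[X]) w = 0 := by
        rw [hq, mul_comm, map_mul, Module.End.mul_apply, hpw, map_zero]
      rw [aeval_X] at this
      exact this
  have h2K : (2 : AdjoinRoot p) ≠ 0 := fun e =>
    h2 ((algebraMap k (AdjoinRoot p)).injective (by rw [map_ofNat, e, map_zero]))
  have hsurj : ∀ g, ∃ g' ∈ Γ, SpecialLinearGroup.map (π : k[X] ⧸ I →+* AdjoinRoot p) g' = g := by
    intro g
    have htop := genGrp_eq_top h2K h3 hα hα0 (AdjoinRoot.adjoinRoot_eq_top)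
    rw [← hπτ, ← map_genGrp] at htop
    have : g ∈ (genGrp k τ).map (SpecialLinearGroup.map (π : k[X] ⧸ I →+* AdjoinRoot p)) := by
      rw [htop]; exact Subgroup.mem_top g
    exact this
  -- squares act on the upper part
  have hsq : ∀ z : AdjoinRoot p, ∃ g : k[X] ⧸ I, π g = z ^ 2 ∧ ∀ β ∈ P, g * β ∈ P := by
    intro z
    by_cases hz : z = 0
    · exact ⟨0, by rw [map_zero, hz, zero_pow (by norm_num)], fun β _ => by rw [zero_mul]; exact P0⟩
    obtain ⟨g, hg, hgz⟩ := hsurj ⟨!![z, 0; 0, z⁻¹], by simp [det_fin_two, hz]⟩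
    have e0 : π (g.1 0 0) = z := by
      have := congrArg (fun m : SpecialLinearGroup (Fin 2) (AdjoinRoot p) => m.1 0 0) hgz
      simpa using this
    have e1 : g.1 1 0 = 0 := hlow g hg (by
      have := congrArg (fun m : SpecialLinearGroup (Fin 2) (AdjoinRoot p) => m.1 1 0) hgz
      simpa using this)
    refine ⟨g.1 0 0 ^ 2, by rw [map_pow, e0], fun β hβ => ?_⟩
    change xU _ ∈ Γ
    rw [← conj_xU e1]
    exact Γ.mul_mem (Γ.mul_mem hg hβ) (Γ.inv_mem hg)
  have Psurj : ∀ z : AdjoinRoot p, ∃ β ∈ P, π β = z := by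
    intro z
    obtain ⟨g, hg, hgP⟩ := hsq ((z / AdjoinRoot.root p + 1) / 2)
    obtain ⟨g', hg', hgP'⟩ := hsq ((z / AdjoinRoot.root p - 1) / 2)
    have hτP : τ ∈ P := by simpa using Ptau 1
    refine ⟨g * τ - g' * τ, Psub _ (hgP τ hτP) _ (hgP' τ hτP), ?_⟩
    rw [map_sub, map_mul, map_mul, hg, hg', hπτ, ← sub_mul, ← eq_half_sq_sub h2K]
    exact div_mul_cancel₀ _ hα0
  have Pmul : ∀ β ∈ P, ∀ β' ∈ P, ∃ δ ∈ P, β * β' = τ * δ := by
    intro β hβ β' hβ'
    obtain ⟨g, hg, hgP⟩ := hsq ((π β' / AdjoinRoot.root p + 1) / 2)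
    obtain ⟨g', hg', hgP'⟩ := hsq ((π β' / AdjoinRoot.root p - 1) / 2)
    have hτP : τ ∈ P := by simpa using Ptau 1
    have e : β' = g * τ - g' * τ := by
      refine (sub_eq_zero.mp (Pinj _ (Psub _ hβ' _ (Psub _ (hgP τ hτP) _ (hgP' τ hτP))) ?_))
      rw [map_sub, map_sub, map_mul, map_mul, hg, hg', hπτ, ← sub_mul, ← eq_half_sq_sub h2K,
        div_mul_cancel₀ _ hα0, sub_self]
    exact ⟨g * β - g' * β, Psub _ (hgP β hβ) _ (hgP' β hβ), by rw [e]; ring⟩
  -- the identity is in the upper part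
  obtain ⟨β₁, hβ₁, hπ1⟩ := Psurj 1
  have hone : β₁ = 1 := by
    have hy : yL (1 : k[X] ⧸ I) ∈ Γ := by simpa using yL_mem_genGrp (k := k) τ 1
    set W := xU β₁ * (yL 1)⁻¹ * xU β₁ with hW
    have hWmem : W ∈ Γ := Γ.mul_mem (Γ.mul_mem hβ₁ (Γ.inv_mem hy)) hβ₁
    have hWval : W.1 = !![1 - β₁, β₁ * (2 - β₁); -1, 1 - β₁] := by
      rw [hW, ← yL_neg]
      ext r c
      fin_cases r <;> fin_cases c <;> simp [coe_xU, coe_yL, Matrix.mul_apply, Fin.sum_univ_two] <;> ring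
    have hZ : W * yL 1 * W⁻¹ ∈ Γ := Γ.mul_mem (Γ.mul_mem hWmem hy) (Γ.inv_mem hWmem)
    have hZval : (W * yL 1 * W⁻¹).1 1 0 = (1 - β₁) * (1 - β₁) ∧
        (W * yL 1 * W⁻¹).1 0 0 = 1 + β₁ * (2 - β₁) * (1 - β₁) := by
      rw [sl_coe_mul, sl_coe_mul, sl_coe_inv, coe_yL, hWval, adjugate_fin_two]
      constructor <;> simp [Matrix.mul_apply, Fin.sum_univ_two] <;> ring
    have hs2 : (1 - β₁) * (1 - β₁) = 0 := by
      rw [← hZval.1]
      refine hlow _ hZ ?_
      rw [hZval.1, map_mul, map_sub, map_one, hπ1, sub_self, zero_mul]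
    have hA := hsqone _ hZ (hZval.1.trans hs2) (by
      rw [hZval.2]
      simp [hπ1])
    rw [hZval.2] at hA
    obtain ⟨v, hv⟩ : ∃ v, (2 : k[X] ⧸ I) * v = 1 :=
      ⟨algebraMap k _ (2 : k)⁻¹, by
        rw [← map_ofNat (algebraMap k (k[X] ⧸ I)) 2, ← map_mul, mul_inv_cancel₀ h2, map_one]⟩
    set s := 1 - β₁ with hs
    have hb : β₁ = 1 - s := by rw [hs]; ring
    have : (2 : k[X] ⧸ I) * s = 0 := by
      rw [hb] at hA
      linear_combination hA + (2 * s - (1 - s * s) * (1 - s * s)) * hs2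
    have : s = 0 := by linear_combination v * this - s * hv
    rw [hb, this, sub_zero]
  subst hone
  obtain ⟨u, huP, hu⟩ := Pmul 1 hβ₁ 1 hβ₁
  rw [one_mul] at hu
  have Pu : ∀ β ∈ P, u * β ∈ P := by
    intro β hβ
    obtain ⟨δ, hδ, he⟩ := Pmul β hβ 1 hβ₁
    rw [mul_one] at he
    have : u * β = δ := by rw [he, ← mul_assoc, mul_comm u, ← hu, one_mul]
    rwa [this]
  have Pk : ∀ (t : k) (β : k[X] ⧸ I), β ∈ P → algebraMap k _ t * β ∈ P := by
    intro t β hβ
    obtain ⟨δ, hδ, he⟩ := Pmul _ (Ptau t) β hβ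
    have : algebraMap k _ t * β = δ := by
      have e : u * (algebraMap k (k[X] ⧸ I) t * τ * β) = u * (τ * δ) := by rw [he]
      rw [← mul_assoc u τ, mul_comm u τ, ← hu, one_mul] at e
      rw [← e, show u * (algebraMap k (k[X] ⧸ I) t * τ * β) = (τ * u) * (algebraMap k (k[X] ⧸ I) t * β) by ring,
        ← hu, one_mul]
    rwa [this]
  -- polynomials in the inverse lie in the upper part
  have hpow : ∀ N, u ^ N ∈ P := by
    intro N
    induction N with
    | zero => simpa using hβ₁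
    | succ N ih => rw [pow_succ']; exact Pu _ ih
  have hscaled : ∀ N (F : k[X]), F.natDegree ≤ N → u ^ N * mkI F ∈ P := by
    intro N F hF
    rw [as_sum_range_C_mul_X_pow' F (Nat.lt_succ_of_le hF), map_sum, Finset.mul_sum]
    refine Finset.sum_induction _ (fun x => x ∈ P) (fun x y hx hy => Padd x hx y hy) P0 fun i hi => ?_
    rw [Finset.mem_range, Nat.lt_succ_iff] at hi
    obtain ⟨j, rfl⟩ := Nat.exists_eq_add_of_le hi
    rw [map_mul, map_pow, ← hτ, ← mul_assoc, mul_comm (u ^ (i + j)), pow_add, mul_assoc, mul_assoc,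
      mul_comm (u ^ j), ← mul_assoc (u ^ i), ← mul_pow, mul_comm u, ← hu, one_pow, one_mul]
    exact Pk _ _ (hpow j)
  have hp0 : mkI p = 0 := by
    have h := Pinj _ (hscaled p.natDegree p le_rfl) (by rw [map_mul, hπ, AdjoinRoot.mk_self, mul_zero])
    have : (τ * u) ^ p.natDegree * mkI p = 0 := by rw [mul_pow, mul_assoc, h, mul_zero]
    rwa [← hu, one_pow, one_mul] at this
  exact (hzero p).mp hp0

end Cfsg.Agent.Lib.QuadPair
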