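import Cfsg.Agent.Lib.QuadPair.Irreducible

/-!
Opposite pairs of minimal elements.
-/

namespace Cfsg.Agent.Lib.QuadPair

variable {k : Type*} [Field k] {M : Type*} [AddCommGroup M] [Module k M]
variable {G : Subgroup (LinearMap.GeneralLinearGroup k M)} {a b : M →ₗ[k] M}

/-- The two pairs of subspaces are opposite. -/
def Opp (a b : M →ₗ[k] M) : Prop :=
  LinearMap.range a ⊓ LinearMap.ker b = ⊥ ∧ LinearMap.range b ⊓ LinearMap.ker a = ⊥

theorem Opp.symm (h : Opp a b) : Opp b a := ⟨h.2, h.1⟩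

theorem opp_congr {a' b' : M →ₗ[k] M} (h1 : LinearMap.range a' = LinearMap.range a)
    (h2 : LinearMap.ker a' = LinearMap.ker a) (h3 : LinearMap.range b' = LinearMap.range b)
    (h4 : LinearMap.ker b' = LinearMap.ker b) : Opp a' b' ↔ Opp a b := by
  rw [Opp, Opp, h1, h2, h3, h4]

theorem Opp.eq_zero_left (h : Opp a b) {v : M} (hv : v ∈ LinearMap.range a) (h0 : b v = 0) : v = 0 :=
  (Submodule.mem_bot k).mp (h.1 ▸ (⟨hv, h0⟩ : v ∈ LinearMap.range a ⊓ LinearMap.ker b))

theorem Opp.inf_range (h : Opp a b) (hb : b * b = 0) : LinearMap.range a ⊓ LinearMap.range b = ⊥ := by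
  rw [eq_bot_iff, ← h.1]
  exact inf_le_inf_left _ (range_le_ker hb)

variable [FiniteDimensional k M]

theorem Opp.map_range (h : Opp a b) (ha : IsMin G a) (hb : IsMin G b) :
    (LinearMap.range a).map b = LinearMap.range b := by
  refine Submodule.eq_of_le_of_finrank_le LinearMap.map_le_range ?_
  have := finrank_map_add b (LinearMap.range a)
  rw [h.1, finrank_bot] at this
  rw [← ha.finrank_eq hb]
  omega

theorem Opp.injective (h : Opp a b) {v : M} (hv : v ∈ LinearMap.range a) (h0 : a (b v) = 0) : v = 0 :=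
  h.eq_zero_left hv (h.symm.eq_zero_left ⟨v, rfl⟩ h0)

theorem opp_of_injective (ha : IsMin G a) (hb : IsMin G b)
    (h : ∀ v ∈ LinearMap.range a, a (b v) = 0 → v = 0) : Opp a b := by
  have hP : LinearMap.range a ⊓ LinearMap.ker b = ⊥ := by
    rw [eq_bot_iff]
    rintro v ⟨hv, h0⟩
    rw [Submodule.mem_bot]
    exact h v hv (by rw [LinearMap.mem_ker.mp h0, map_zero])
  refine ⟨hP, ?_⟩
  have hmap : (LinearMap.range a).map b = LinearMap.range b := by
    refine Submodule.eq_of_le_of_finrank_le LinearMap.map_le_range ?_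
    have := finrank_map_add b (LinearMap.range a)
    rw [hP, finrank_bot] at this
    rw [← ha.finrank_eq hb]
    omega
  rw [eq_bot_iff, ← hmap]
  rintro _ ⟨⟨v, hv, rfl⟩, h0⟩
  rw [Submodule.mem_bot, h v hv h0, map_zero]

theorem opp_iff (h2 : (2 : k) ≠ 0) (h3 : Nat.card k ≠ 3) (ha : IsMin G a) (hb : IsMin G b) :
    Opp a b ↔ ¬ (a * b * a = 0 ∧ b * a * b = 0) := by
  constructor
  · rintro h ⟨t, -⟩
    obtain ⟨_, ⟨u, rfl⟩, hv0⟩ := Submodule.exists_mem_ne_zero_of_ne_bot ha.range_ne_bot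
    exact hv0 (h.injective ⟨u, rfl⟩ (DFunLike.congr_fun t u))
  · intro h
    exact opp_of_injective ha hb ((nil_or_injective h2 h3 ha hb).resolve_left h)

theorem triple_of_not_opp (h2 : (2 : k) ≠ 0) (h3 : Nat.card k ≠ 3) (ha : IsMin G a) (hb : IsMin G b)
    (h : ¬ Opp a b) : a * b * a = 0 ∧ b * a * b = 0 :=
  not_not.mp ((not_congr (opp_iff h2 h3 ha hb)).mp h)

end Cfsg.Agent.Lib.QuadPair
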