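import Cfsg.Agent.Lib.QuadPair.Hom
import Cfsg.Agent.Lib.QuadPair.Flag

/-!
The three kinds of pairs of root subgroups of a quadratic pair.
-/

namespace Cfsg.Agent.Lib.QuadPair

open Polynomial Matrix Cfsg.Agent.Lib.RootSub

variable {k : Type*} [Field k] {M : Type*} [AddCommGroup M] [Module k M] [FiniteDimensional k M]
variable {G : Subgroup (LinearMap.GeneralLinearGroup k M)} {a b : M →ₗ[k] M}

local notation "GLM" => LinearMap.GeneralLinearGroup k M
local notation "ND" => M →ₗ[k] M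
local notation "famOf" => fun (G : Subgroup GLM) (x : ND) => fam G (LinearMap.range x) (LinearMap.ker x)

theorem uni_eq_one {c : M →ₗ[k] M} (hc : c * c = 0) : (uni c : GLM) = 1 ↔ c = 0 :=
  ⟨fun e => uni_inj hc (by simp) (e.trans uni_zero.symm), fun e => by rw [e, uni_zero]⟩

omit [FiniteDimensional k M] in
theorem b_mul_aeval_range (hbb : b * b = 0) (F : k[X]) :
    (b * aeval (a * b) F) * (b * aeval (a * b) F) = 0 ∧ LinearMap.range (b * aeval (a * b) F) ≤ LinearMap.range b ∧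
      LinearMap.ker b ≤ LinearMap.ker (b * aeval (a * b) F) := by
  have hFb : aeval (a * b) F * b = F.coeff 0 • b := by
    conv_lhs => rw [← Polynomial.X_mul_divX_add F]
    rw [mul_comm X, map_add, map_mul, aeval_X, aeval_C, Algebra.algebraMap_eq_smul_one, add_mul, mul_assoc,
      mul_assoc a, hbb, mul_zero, mul_zero, zero_add, smul_mul_assoc, one_mul]
  refine ⟨?_, ?_, ?_⟩
  · rw [← mul_assoc, mul_assoc b (aeval (a * b) F), hFb, mul_smul_comm, hbb, smul_zero, zero_mul]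
  · rintro _ ⟨v, rfl⟩; exact ⟨_, rfl⟩
  · intro v hv
    rw [LinearMap.mem_ker] at hv ⊢
    conv_lhs => rw [← Polynomial.X_mul_divX_add F]
    rw [mul_comm X, map_add, map_mul, aeval_X, aeval_C]
    simp [Module.End.mul_apply, hv, Module.algebraMap_end_apply]

/-- The element of the family of `b` paired with `a`. -/
theorem Opp.exists_partner (h2 : (2 : k) ≠ 0) (h3 : Nat.card k ≠ 3) (ha : IsMin G a) (hb : IsMin G b)
    (h : Opp a b) :
    ∃ c ∈ fam G (LinearMap.range b) (LinearMap.ker b), c ≠ 0 ∧ a * c * a = -a ∧ c * a * c = -c := by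
  obtain ⟨p, hp, φ, hα0, hiff, -, hrange, -, hφy⟩ := exists_hom h2 h3 ha hb h
  haveI := hp
  obtain ⟨F, hF, hφF⟩ := hφy (-(AdjoinRoot.root p)⁻¹)
  have hXF : X * F + 1 ∈ annR a b := by
    rw [← hiff, ← AdjoinRoot.mk_eq_zero, map_add, map_mul, AdjoinRoot.mk_X, hF, map_one, mul_neg,
      mul_inv_cancel₀ hα0, neg_add_cancel]
  set c := b * aeval (a * b) F with hc
  have h1 : ∀ v ∈ LinearMap.range a, a (c v) = -v := by
    intro v hv
    have := hXF v hv
    rw [map_add, map_mul, aeval_X, map_one, LinearMap.add_apply, Module.End.one_apply, add_eq_zero_iff_eq_neg] at this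
    rw [← this]; rfl
  have h1' : a * c * a = -a := LinearMap.ext fun v => h1 _ ⟨v, rfl⟩
  obtain ⟨hcc, hcR, hcK⟩ := b_mul_aeval_range (a := a) hb.1.1 F
  rw [← hc] at hcc hcR hcK
  have hc0 : c ≠ 0 := fun e => ha.2.1 (by simpa [e] using h1'.symm)
  have hL : InL G c := by
    refine ⟨hcc, fun t => ?_⟩
    obtain ⟨F', hF', hφF'⟩ := hφy (algebraMap k (AdjoinRoot p) t * -(AdjoinRoot.root p)⁻¹)
    have hd : F' - C t * F ∈ annR a b := by
      rw [← hiff, ← AdjoinRoot.mk_eq_zero, map_sub, map_mul, hF', hF, AdjoinRoot.mk_C,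
        ← AdjoinRoot.algebraMap_eq, sub_self]
    have e := b_aeval_eq_zero h ha hb hd
    rw [map_sub, map_mul, aeval_C, mul_sub, sub_eq_zero] at e
    have e' : b * aeval (a * b) F' = t • c := by
      rw [e, hc, Algebra.algebraMap_eq_smul_one, smul_mul_assoc, one_mul, mul_smul_comm]
    have : φ (yL (algebraMap k (AdjoinRoot p) t * -(AdjoinRoot.root p)⁻¹)) = uni (t • c) := by
      ext1; rw [hφF', e', coe_uni (smul_sq hcc t)]
    rw [← this]
    exact pairGrp_le ha.1 hb.1 (hrange ▸ ⟨_, rfl⟩)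
  have hcf : c ∈ fam G (LinearMap.range b) (LinearMap.ker b) := ⟨hL, hcR, hcK⟩
  obtain ⟨-, hr, -⟩ := hb.spaces hcf hc0
  refine ⟨c, hcf, hc0, h1', LinearMap.ext fun v => ?_⟩
  have hv : c v ∈ (LinearMap.range a).map c := by
    have : c v ∈ LinearMap.range b := hr ▸ ⟨v, rfl⟩
    rw [← h.map_range ha hb] at this
    obtain ⟨r, hr', e⟩ := this
    refine (Submodule.eq_of_le_of_finrank_le (S₁ := (LinearMap.range a).map c) (S₂ := LinearMap.range c)
      LinearMap.map_le_range ?_).symm ▸ ⟨v, rfl⟩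
    have := finrank_map_add c (LinearMap.range a)
    have hbot : LinearMap.range a ⊓ LinearMap.ker c = ⊥ := by
      rw [(hb.spaces hcf hc0).2.2, h.1]
    rw [hbot, finrank_bot] at this
    rw [hr, ← ha.finrank_eq hb]
    omega
  obtain ⟨r, hr', e⟩ := hv
  change c (a (c v)) = -(c v)
  rw [← e, h1 r hr', map_neg]

omit [FiniteDimensional k M] in
theorem braid (haa : a * a = 0) (hbb : b * b = 0) (hab : a * b * a = -a) (hba : b * a * b = -b) :
    uni a * uni b * uni a = (uni b * uni a * uni b : GLM) := by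
  ext1
  simp only [Units.val_mul, coe_uni haa, coe_uni hbb]
  calc (1 + a) * (1 + b) * (1 + a) = 1 + a + a + b + a * b + b * a + a * b * a + a * a := by noncomm_ring
    _ = 1 + b + b + a + a * b + b * a + b * a * b + b * b := by rw [haa, hbb, hab, hba]; abel
    _ = (1 + b) * (1 + a) * (1 + b) := by noncomm_ring

/-- Uniqueness of the partner. -/
theorem partner_unique (h2 : (2 : k) ≠ 0) (h3 : Nat.card k ≠ 3) (ha : IsMin G a) (hb : IsMin G b)
    (h : Opp a b) {c d : M →ₗ[k] M} (hc : c ∈ fam G (LinearMap.range b) (LinearMap.ker b))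
    (hd : d ∈ fam G (LinearMap.range b) (LinearMap.ker b)) (e : a * c * a = a * d * a) : c = d := by
  by_contra hne
  have hcd : c + -d ∈ fam G (LinearMap.range b) (LinearMap.ker b) :=
    fam_add (range_le_ker hb.1.1) hc (fam_neg hd)
  have h0 : c + -d ≠ 0 := fun e' => hne (eq_of_sub_eq_zero (by rwa [sub_eq_add_neg]))
  have hm := (hb.spaces hcd h0).1
  refine (opp_iff h2 h3 ha hm).mp ((ha.opp_of_mem hb (self_mem_fam ha.1) ha.2.1 hcd h0).mpr h) ?_
  have h1 : a * (c + -d) * a = 0 := by rw [mul_add, add_mul, e, mul_neg, neg_mul, add_neg_cancel]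
  refine ⟨h1, ?_⟩
  exact ((nil_or_injective h2 h3 ha hm).resolve_right fun hi => ha.2.1 (LinearMap.ext fun v =>
    hi _ ⟨v, rfl⟩ (DFunLike.congr_fun h1 v))).2

theorem exists_conj_root (h2 : (2 : k) ≠ 0) (h3 : Nat.card k ≠ 3) (ha : IsMin G a) (hb : IsMin G b)
    (h : Opp a b) : ∃ n ∈ root G a ⊔ root G b, n ∈ G ∧ Cfsg.conjBy (root G a) n = root G b := by
  obtain ⟨c, hc, hc0, h1, h1'⟩ := h.exists_partner h2 h3 ha hb
  obtain ⟨-, hr, hk⟩ := hb.spaces hc hc0
  set n : GLM := uni a * uni c * uni a with hn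
  have hnG : n ∈ G := mul_mem (mul_mem ha.1.uni_mem hc.1.uni_mem) ha.1.uni_mem
  refine ⟨n, mul_mem (mul_mem (Subgroup.mem_sup_left (uni_self_mem_root ha.1))
    (Subgroup.mem_sup_right (uni_mem_grp hc))) (Subgroup.mem_sup_left (uni_self_mem_root ha.1)), hnG, ?_⟩
  have hsw : n * uni a * n⁻¹ = uni c := by
    have hb' := braid ha.1.1 hc.1.1 h1 h1'
    rw [mul_inv_eq_iff_eq_mul]
    calc n * uni a = uni c * uni a * uni c * uni a := by rw [hn, hb']
      _ = uni c * (uni a * uni c * uni a) := by group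
      _ = uni c * n := by rw [hn]
  rw [conj_uni ha.1.1] at hsw
  have hcm := (ha.conj hnG).1.1
  rw [conjBy_root hnG, uni_inj hcm hc.1.1 hsw, root_congr hr hk]

theorem cond_of_opp (h2 : (2 : k) ≠ 0) (h3 : Nat.card k ≠ 3) (ha : IsMin G a) (hb : IsMin G b)
    (h : Opp a b) {g : GLM} (hg : g ∈ root G a) (hg1 : g ≠ 1) :
    ∃ g' ∈ root G b, g' ≠ 1 ∧ Cfsg.conjBy (root G a) g'⁻¹ = Cfsg.conjBy (root G b) g⁻¹ ∧
      g'⁻¹ * g * g' = g⁻¹ * g'⁻¹ * g ∧
      ∀ x ∈ root G b, Cfsg.conjBy (root G a) x⁻¹ = Cfsg.conjBy (root G b) g⁻¹ → x = g' := by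
  obtain ⟨a', ha', rfl⟩ := (mem_root_iff ha).mp hg
  have ha0 : a' ≠ 0 := fun e => hg1 (by rw [e, uni_zero])
  obtain ⟨hma, hra, hka⟩ := ha.spaces ha' ha0
  have hroot : root G a' = root G a := root_congr hra hka
  have h' : Opp a' b := (ha.opp_of_mem hb ha' ha0 (self_mem_fam hb.1) hb.2.1).mpr h
  obtain ⟨c, hc, hc0, h1, h1'⟩ := h'.exists_partner h2 h3 hma hb
  obtain ⟨hmc, hr, hk⟩ := hb.spaces hc hc0
  have hrootc : root G c = root G b := root_congr hr hk
  have hb' := braid ha'.1.1 hc.1.1 h1 h1'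
  obtain ⟨n, hn⟩ : ∃ n : GLM, n = uni a' * uni c * uni a' := ⟨_, rfl⟩
  have hnG : n ∈ G := hn ▸ mul_mem (mul_mem ha'.1.uni_mem hc.1.uni_mem) ha'.1.uni_mem
  have hsw : n * uni a' * n⁻¹ = uni c := by
    rw [mul_inv_eq_iff_eq_mul]
    calc n * uni a' = uni c * uni a' * uni c * uni a' := by rw [hn, hb']
      _ = uni c * (uni a' * uni c * uni a') := by group
      _ = uni c * n := by rw [hn]
  rw [conj_uni ha'.1.1] at hsw
  have hcj : Cfsg.conjBy (root G a) n = root G b := by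
    rw [← hroot, conjBy_root hnG, uni_inj (hma.conj hnG).1.1 hc.1.1 hsw, hrootc]
  have hcj2 : Cfsg.conjBy (root G a) (uni c) = Cfsg.conjBy (root G b) (uni a')⁻¹ := by
    conv_rhs => rw [← hcj, conjBy_conjBy]
    rw [show (uni a')⁻¹ * n = uni c * uni a' by rw [hn]; group, ← conjBy_conjBy, conjBy_of_mem hg]
  refine ⟨(uni c)⁻¹, inv_mem (uni_mem_grp hc), fun e => hc0 ((uni_eq_one hc.1.1).mp (inv_eq_one.mp e)),
    by rwa [inv_inv], ?_, ?_⟩
  · calc (uni c)⁻¹⁻¹ * uni a' * (uni c)⁻¹ = (uni a')⁻¹ * (uni a' * uni c * uni a') * (uni c)⁻¹ := by group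
      _ = (uni a')⁻¹ * (uni c * uni a' * uni c) * (uni c)⁻¹ := by rw [hb']
      _ = (uni a')⁻¹ * (uni c)⁻¹⁻¹ * uni a' := by group
  · intro x hx hxe
    rw [← hcj2] at hxe
    obtain ⟨d, hd, hde⟩ := (mem_root_iff hb).mp (mul_mem (inv_mem (uni_mem_grp hc)) (inv_mem hx))
    have hfix : Cfsg.conjBy (root G a) (uni d) = root G a := by
      rw [← hde, ← conjBy_conjBy, hxe, conjBy_conjBy, inv_mul_cancel, conjBy_one]
    suffices d = 0 by
      rw [this, uni_zero, inv_mul_eq_one] at hde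
      rw [hde, inv_inv]
    by_contra hd0
    obtain ⟨hmd, -, -⟩ := hb.spaces hd hd0
    have hod : Opp a d := (ha.opp_of_mem hb (self_mem_fam ha.1) ha.2.1 hd hd0).mpr h
    have hmem : uni d * uni a * (uni d)⁻¹ ∈ root G a := hfix ▸ conj_mem_conjBy (uni_self_mem_root ha.1)
    rw [conj_uni ha.1.1] at hmem
    obtain ⟨e, he, hee⟩ := (mem_root_iff ha).mp hmem
    have hee' := uni_inj (ha.conj hd.1.uni_mem).1.1 he.1.1 hee
    obtain ⟨_, ⟨u, rfl⟩, hv0⟩ := Submodule.exists_mem_ne_zero_of_ne_bot ha.range_ne_bot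
    have hu : ((uni d : GLM) : ND) (a u) ∈ LinearMap.range a := by
      refine he.2.1 ?_
      rw [← hee', range_conj]
      exact ⟨_, ⟨u, rfl⟩, rfl⟩
    rw [coe_uni hd.1.1, LinearMap.add_apply, Module.End.one_apply] at hu
    have hau : a u ∈ LinearMap.range a := ⟨u, rfl⟩
    have hda : d (a u) ∈ LinearMap.range a ⊓ LinearMap.range d :=
      ⟨(Submodule.add_mem_iff_right _ hau).mp hu, _, rfl⟩
    rw [hod.inf_range hmd.1.1, Submodule.mem_bot] at hda
    exact hv0 (hod.eq_zero_left ⟨u, rfl⟩ hda)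

theorem root_nilpotent (ha : IsMin G a) : Group.IsNilpotent (root G a) := by
  haveI : IsMulCommutative (root G a) := isMulCommutative_grp (range_le_ker ha.1.1)
  letI : CommGroup (root G a) := { (inferInstance : Group (root G a)) with mul_comm := fun x y => mul_comm' x y }
  infer_instance

theorem Opp.root_ne (ha : IsMin G a) (hb : IsMin G b) (h : Opp a b) : root G a ≠ root G b := by
  intro e
  obtain ⟨c, hc, hce⟩ := (mem_root_iff hb).mp (e ▸ uni_self_mem_root ha.1)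
  have hac := uni_inj ha.1.1 hc.1.1 hce
  refine ha.range_ne_bot ?_
  rw [← inf_idem (LinearMap.range a)]
  conv_lhs => arg 2; rw [hac]
  exact le_bot_iff.mp (h.inf_range hb.1.1 ▸ inf_le_inf_left _ hc.2.1)

theorem isSpecial_of_opp (h2 : (2 : k) ≠ 0) (h3 : Nat.card k ≠ 3) (ha : IsMin G a) (hb : IsMin G b)
    (h : Opp a b) : Cfsg.IsSpecialRankOnePair (root G a) (root G b) := by
  refine ⟨⟨h.root_ne ha hb, root_nilpotent ha, root_nilpotent hb, ?_, ?_⟩, ?_⟩
  · intro g hg hg1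
    obtain ⟨g', h1, h1', he, -⟩ := cond_of_opp h2 h3 ha hb h hg hg1
    exact ⟨g', h1, h1', he⟩
  · intro g hg hg1
    obtain ⟨g', h1, h1', he, -⟩ := cond_of_opp h2 h3 hb ha h.symm hg hg1
    exact ⟨g', h1, h1', he⟩
  · intro g hg hg1 x hx _ hxe
    obtain ⟨g', -, -, -, hs, huniq⟩ := cond_of_opp h2 h3 ha hb h hg hg1
    rw [huniq x hx hxe]
    exact hs

/-- Conjugation as a linear equivalence. -/
def conjEquiv (g : GLM) : ND ≃ₗ[k] ND where
  toFun x := (g : ND) * x * ((g⁻¹ : GLM) : ND)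
  invFun x := ((g⁻¹ : GLM) : ND) * x * (g : ND)
  map_add' := by intros; rw [mul_add, add_mul]
  map_smul' := by intros; simp
  left_inv x := by simp [← mul_assoc, mul_assoc _ ((g⁻¹ : GLM) : ND) (g : ND)]
  right_inv x := by simp [← mul_assoc, mul_assoc _ (g : ND) ((g⁻¹ : GLM) : ND)]

/-- The dimension of the family of a minimal element. -/
noncomputable def famDim (ha : IsMin G a) : ℕ :=
  Module.finrank k (famSub (G := G) (range_le_ker ha.1.1))

theorem famDim_le_of_conjBy (ha : IsMin G a) (hb : IsMin G b) {g : GLM}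
    (e : Cfsg.conjBy (root G a) g = root G b) : famDim ha ≤ famDim hb := by
  have hle : (famSub (G := G) (range_le_ker ha.1.1)).map ((conjEquiv g).toLinearMap) ≤
      famSub (G := G) (range_le_ker hb.1.1) := by
    rintro _ ⟨c, hc, rfl⟩
    obtain ⟨d, hd, hde⟩ := (mem_root_iff hb).mp (e ▸ conj_mem_conjBy (g := g) (uni_mem_grp (G := G) hc))
    rw [conj_uni hc.1.1] at hde
    have hsq : ((g : ND) * c * ((g⁻¹ : GLM) : ND)) * ((g : ND) * c * ((g⁻¹ : GLM) : ND)) = 0 := by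
      have := (conjEquiv (k := k) g).map_zero
      rw [show ((g : ND) * c * ((g⁻¹ : GLM) : ND)) * ((g : ND) * c * ((g⁻¹ : GLM) : ND)) =
        (g : ND) * (c * c) * ((g⁻¹ : GLM) : ND) by
          simp [← mul_assoc, mul_assoc _ ((g⁻¹ : GLM) : ND) (g : ND)], hc.1.1]
      exact this
    change (g : ND) * c * ((g⁻¹ : GLM) : ND) ∈ _
    rw [uni_inj hsq hd.1.1 hde]
    exact hd
  have h' := Submodule.finrank_mono hle
  rwa [LinearEquiv.finrank_map_eq] at h'

theorem Opp.famDim_eq (h2 : (2 : k) ≠ 0) (h3 : Nat.card k ≠ 3) (ha : IsMin G a) (hb : IsMin G b)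
    (h : Opp a b) : famDim ha = famDim hb := by
  obtain ⟨n, -, -, hn⟩ := exists_conj_root h2 h3 ha hb h
  obtain ⟨m, -, -, hm⟩ := exists_conj_root h2 h3 hb ha h.symm
  exact le_antisymm (famDim_le_of_conjBy ha hb hn) (famDim_le_of_conjBy hb ha hm)

end Cfsg.Agent.Lib.QuadPair
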