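import Cfsg.Prelude.Def_RootSubgroups

/-!
The two unitriangular one-parameter families in `SL₂`.
-/

namespace Cfsg.Agent.Lib.QuadPair

open Matrix

variable {R : Type*} [CommRing R]

theorem sl_coe_mul (γ η : SpecialLinearGroup (Fin 2) R) :
    (γ * η).1 = γ.1 * η.1 := rfl

theorem sl_coe_inv (γ : SpecialLinearGroup (Fin 2) R) :
    (γ⁻¹).1 = adjugate γ.1 := rfl

theorem sl_mul_inv (γ : SpecialLinearGroup (Fin 2) R) :
    γ.1 * (γ⁻¹).1 = 1 := by
  rw [← sl_coe_mul, mul_inv_cancel]; rfl

/-- The upper unitriangular matrix with entry `u`. -/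
def xU (u : R) : SpecialLinearGroup (Fin 2) R := ⟨!![1, u; 0, 1], by simp [det_fin_two]⟩

/-- The lower unitriangular matrix with entry `u`. -/
def yL (u : R) : SpecialLinearGroup (Fin 2) R := ⟨!![1, 0; u, 1], by simp [det_fin_two]⟩

theorem coe_xU (u : R) : (xU u : Matrix (Fin 2) (Fin 2) R) = !![1, u; 0, 1] := rfl

theorem coe_yL (u : R) : (yL u : Matrix (Fin 2) (Fin 2) R) = !![1, 0; u, 1] := rfl

theorem xU_add (u v : R) : xU (u + v) = xU u * xU v := by
  ext i j; fin_cases i <;> fin_cases j <;> simp [coe_xU, add_comm, Matrix.mul_apply, Fin.sum_univ_two]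

theorem yL_add (u v : R) : yL (u + v) = yL u * yL v := by
  ext i j; fin_cases i <;> fin_cases j <;> simp [coe_yL, Matrix.mul_apply, Fin.sum_univ_two]

@[simp] theorem xU_zero : xU (0 : R) = 1 := by
  ext i j; fin_cases i <;> fin_cases j <;> simp [coe_xU]

@[simp] theorem yL_zero : yL (0 : R) = 1 := by
  ext i j; fin_cases i <;> fin_cases j <;> simp [coe_yL]

theorem xU_neg (u : R) : xU (-u) = (xU u)⁻¹ := by
  rw [eq_inv_iff_mul_eq_one, ← xU_add, neg_add_cancel, xU_zero]

theorem yL_neg (u : R) : yL (-u) = (yL u)⁻¹ := by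
  rw [eq_inv_iff_mul_eq_one, ← yL_add, neg_add_cancel, yL_zero]

theorem map_xU {S : Type*} [CommRing S] (f : R →+* S) (u : R) :
    SpecialLinearGroup.map f (xU u) = xU (f u) := by
  ext i j
  fin_cases i <;> fin_cases j <;> simp [coe_xU, Matrix.SpecialLinearGroup.map_apply_coe]

theorem map_yL {S : Type*} [CommRing S] (f : R →+* S) (u : R) :
    SpecialLinearGroup.map f (yL u) = yL (f u) := by
  ext i j
  fin_cases i <;> fin_cases j <;> simp [coe_yL, Matrix.SpecialLinearGroup.map_apply_coe]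

/-- Conjugating an upper element by a matrix with zero lower-left entry. -/
theorem conj_xU {g : SpecialLinearGroup (Fin 2) R} (hg : (g : Matrix (Fin 2) (Fin 2) R) 1 0 = 0) (u : R) :
    g * xU u * g⁻¹ = xU ((g : Matrix (Fin 2) (Fin 2) R) 0 0 ^ 2 * u) := by
  have hd := g.2
  rw [det_fin_two, hg, mul_zero, sub_zero] at hd
  rw [mul_inv_eq_iff_eq_mul]
  ext i j
  fin_cases i <;> fin_cases j <;> simp [coe_xU, hg, Matrix.mul_apply, Fin.sum_univ_two]
  have : g.1 0 0 * u = g.1 0 0 ^ 2 * u * g.1 1 1 := by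
    calc g.1 0 0 * u = g.1 0 0 * u * (g.1 0 0 * g.1 1 1) := by rw [hd, mul_one]
      _ = _ := by ring
  rw [this]
  ring

variable (k : Type*) [CommRing k] [Algebra k R]

/-- The group generated by the upper elements with entries in `k α` and the lower ones with entries in `k`. -/
def genGrp (α : R) : Subgroup (SpecialLinearGroup (Fin 2) R) :=
  Subgroup.closure ((Set.range fun t : k => xU (algebraMap k R t * α)) ∪
    Set.range fun d : k => yL (algebraMap k R d))

variable {k}

theorem xU_mem_genGrp (α : R) (t : k) : xU (algebraMap k R t * α) ∈ genGrp k α :=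
  Subgroup.subset_closure (Or.inl ⟨t, rfl⟩)

theorem yL_mem_genGrp (α : R) (d : k) : yL (algebraMap k R d) ∈ genGrp k α :=
  Subgroup.subset_closure (Or.inr ⟨d, rfl⟩)

theorem map_genGrp {S : Type*} [CommRing S] [Algebra k S] (f : R →ₐ[k] S) (α : R) :
    (genGrp k α).map (SpecialLinearGroup.map (f : R →+* S)) = genGrp k (f α) := by
  rw [genGrp, genGrp, MonoidHom.map_closure, Set.image_union, ← Set.range_comp, ← Set.range_comp]
  congr 3
  · funext t; simp [map_xU]
  · funext d; simp [map_yL]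

section Field

variable {K : Type*} [Field K]

/-- Both full families generate. -/
theorem eq_top_of_xU_yL {H : Subgroup (SpecialLinearGroup (Fin 2) K)} (hx : ∀ u : K, xU u ∈ H)
    (hy : ∀ u : K, yL u ∈ H) : H = ⊤ := by
  have key : ∀ g : SpecialLinearGroup (Fin 2) K, g.1 1 0 ≠ 0 → g ∈ H := by
    intro g hc
    have hd := g.2
    rw [det_fin_two] at hd
    have e : g = xU ((g.1 0 0 - 1) / g.1 1 0) * yL (g.1 1 0) * xU ((g.1 1 1 - 1) / g.1 1 0) := by
      ext i j
      fin_cases i <;> fin_cases j <;>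
        simp [coe_xU, coe_yL, Matrix.mul_apply, Fin.sum_univ_two] <;> field_simp <;> first | linear_combination hd | linear_combination (-1) * hd | ring1
    rw [e]
    exact H.mul_mem (H.mul_mem (hx _) (hy _)) (hx _)
  rw [eq_top_iff]
  intro g _
  by_cases hc : g.1 1 0 = 0
  · have hd := g.2
    rw [det_fin_two, hc, mul_zero, sub_zero] at hd
    have h1 : (yL 1 * g).1 1 0 ≠ 0 := by
      simp [coe_yL, Matrix.mul_apply, Fin.sum_univ_two, hc]
      intro e; simp [e] at hd
    simpa using H.mul_mem (H.inv_mem (hy 1)) (key _ h1)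
  · exact key g hc

/-- The swapping matrix. -/
def swapW : SpecialLinearGroup (Fin 2) K := ⟨!![0, 1; -1, 0], by simp [det_fin_two]⟩

theorem coe_swapW : (swapW (K := K) : Matrix (Fin 2) (Fin 2) K) = !![0, 1; -1, 0] := rfl

theorem swap_eq : xU (1 : K) * yL (-1) * xU 1 = swapW := by
  ext i j
  fin_cases i <;> fin_cases j <;> simp [coe_swapW, coe_xU, coe_yL, Matrix.mul_apply, Fin.sum_univ_two]

/-- The full upper family and one swap give everything. -/
theorem eq_top_of_xU {H : Subgroup (SpecialLinearGroup (Fin 2) K)} (hx : ∀ u : K, xU u ∈ H)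
    (hy : yL (1 : K) ∈ H) : H = ⊤ := by
  have hw : swapW ∈ H := by
    rw [← swap_eq]
    exact H.mul_mem (H.mul_mem (hx 1) (by rw [yL_neg]; exact H.inv_mem hy)) (hx 1)
  refine eq_top_of_xU_yL hx fun u => ?_
  have := H.mul_mem (H.mul_mem hw (hx (-u))) (H.inv_mem hw)
  convert this using 1
  rw [eq_mul_inv_iff_mul_eq]
  ext i j
  fin_cases i <;> fin_cases j <;> simp [coe_swapW, coe_xU, coe_yL, Matrix.mul_apply, Fin.sum_univ_two]

theorem eq_half_sq_sub (h2 : (2 : K) ≠ 0) (w : K) : w = ((w + 1) / 2) ^ 2 - ((w - 1) / 2) ^ 2 := by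
  field_simp
  ring

end Field

end Cfsg.Agent.Lib.QuadPair
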