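import Cfsg.Agent.Lib.QuadPair.Basic
import Cfsg.Agent.Lib.QuadPair.SL2Gen

/-!
The representation of the polynomial group generated by `x(t X)` and `y(d)` attached to two elements.
-/

namespace Cfsg.Agent.Lib.QuadPair

open Matrix Polynomial

variable {k : Type*} [Field k] {M : Type*} [AddCommGroup M] [Module k M]

local notation "GLM" => LinearMap.GeneralLinearGroup k M
local notation "ND" => M →ₗ[k] M
local notation "MX" => Matrix (Fin 2) (Fin 2) k[X]

theorem divX_X_mul (P : k[X]) : (X * P).divX = P := by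
  ext n; simp [coeff_X_mul]

/-- All entries except the lower left one are divisible by `X`. -/
def Adm (Y : Matrix (Fin 2) (Fin 2) k[X]) : Prop :=
  ∃ f g j : k[X], Y 0 0 = X * f ∧ Y 0 1 = X * g ∧ Y 1 1 = X * j

theorem Adm.add {Y Z : Matrix (Fin 2) (Fin 2) k[X]} (hY : Adm Y) (hZ : Adm Z) : Adm (Y + Z) := by
  obtain ⟨f, g, j, h1, h2, h3⟩ := hY
  obtain ⟨f', g', j', h1', h2', h3'⟩ := hZ
  exact ⟨f + f', g + g', j + j', by simp [h1, h1', mul_add], by simp [h2, h2', mul_add],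
    by simp [h3, h3', mul_add]⟩

theorem Adm.mul {Y Z : Matrix (Fin 2) (Fin 2) k[X]} (hY : Adm Y) (hZ : Adm Z) : Adm (Y * Z) := by
  obtain ⟨f, g, j, h1, h2, h3⟩ := hY
  obtain ⟨f', g', j', h1', h2', h3'⟩ := hZ
  refine ⟨f * Z 0 0 + g * Z 1 0, f * Z 0 1 + g * Z 1 1, Y 1 0 * g' + j * Z 1 1, ?_, ?_, ?_⟩ <;>
    rw [Matrix.mul_apply, Fin.sum_univ_two]
  · rw [h1, h2]; ring
  · rw [h1, h2]; ring
  · rw [h3, h2']; ring

/-- The endomorphism attached to an admissible matrix. -/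
noncomputable def psi (a b : ND) (Y : MX) : ND :=
  aeval (a * b) (Y 0 0) + aeval (a * b) (Y 0 1).divX * a + b * aeval (a * b) (Y 1 0) +
    b * aeval (a * b) (Y 1 1).divX * a

variable {a b : M →ₗ[k] M}

theorem psi_zero : psi a b (0 : Matrix (Fin 2) (Fin 2) k[X]) = 0 := by simp [psi]

theorem psi_add (Y Z : Matrix (Fin 2) (Fin 2) k[X]) : psi a b (Y + Z) = psi a b Y + psi a b Z := by
  simp only [psi, Matrix.add_apply, divX_add, map_add, add_mul, mul_add]
  abel

theorem aeval_mul_comm (T : M →ₗ[k] M) (P : k[X]) : aeval T P * T = T * aeval T P := by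
  have h := congrArg (aeval T) (mul_comm P X)
  simpa using h

theorem a_aeval_a (ha : a * a = 0) (P : k[X]) : a * aeval (a * b) P * a = 0 := by
  conv_lhs => rw [← divX_mul_X_add P]
  rw [map_add, map_mul, aeval_X, aeval_C, aeval_mul_comm, mul_add, add_mul,
    Algebra.algebraMap_eq_smul_one, mul_smul_comm, mul_one, smul_mul_assoc, ha, smul_zero, add_zero,
    ← mul_assoc, ← mul_assoc, ha, zero_mul, zero_mul, zero_mul]

theorem b_aeval_b (hb : b * b = 0) (P : k[X]) : b * aeval (a * b) P * b = 0 := by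
  conv_lhs => rw [← divX_mul_X_add P]
  rw [map_add, map_mul, aeval_X, aeval_C, mul_add, add_mul, Algebra.algebraMap_eq_smul_one,
    mul_smul_comm, mul_one, smul_mul_assoc, hb, smul_zero, add_zero, mul_assoc, mul_assoc, mul_assoc, hb,
    mul_zero, mul_zero, mul_zero]

theorem psi_mul (ha : a * a = 0) (hb : b * b = 0) {Y Z : Matrix (Fin 2) (Fin 2) k[X]} (hY : Adm Y) (hZ : Adm Z) :
    psi a b (Y * Z) = psi a b Y * psi a b Z := by
  obtain ⟨f, g, j, h1, h2, h3⟩ := hY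
  obtain ⟨f', g', j', h1', h2', h3'⟩ := hZ
  have e0 : (Y * Z) 0 0 = X * (X * (f * f')) + X * (g * Z 1 0) := by
    rw [Matrix.mul_apply, Fin.sum_univ_two, h1, h1', h2]; ring
  have e1 : (Y * Z) 0 1 = X * (X * (f * g' + g * j')) := by
    rw [Matrix.mul_apply, Fin.sum_univ_two, h1, h2, h2', h3']; ring
  have e2 : (Y * Z) 1 0 = X * (Y 1 0 * f' + j * Z 1 0) := by
    rw [Matrix.mul_apply, Fin.sum_univ_two, h1', h3]; ring
  have e3 : (Y * Z) 1 1 = X * (Y 1 0 * g' + X * (j * j')) := by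
    rw [Matrix.mul_apply, Fin.sum_univ_two, h3, h2', h3']; ring
  have hdiv : ∀ P : k[X], (X * P).divX = P := divX_X_mul
  simp only [psi, e0, e1, e2, e3, h1, h2, h3, h1', h2', h3', hdiv, map_add, map_mul, aeval_X]
  set T := a * b with hT
  have hc : ∀ P : k[X], aeval T P * T = T * aeval T P := aeval_mul_comm T
  have hcc : ∀ P Q : k[X], aeval T P * aeval T Q = aeval T Q * aeval T P := fun P Q => by
    rw [← map_mul, mul_comm, map_mul]
  have z1 : ∀ P, a * aeval T P * T = 0 := fun P => by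
    rw [mul_assoc, hc, ← mul_assoc, hT, ← mul_assoc a a, ha, zero_mul, zero_mul]
  have z1' : a * T = 0 := by rw [hT, ← mul_assoc, ha, zero_mul]
  have z2' : T * b = 0 := by rw [hT, mul_assoc, hb, mul_zero]
  have z3 := a_aeval_a (b := b) ha
  have z4 := b_aeval_b (a := a) hb
  rw [← hT] at z3 z4
  simp only [add_mul, mul_add]
  simp only [mul_assoc] at z1 z3 z4 ⊢
  -- normalise: move `T` to the left
  have hc' : ∀ (P : k[X]) (x : ND), aeval T P * (T * x) = T * (aeval T P * x) := fun P x => by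
    rw [← mul_assoc, hc, mul_assoc]
  have za : ∀ x : ND, a * (T * x) = 0 := fun x => by rw [← mul_assoc, z1', zero_mul]
  have zb : ∀ x : ND, T * (b * x) = 0 := fun x => by rw [← mul_assoc, z2', zero_mul]
  have zaa : ∀ (P : k[X]) (x : ND), a * (aeval T P * (a * x)) = 0 := fun P x => by
    rw [← mul_assoc, ← mul_assoc, mul_assoc a, z3, zero_mul]
  have zbb : ∀ (P : k[X]) (x : ND), b * (aeval T P * (b * x)) = 0 := fun P x => by
    rw [← mul_assoc, ← mul_assoc, mul_assoc b, z4, zero_mul]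
  have zab : ∀ x : ND, a * (b * x) = T * x := fun x => by rw [hT, mul_assoc]
  have hTP : ∀ (P : k[X]) (x : ND), T * (aeval T P * (b * x)) = 0 := fun P x => by
    rw [← hc', zb, mul_zero]
  simp only [hc, hc', za, zb, zaa, zbb, zab, hTP, z3, z1', mul_zero, add_zero, zero_add]
  try abel

/-- `n` represents `γ`. -/
def Rep (a b : ND) (γ : SpecialLinearGroup (Fin 2) k[X]) (n : GLM) : Prop :=
  Adm (γ.1 - 1) ∧ (n : ND) = 1 + psi a b (γ.1 - 1)

theorem Rep.mul (ha : a * a = 0) (hb : b * b = 0) {γ η : SpecialLinearGroup (Fin 2) k[X]}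
    {n m : LinearMap.GeneralLinearGroup k M} (h : Rep a b γ n) (h' : Rep a b η m) :
    Rep a b (γ * η) (n * m) := by
  have e : (γ * η).1 - 1 =
      (γ.1 - 1) + (η.1 - 1) + (γ.1 - 1) * (η.1 - 1) := by
    rw [sl_coe_mul]; noncomm_ring
  refine ⟨e ▸ (h.1.add h'.1).add (h.1.mul h'.1), ?_⟩
  rw [Units.val_mul, h.2, h'.2, e, psi_add, psi_add, psi_mul ha hb h.1 h'.1]
  noncomm_ring

theorem adm_inv {γ : SpecialLinearGroup (Fin 2) k[X]} (h : Adm (γ.1 - 1)) :
    Adm ((γ⁻¹).1 - 1) := by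
  obtain ⟨f, g, j, h1, h2, h3⟩ := h
  refine ⟨j, -g, f, ?_, ?_, ?_⟩ <;> rw [sl_coe_inv, adjugate_fin_two]
  · simpa using h3
  · have h2' : γ.1 0 1 = X * g := by simpa using h2
    simp [h2']
  · simpa using h1

theorem Rep.inv (ha : a * a = 0) (hb : b * b = 0) {γ : SpecialLinearGroup (Fin 2) k[X]}
    {n : LinearMap.GeneralLinearGroup k M} (h : Rep a b γ n) : Rep a b γ⁻¹ n⁻¹ := by
  have hi := adm_inv h.1
  refine ⟨hi, ?_⟩
  have e : (γ.1 - 1) + ((γ⁻¹).1 - 1) +
      (γ.1 - 1) * ((γ⁻¹).1 - 1) = 0 := by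
    have := sl_mul_inv γ
    calc γ.1 - 1 + ((γ⁻¹).1 - 1) + (γ.1 - 1) * ((γ⁻¹).1 - 1) = γ.1 * (γ⁻¹).1 - 1 := by noncomm_ring
      _ = 0 := by rw [this, sub_self]
  have e' := congrArg (psi a b) e
  rw [psi_add, psi_add, psi_mul ha hb h.1 hi, psi_zero] at e'
  set ys := psi a b (γ.1 - 1) with hys
  set zs := psi a b ((γ⁻¹).1 - 1) with hzs
  have hmul : (n : ND) * (1 + zs) = 1 := by
    rw [h.2, ← hys]
    calc (1 + ys) * (1 + zs) = 1 + (ys + zs + ys * zs) := by noncomm_ring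
      _ = 1 := by rw [e', add_zero]
  calc ((n⁻¹ : GLM) : ND) = ((n⁻¹ : GLM) : ND) * ((n : ND) * (1 + zs)) := by rw [hmul, mul_one]
    _ = _ := by rw [← mul_assoc, Units.inv_mul, one_mul]

theorem exists_rep {G : Subgroup (LinearMap.GeneralLinearGroup k M)} (ha : InL G a) (hb : InL G b)
    {γ : SpecialLinearGroup (Fin 2) k[X]} (hγ : γ ∈ genGrp k (X : k[X])) : ∃ n ∈ G, Rep a b γ n := by
  unfold genGrp at hγ
  induction hγ using Subgroup.closure_induction with
  | mem x hx =>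
    rcases hx with ⟨t, rfl⟩ | ⟨d, rfl⟩
    · refine ⟨uni (t • a), ha.2 t, ⟨0, Polynomial.C t, 0, by simp [coe_xU], ?_, by simp [coe_xU]⟩, ?_⟩
      · simp [coe_xU]
      · rw [coe_uni (ha.smul t).1]
        have h1 : (X : k[X]).divX = 1 := by simpa using divX_X_mul (1 : k[X])
        simp [psi, coe_xU, Algebra.algebraMap_eq_smul_one, h1]
    · refine ⟨uni (d • b), hb.2 d, ⟨0, 0, 0, by simp [coe_yL], by simp [coe_yL], by simp [coe_yL]⟩, ?_⟩
      rw [coe_uni (hb.smul d).1]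
      have e : (yL (algebraMap k k[X] d)).1 - 1 = !![0, 0; Polynomial.C d, 0] := by
        ext i j; fin_cases i <;> fin_cases j <;> simp [coe_yL]
      rw [e, psi]
      simp only [Matrix.cons_val', Matrix.cons_val_zero, Matrix.cons_val_one, Matrix.of_apply,
        Matrix.cons_val_fin_one, divX_zero, map_zero, zero_mul, mul_zero, add_zero, zero_add, aeval_C]
      rw [← Algebra.commutes, ← Algebra.smul_def]
  | one => exact ⟨1, G.one_mem, ⟨0, 0, 0, by simp, by simp, by simp⟩, by simp [psi_zero]⟩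
  | mul x y _ _ hx hy =>
    obtain ⟨n, hn, h⟩ := hx
    obtain ⟨m, hm, h'⟩ := hy
    exact ⟨n * m, G.mul_mem hn hm, h.mul ha.1 hb.1 h'⟩
  | inv x _ hx =>
    obtain ⟨n, hn, h⟩ := hx
    exact ⟨n⁻¹, G.inv_mem hn, h.inv ha.1 hb.1⟩

/-- The action on the range of `a`. -/
theorem Rep.apply_range (ha : a * a = 0) {γ : SpecialLinearGroup (Fin 2) k[X]}
    {n : LinearMap.GeneralLinearGroup k M} (h : Rep a b γ n) {v : M} (hv : v ∈ LinearMap.range a) :
    (n : M →ₗ[k] M) v = aeval (a * b) (γ.1 0 0) v + b (aeval (a * b) (γ.1 1 0) v) := by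
  obtain ⟨u, rfl⟩ := hv
  have hz : a (a u) = 0 := DFunLike.congr_fun ha u
  rw [h.2]
  simp [psi, Module.End.mul_apply, hz]
  abel

/-- The conjugate of `a`. -/
theorem Rep.conj_eq (ha : a * a = 0) (hb : b * b = 0) {γ : SpecialLinearGroup (Fin 2) k[X]}
    {n : LinearMap.GeneralLinearGroup k M} (h : Rep a b γ n) :
    (n : M →ₗ[k] M) * a * ((n⁻¹ : LinearMap.GeneralLinearGroup k M) : M →ₗ[k] M) =
      -(aeval (a * b) (γ.1 0 0 * γ.1 1 0) * (a * b)) + aeval (a * b) (γ.1 0 0 * γ.1 0 0) * a -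
        b * (aeval (a * b) (γ.1 1 0 * γ.1 1 0) * (a * b)) + b * aeval (a * b) (γ.1 0 0 * γ.1 1 0) * a := by
  let E : MX := !![0, X; 0, 0]
  have hE : Adm E := ⟨0, 1, 0, by simp [E], by simp [E], by simp [E]⟩
  have hEa : psi a b E = a := by simp [psi, E, divX_X_pow (n := 1) |> fun h => by simpa using h]
  have hi := (h.inv ha hb)
  set y := γ.1 - 1 with hy
  set z := (γ⁻¹).1 - 1 with hz
  have e1 : γ.1 * E * (γ⁻¹).1 = E + y * E + E * z + y * E * z := by
    rw [hy, hz]; noncomm_ring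
  have e2 : γ.1 * E * (γ⁻¹).1 =
      !![-(X * (γ.1 0 0 * γ.1 1 0)), X * (γ.1 0 0 * γ.1 0 0);
        -(X * (γ.1 1 0 * γ.1 1 0)), X * (γ.1 0 0 * γ.1 1 0)] := by
    rw [sl_coe_inv, adjugate_fin_two]
    ext i l
    fin_cases i <;> fin_cases l <;> simp [E, Matrix.mul_apply, Fin.sum_univ_two] <;> ring
  have e3 := congrArg (psi a b) (e1.symm.trans e2)
  rw [psi_add, psi_add, psi_add, psi_mul ha hb h.1 hE, psi_mul ha hb hE hi.1,
    psi_mul ha hb (h.1.mul hE) hi.1, psi_mul ha hb h.1 hE, hEa] at e3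
  have hdiv : ∀ P : k[X], (X * P).divX = P := divX_X_mul
  rw [h.2, hi.2]
  calc (1 + psi a b y) * a * (1 + psi a b z)
      = a + psi a b y * a + a * psi a b z + psi a b y * a * psi a b z := by noncomm_ring
    _ = _ := e3
    _ = _ := by
      have hc : ∀ P Q : k[X], a * (b * (aeval (a * b) P * aeval (a * b) Q)) =
          aeval (a * b) P * (aeval (a * b) Q * (a * b)) := fun P Q => by
        rw [← mul_assoc a, ← map_mul, ← aeval_mul_comm, map_mul, mul_assoc]
      simp [psi, hdiv, hc, sub_eq_add_neg, mul_assoc]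

end Cfsg.Agent.Lib.QuadPair
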