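import Cfsg.Agent.Lib.QuadPair.Cases
import Cfsg.Agent.Lib.RootSub.Transfer

/-!
The set of root subgroups of a quadratic pair as a set of abstract root subgroups.
-/

namespace Cfsg.Agent.Lib.QuadPair

open Polynomial Matrix Cfsg.Agent.Lib.RootSub
open scoped commutatorElement

variable {k : Type*} [Field k] {M : Type*} [AddCommGroup M] [Module k M]
variable {G : Subgroup (LinearMap.GeneralLinearGroup k M)} {a b : M →ₗ[k] M}

variable [FiniteDimensional k M]

local notation "GLM" => LinearMap.GeneralLinearGroup k M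
local notation "ND" => M →ₗ[k] M

theorem mem_sigma {A : Subgroup GLM} :
    A ∈ Cfsg.quadraticRootSubgroups G ↔ ∃ a, IsMin G a ∧ A = root G a := by
  rw [quadraticRootSubgroups_eq]; rfl

theorem sigma_le {A : Subgroup GLM} (hA : A ∈ Cfsg.quadraticRootSubgroups G) : A ≤ G := by
  obtain ⟨a, -, rfl⟩ := mem_sigma.mp hA
  exact grp_le

theorem sigma_conj {A : Subgroup GLM} (hA : A ∈ Cfsg.quadraticRootSubgroups G) {g : GLM} (hg : g ∈ G) :
    Cfsg.conjBy A g ∈ Cfsg.quadraticRootSubgroups G := by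
  obtain ⟨a, ha, rfl⟩ := mem_sigma.mp hA
  exact mem_sigma.mpr ⟨_, ha.conj hg, conjBy_root hg a⟩

omit [FiniteDimensional k M] in
theorem three_lt_card (h2 : (2 : k) ≠ 0) (h3 : Nat.card k ≠ 3) : 3 < ENat.card k := by
  rcases finite_or_infinite k with hf | hi
  · haveI := Fintype.ofFinite k
    rw [ENat.card_eq_coe_natCard]
    have h1 : 1 < Nat.card k := Finite.one_lt_card
    have hne : Nat.card k ≠ 2 := by
      intro e
      apply h2
      have := Nat.cast_card_eq_zero k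
      rwa [← Nat.card_eq_fintype_card, e, Nat.cast_ofNat] at this
    exact_mod_cast (by omega : 3 < Nat.card k)
  · rw [ENat.card_eq_top_of_infinite]; exact WithTop.natCast_lt_top 3

theorem opp_of_pair (h2 : (2 : k) ≠ 0) (h3 : Nat.card k ≠ 3) (hG : Amb G)
    (ha : IsMin G a) (hb : IsMin G b) (hp : Cfsg.IsRankOnePair (root G a) (root G b)) : Opp a b := by
  rcases trichotomy h2 h3 ha hb with h | h | ⟨-, -, h⟩
  · exact h
  · exfalso
    obtain ⟨e, -, -, hc, -⟩ := skew_case h2 h3 hG ha hb h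
    refine false_of_central hp (fun x hx y hy => grp_comm (range_le_ker hb.1.1) hx hy) (uni_self_mem_root ha.1)
      (fun e => ha.2.1 ((uni_eq_one ha.1.1).mp e)) fun x hx y hy => ?_
    refine hc _ ?_ y (Subgroup.mem_sup_right hy)
    simpa only [commutatorElement_def] using Subgroup.commutator_mem_commutator (uni_self_mem_root ha.1) hx
  · exact absurd h (commutator_ne_bot hp)

theorem rootCase_of_br (h2 : (2 : k) ≠ 0) (h3 : Nat.card k ≠ 3) (hG : Amb G)
    (ha : IsMin G a) (hb : IsMin G b) (h : Br G a b) :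
    Cfsg.RootCommutatorCase (Cfsg.quadraticRootSubgroups G) (root G a) (root G b) := by
  obtain ⟨e, h1, h1', hc, -⟩ := skew_case h2 h3 hG ha hb h
  exact ⟨mem_sigma.mpr ⟨_, h.min, e⟩, hc, h1, h1'⟩

theorem sigma_pair (h2 : (2 : k) ≠ 0) (h3 : Nat.card k ≠ 3) (hG : Amb G)
    {A B : Subgroup GLM} (hA : A ∈ Cfsg.quadraticRootSubgroups G) (hB : B ∈ Cfsg.quadraticRootSubgroups G) :
    ⁅A, B⁆ = ⊥ ∨ Cfsg.IsRankOnePair A B ∨ Cfsg.RootCommutatorCase (Cfsg.quadraticRootSubgroups G) A B := by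
  obtain ⟨a, ha, rfl⟩ := mem_sigma.mp hA
  obtain ⟨b, hb, rfl⟩ := mem_sigma.mp hB
  rcases trichotomy h2 h3 ha hb with h | h | ⟨-, -, h⟩
  · exact Or.inr (Or.inl (isSpecial_of_opp h2 h3 ha hb h).1)
  · exact Or.inr (Or.inr (rootCase_of_br h2 h3 hG ha hb h))
  · exact Or.inl h

theorem sigma_commutative {A : Subgroup GLM} (hA : A ∈ Cfsg.quadraticRootSubgroups G) : IsMulCommutative A := by
  obtain ⟨a, ha, rfl⟩ := mem_sigma.mp hA
  exact isMulCommutative_grp (range_le_ker ha.1.1)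

theorem sigma_ne_bot {A : Subgroup GLM} (hA : A ∈ Cfsg.quadraticRootSubgroups G) : A ≠ ⊥ := by
  obtain ⟨a, ha, rfl⟩ := mem_sigma.mp hA
  exact root_ne_bot ha

theorem exists_partner (h2 : (2 : k) ≠ 0) (h3 : Nat.card k ≠ 3) (hG : Amb G)
    {A : Subgroup GLM} (hA : A ∈ Cfsg.quadraticRootSubgroups G) :
    ∃ B ∈ Cfsg.quadraticRootSubgroups G, Cfsg.IsRankOnePair A B := by
  obtain ⟨a, ha, rfl⟩ := mem_sigma.mp hA
  obtain ⟨g, hg, h⟩ := exists_opp_conj h2 h3 hG ha
  exact ⟨_, mem_sigma.mpr ⟨_, ha.conj hg, rfl⟩, (isSpecial_of_opp h2 h3 ha (ha.conj hg) h).1⟩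

theorem a_left_facts (haa : a * a = 0) (F : k[X]) :
    (aeval (a * b) F * a) * (aeval (a * b) F * a) = 0 ∧
      LinearMap.range (aeval (a * b) F * a) ≤ LinearMap.range a ∧
      LinearMap.ker a ≤ LinearMap.ker (aeval (a * b) F * a) := by
  refine ⟨?_, ?_, fun v hv => by rw [LinearMap.mem_ker] at hv ⊢; simp [Module.End.mul_apply, hv]⟩
  · rw [mul_assoc, ← mul_assoc a, a_aeval_a haa, mul_zero]
  · rintro _ ⟨v, rfl⟩
    exact aeval_mem (range_map_le a b) F ⟨v, rfl⟩

/-- An opposite pair contains a copy of the special linear group. -/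
theorem exists_sl2 (h2 : (2 : k) ≠ 0) (h3 : Nat.card k ≠ 3) (ha : IsMin G a) (hb : IsMin G b) (h : Opp a b) :
    ∃ (p : k[X]) (_ : Fact (Irreducible p)) (A₀ B₀ : Subgroup GLM), A₀ ≤ root G a ∧ B₀ ≤ root G b ∧
      3 < ENat.card (AdjoinRoot p) ∧ Cfsg.IsPSL2PairOver (AdjoinRoot p) A₀ B₀ := by
  obtain ⟨p, hp, φ, hα0, hiff, hinj, hrange, hφx, hφy⟩ := exists_hom h2 h3 ha hb h
  haveI := hp
  have hmemG : ∀ g, φ g ∈ G := fun g => pairGrp_le ha.1 hb.1 (hrange ▸ ⟨g, rfl⟩)
  have hxA : ∀ {F F' : k[X]}, p ∣ X * (F - F') → aeval (a * b) F * a = aeval (a * b) F' * a := by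
    intro F F' hd
    have := divX_mem_annR h ((hiff _).mp hd)
    refine LinearMap.ext fun v => ?_
    have e := this _ ⟨v, rfl⟩
    rw [map_sub, LinearMap.sub_apply, sub_eq_zero] at e
    exact e
  have hyB : ∀ {F F' : k[X]}, p ∣ F - F' → b * aeval (a * b) F = b * aeval (a * b) F' := by
    intro F F' hd
    have e := b_aeval_eq_zero h ha hb ((hiff _).mp hd)
    rwa [map_sub, mul_sub, sub_eq_zero] at e
  have hx : ∀ u, φ (xU u) ∈ root G a := by
    intro u
    obtain ⟨F, hF, hφ⟩ := hφx u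
    obtain ⟨hsq, hR, hK⟩ := a_left_facts (b := b) ha.1.1 F
    have : φ (xU u) = uni (aeval (a * b) F * a) := by ext1; rw [hφ, coe_uni hsq]
    rw [this]
    refine uni_mem_grp ⟨⟨hsq, fun t => ?_⟩, hR, hK⟩
    obtain ⟨F', hF', hφ'⟩ := hφx (algebraMap k (AdjoinRoot p) t * u)
    have e : aeval (a * b) F' * a = t • (aeval (a * b) F * a) := by
      rw [hxA (F' := C t * F), map_mul, aeval_C, Algebra.algebraMap_eq_smul_one, smul_mul_assoc, one_mul,
        smul_mul_assoc]
      rw [← AdjoinRoot.mk_eq_zero, mul_sub, map_sub, hF', mul_left_comm, map_mul, hF, AdjoinRoot.mk_C,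
        ← AdjoinRoot.algebraMap_eq, sub_self]
    have : φ (xU (algebraMap k (AdjoinRoot p) t * u)) = uni (t • (aeval (a * b) F * a)) := by
      ext1; rw [hφ', e, coe_uni (smul_sq hsq t)]
    exact this ▸ hmemG _
  have hy : ∀ u, φ (yL u) ∈ root G b := by
    intro u
    obtain ⟨F, hF, hφ⟩ := hφy u
    obtain ⟨hsq, hR, hK⟩ := b_mul_aeval_range (a := a) hb.1.1 F
    have : φ (yL u) = uni (b * aeval (a * b) F) := by ext1; rw [hφ, coe_uni hsq]
    rw [this]
    refine uni_mem_grp ⟨⟨hsq, fun t => ?_⟩, hR, hK⟩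
    obtain ⟨F', hF', hφ'⟩ := hφy (algebraMap k (AdjoinRoot p) t * u)
    have e : b * aeval (a * b) F' = t • (b * aeval (a * b) F) := by
      rw [hyB (F' := C t * F), map_mul, aeval_C, Algebra.algebraMap_eq_smul_one, smul_mul_assoc, one_mul,
        mul_smul_comm]
      rw [← AdjoinRoot.mk_eq_zero, map_sub, hF', map_mul, hF, AdjoinRoot.mk_C, ← AdjoinRoot.algebraMap_eq,
        sub_self]
    have : φ (yL (algebraMap k (AdjoinRoot p) t * u)) = uni (t • (b * aeval (a * b) F)) := by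
      ext1; rw [hφ', e, coe_uni (smul_sq hsq t)]
    exact this ▸ hmemG _
  refine ⟨p, hp, (Cfsg.upperUnipotentSL2 _).map φ, (Cfsg.lowerUnipotentSL2 _).map φ, ?_, ?_, ?_,
    φ, ?_, by rw [(MonoidHom.ker_eq_bot_iff φ).mpr hinj]; exact bot_le, rfl, rfl⟩
  · rw [Subgroup.map_le_iff_le_comap, Cfsg.upperUnipotentSL2, Subgroup.closure_le]
    intro g hg
    obtain ⟨h10, h00, h11⟩ := hg
    have e : g = xU (g.1 0 1) := by ext i j; fin_cases i <;> fin_cases j <;> simp [coe_xU, h10, h00, h11]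
    rw [SetLike.mem_coe, Subgroup.mem_comap, e]
    exact hx _
  · rw [Subgroup.map_le_iff_le_comap, Cfsg.lowerUnipotentSL2, Subgroup.closure_le]
    intro g hg
    obtain ⟨h01, h00, h11⟩ := hg
    have e : g = yL (g.1 1 0) := by ext i j; fin_cases i <;> fin_cases j <;> simp [coe_yL, h01, h00, h11]
    rw [SetLike.mem_coe, Subgroup.mem_comap, e]
    exact hy _
  · exact (three_lt_card h2 h3).trans_le
      (ENat.card_le_card_of_injective (algebraMap k (AdjoinRoot p)).injective)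
  · refine le_antisymm (hrange ▸ ?_) (sup_le (Subgroup.map_le_range _ _) (Subgroup.map_le_range _ _))
    rw [pairGrp, Subgroup.closure_le]
    rintro _ (⟨c, rfl⟩ | ⟨c, rfl⟩)
    · refine Subgroup.mem_sup_left ⟨xU (algebraMap k (AdjoinRoot p) c * AdjoinRoot.root p),
        Subgroup.subset_closure (by simp [coe_xU]), ?_⟩
      obtain ⟨F, hF, hφ⟩ := hφx (algebraMap k (AdjoinRoot p) c * AdjoinRoot.root p)
      ext1
      rw [hφ, coe_uni (smul_sq ha.1.1 c), hxA (F' := C c), aeval_C, Algebra.algebraMap_eq_smul_one,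
        smul_mul_assoc, one_mul]
      rw [← AdjoinRoot.mk_eq_zero, mul_sub, map_sub, hF, map_mul, AdjoinRoot.mk_X, AdjoinRoot.mk_C,
        ← AdjoinRoot.algebraMap_eq, mul_comm, sub_self]
    · refine Subgroup.mem_sup_right ⟨yL (algebraMap k (AdjoinRoot p) c),
        Subgroup.subset_closure (by simp [coe_yL]), ?_⟩
      obtain ⟨F, hF, hφ⟩ := hφy (algebraMap k (AdjoinRoot p) c)
      ext1
      rw [hφ, coe_uni (smul_sq hb.1.1 c), hyB (F' := C c), aeval_C, Algebra.algebraMap_eq_smul_one,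
        mul_smul_comm, mul_one]
      rw [← AdjoinRoot.mk_eq_zero, map_sub, hF, AdjoinRoot.mk_C, ← AdjoinRoot.algebraMap_eq, sub_self]

end Cfsg.Agent.Lib.QuadPair
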