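import Cfsg.Agent.Lib.QuadPair.Decomp

/-!
A group generated by quadratic elements as a central product of quasisimple groups.
-/

namespace Cfsg.Agent.Lib.QuadPair

open Cfsg.Agent.Lib.RootSub
open scoped commutatorElement

variable {k : Type*} [Field k] {M : Type*} [AddCommGroup M] [Module k M] [FiniteDimensional k M]
variable {G : Subgroup (LinearMap.GeneralLinearGroup k M)}

local notation "GLM" => LinearMap.GeneralLinearGroup k M
local notation "ND" => M →ₗ[k] M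

theorem comp_quasisimple (h2 : (2 : k) ≠ 0) (h3 : Nat.card k ≠ 3) (hG : Amb G) {A₀ : Subgroup GLM}
    (hA₀ : A₀ ∈ Cfsg.quadraticRootSubgroups G) : Cfsg.IsQuasisimple ↥(compGrp G A₀) := by
  have hm : ∀ A ∈ comp G A₀, (A.subgroupOf (compGrp G A₀)).map (compGrp G A₀).subtype = A := fun A hA => by
    rw [Subgroup.subgroupOf_map_subtype, inf_eq_left.mpr (le_compGrp hA)]
  have hpair : ∀ A ∈ comp G A₀, ∀ B ∈ comp G A₀,
      ⁅A, B⁆ = ⊥ ∨ Cfsg.IsRankOnePair A B ∨ Cfsg.RootCommutatorCase (comp G A₀) A B := by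
    intro A hA B hB
    by_cases hb : ⁅A, B⁆ = ⊥
    · exact Or.inl hb
    by_cases hp : Cfsg.IsRankOnePair A B
    · exact Or.inr (Or.inl hp)
    obtain ⟨-, h⟩ := ((sigma_pair h2 h3 hG hA.1 hB.1).resolve_left hb).resolve_left hp
    exact Or.inr (Or.inr ⟨comp_eq hA ▸ (comp_ne_commute h2 h3 hG hA.1 hB.1 hb).2 hp, h⟩)
  have hS := isRootSubgroupSet_subgroupOf (S := comp G A₀) (K := compGrp G A₀) rfl
    (fun A hA => sigma_commutative hA.1) (fun A hA => sigma_ne_bot hA.1)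
    (fun A hA g hg => comp_stable hg A hA) hpair
  have hcl : Cfsg.IsConjClassOfSubgroups
      ((fun A : Subgroup GLM => A.subgroupOf (compGrp G A₀)) '' comp G A₀) := by
    refine ⟨⟨_, A₀, self_mem_comp hA₀, rfl⟩, ?_⟩
    rintro _ ⟨A, hA, rfl⟩ _ ⟨B, hB, rfl⟩
    obtain ⟨g, hg, e⟩ := comp_conjugate (G := G) (A := A) (B := B) (comp_eq hA ▸ hB)
    refine ⟨⟨g, by have := hg; rwa [show compGrp G A = compGrp G A₀ by rw [compGrp, compGrp, comp_eq hA]] at this⟩, ?_⟩
    refine Subgroup.map_injective (compGrp G A₀).subtype_injective ?_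
    rw [map_conjBy, hm A hA, hm B hB, ← e]
    rfl
  refine isQuasisimple_of_fix hS hcl ?_ ?_ ?_ (fun N _ _ hkill => fix_of_normal h2 h3 hG rfl N hkill)
  · rintro _ ⟨A, hA, rfl⟩
    obtain ⟨B, hB, h⟩ := exists_partner h2 h3 hG hA.1
    have hB' : B ∈ comp G A₀ := ⟨hB, hA.2.tail ⟨hA.1, hB, h⟩⟩
    refine ⟨_, ⟨B, hB', rfl⟩, (isRankOnePair_map_iff (compGrp G A₀).subtype_injective).mp ?_⟩
    rwa [hm A hA, hm B hB']
  · rintro _ ⟨A, hA, rfl⟩
    exact (card_root h2 h3 hA.1).trans_le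
      (ENat.card_congr (Subgroup.subgroupOfEquivOfLe (le_compGrp hA)).toEquiv).ge
  · rintro _ ⟨A, hA, rfl⟩ _ ⟨⟨B, hB, rfl⟩, hp⟩
    refine isSpecialRankOnePair_of_map (compGrp G A₀).subtype_injective ?_
    rw [← isRankOnePair_map_iff (compGrp G A₀).subtype_injective, hm A hA, hm B hB] at hp
    rw [hm A hA, hm B hB]
    obtain ⟨a, ha, rfl⟩ := mem_sigma.mp hA.1
    obtain ⟨b, hb, rfl⟩ := mem_sigma.mp hB.1
    exact isSpecial_of_opp h2 h3 ha hb (opp_of_pair h2 h3 hG ha hb hp)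

theorem Cen.smul {δ : ND} (h : Cen G δ) (c : k) : Cen G (c • δ) := fun x hx => by
  rw [smul_mul_assoc, mul_smul_comm, h x hx]

/-- The conclusion of the splitting theorem for one group. -/
def Splits (G : Subgroup GLM) : Prop :=
  ∃ 𝒢 : Set (Subgroup GLM), 𝒢.Finite ∧
    (∀ X ∈ 𝒢, X ≤ G ∧ (∀ g ∈ G, Cfsg.conjBy X g ≤ X) ∧ Cfsg.IsQuasisimple ↥X ∧
      Subgroup.closure (Cfsg.quadraticElements G ∩ (X : Set GLM)) = X) ∧
    (∀ X ∈ 𝒢, ∀ Y ∈ 𝒢, X ≠ Y → ⁅X, Y⁆ = ⊥) ∧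
    ∀ σ ∈ Cfsg.quadraticElements G, ∃ X ∈ 𝒢, σ ∈ X

theorem compGrp_generated {A : Subgroup GLM} :
    Subgroup.closure (Cfsg.quadraticElements G ∩ (compGrp G A : Set GLM)) = compGrp G A := by
  refine le_antisymm ((Subgroup.closure_le _).mpr Set.inter_subset_right) (iSup₂_le fun B hB x hx => ?_)
  obtain ⟨b, hb, rfl⟩ := mem_sigma.mp hB.1
  obtain ⟨c, hc, rfl⟩ := (mem_root_iff hb).mp hx
  by_cases h0 : c = 0
  · rw [h0, uni_zero]; exact one_mem _
  refine Subgroup.subset_closure ⟨mem_quadraticElements_iff.mpr ?_, le_compGrp hB hx⟩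
  rw [coe_uni hc.1.1, add_sub_cancel_left]
  exact ⟨hc.1, h0⟩

theorem exists_isMin (h : ∃ δ : ND, InL G δ ∧ δ ≠ 0) : ∃ a : ND, IsMin G a := by
  classical
  have hex : ∃ n, ∃ δ : ND, InL G δ ∧ δ ≠ 0 ∧ Module.finrank k (LinearMap.range δ) = n := by
    obtain ⟨δ, h1, h2⟩ := h
    exact ⟨_, δ, h1, h2, rfl⟩
  obtain ⟨a, h1, h2, h3⟩ := Nat.find_spec hex
  exact ⟨a, h1, h2, fun b hb hb0 => h3 ▸ Nat.find_le ⟨b, hb, hb0, rfl⟩⟩

theorem split (h2 : (2 : k) ≠ 0) (h3 : Nat.card k ≠ 3) : ∀ (m : ℕ) (G : Subgroup GLM), Amb G →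
    Subgroup.closure (Cfsg.quadraticElements G) = G →
    (∀ δ : ND, InL G δ → δ ≠ 0 → Module.finrank k M + 1 ≤ Module.finrank k (LinearMap.range δ) + m) →
    Splits G := by
  intro m
  induction m with
  | zero =>
    intro G _ _ hm
    refine ⟨∅, Set.finite_empty, fun X hX => absurd hX (Set.notMem_empty X),
      fun X hX => absurd hX (Set.notMem_empty X), fun σ hσ => ?_⟩
    obtain ⟨hL, h0⟩ := mem_quadraticElements_iff.mp hσ
    have := hm _ hL h0
    have := Submodule.finrank_le (LinearMap.range ((σ : ND) - 1))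
    omega
  | succ m ih =>
    intro G hG hgen hm
    by_cases hex : ∃ δ : ND, InL G δ ∧ δ ≠ 0
    swap
    · refine ⟨∅, Set.finite_empty, fun X hX => absurd hX (Set.notMem_empty X),
        fun X hX => absurd hX (Set.notMem_empty X), fun σ hσ => ?_⟩
      exact absurd ⟨_, mem_quadraticElements_iff.mp hσ⟩ hex
    obtain ⟨a, ha⟩ := exists_isMin hex
    let S : Set GLM := {σ | σ ∈ Cfsg.quadraticElements G ∧ Cen G ((σ : ND) - 1)}
    set G' := Subgroup.closure S with hG'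
    have hle : G' ≤ G := (Subgroup.closure_le _).mpr fun σ hσ => hσ.1.1
    have hmem : ∀ {δ : ND}, InL G δ → Cen G δ → ∀ c : k, uni (c • δ) ∈ G' := by
      intro δ hL hc c
      by_cases h0 : c • δ = 0
      · rw [h0, uni_zero]; exact one_mem _
      refine Subgroup.subset_closure ⟨mem_quadraticElements_iff.mpr ?_, ?_⟩
      · rw [coe_uni (smul_sq hL.1 c), add_sub_cancel_left]; exact ⟨hL.smul c, h0⟩
      · rw [coe_uni (smul_sq hL.1 c), add_sub_cancel_left]; exact hc.smul c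
    have hquad : S ⊆ Cfsg.quadraticElements G' := by
      rintro σ ⟨hσ, hc⟩
      obtain ⟨hL, h0⟩ := mem_quadraticElements_iff.mp hσ
      exact mem_quadraticElements_iff.mpr ⟨⟨hL.1, hmem hL hc⟩, h0⟩
    have hcentr : ∀ A ∈ Cfsg.quadraticRootSubgroups G, ∀ g ∈ G', ∀ x ∈ A, g * x = x * g := by
      intro A hA g hg x hx
      have hle' : G' ≤ Subgroup.centralizer {x} := by
        rw [hG', Subgroup.closure_le]
        rintro σ ⟨hσ, hc⟩
        obtain ⟨hL, -⟩ := mem_quadraticElements_iff.mp hσ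
        rw [SetLike.mem_coe, Subgroup.mem_centralizer_singleton_iff, (eq_uni_iff hL.1 : σ = uni _ ↔ _).mpr rfl]
        exact hc.mem_root hL hA hx
      exact Subgroup.mem_centralizer_singleton_iff.mp (hle' hg)
    have hcomp : ∀ A : Subgroup GLM, ∀ g ∈ G', ∀ x ∈ compGrp G A, g * x = x * g := by
      intro A g hg x hx
      have hle' : compGrp G A ≤ Subgroup.centralizer {g} := iSup₂_le fun B hB y hy =>
        Subgroup.mem_centralizer_singleton_iff.mpr (hcentr B hB.1 g hg y hy).symm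
      exact (Subgroup.mem_centralizer_singleton_iff.mp (hle' hx)).symm
    have hact : ∀ g ∈ G, ∃ h ∈ G', ∀ x ∈ G', g * x * g⁻¹ = h * x * h⁻¹ := by
      intro g hg
      rw [← hgen] at hg
      have key : ∀ σ ∈ Cfsg.quadraticElements G, ∃ h ∈ G', ∀ x ∈ G', σ * x * σ⁻¹ = h * x * h⁻¹ := by
        intro σ hσ
        obtain ⟨hL, -⟩ := mem_quadraticElements_iff.mp hσ
        rcases decomp h2 h3 hG hgen hL with h | ⟨A, -, h⟩
        · exact ⟨σ, Subgroup.subset_closure ⟨hσ, h⟩, fun x _ => rfl⟩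
        · refine ⟨1, one_mem _, fun x hx => ?_⟩
          have hσA : σ ∈ compGrp G A := by
            have := h 1
            rwa [one_smul, ← (eq_uni_iff hL.1 : σ = uni _ ↔ _).mpr rfl] at this
          rw [← hcomp A x hx σ hσA]; group
      induction hg using Subgroup.closure_induction'' with
      | mem σ hσ => exact key σ hσ
      | inv_mem σ hσ =>
        obtain ⟨h, hh, he⟩ := key σ hσ
        refine ⟨h⁻¹, inv_mem hh, fun x hx => ?_⟩
        have hx' : h⁻¹ * x * h ∈ G' := mul_mem (mul_mem (inv_mem hh) hx) hh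
        have e := he _ hx'
        rw [show h * (h⁻¹ * x * h) * h⁻¹ = x by group] at e
        conv_lhs => rw [← e]
        group
      | one => exact ⟨1, one_mem _, fun _ _ => rfl⟩
      | mul g₁ g₂ _ _ ih₁ ih₂ =>
        obtain ⟨a₁, ha₁, e₁⟩ := ih₁
        obtain ⟨a₂, ha₂, e₂⟩ := ih₂
        refine ⟨a₁ * a₂, mul_mem ha₁ ha₂, fun x hx => ?_⟩
        calc g₁ * g₂ * x * (g₁ * g₂)⁻¹ = g₁ * (g₂ * x * g₂⁻¹) * g₁⁻¹ := by group
          _ = g₁ * (a₂ * x * a₂⁻¹) * g₁⁻¹ := by rw [e₂ x hx]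
          _ = a₁ * (a₂ * x * a₂⁻¹) * a₁⁻¹ := e₁ _ (mul_mem (mul_mem ha₂ hx) (inv_mem ha₂))
          _ = a₁ * a₂ * x * (a₁ * a₂)⁻¹ := by group
    have hamb : Amb G' := by
      obtain ⟨Γ, hΓ, hΓact⟩ := hG
      refine ⟨Γ, hΓ, fun g hg => ?_⟩
      obtain ⟨g', hg', e⟩ := hΓact g hg
      obtain ⟨h, hh, e'⟩ := hact g' hg'
      exact ⟨h, hh, fun x hx => (e x (hle hx)).trans (e' x hx)⟩
    have hgen' : Subgroup.closure (Cfsg.quadraticElements G') = G' :=
      le_antisymm ((Subgroup.closure_le _).mpr fun σ hσ => hσ.1) (Subgroup.closure_mono hquad)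
    have hbig : ∀ δ : ND, InL G' δ → δ ≠ 0 →
        Module.finrank k M + 1 ≤ Module.finrank k (LinearMap.range δ) + m := by
      intro δ hδ hδ0
      have hδG : InL G δ := ⟨hδ.1, fun c => hle (hδ.2 c)⟩
      have h1 := hm a ha.1 ha.2.1
      have h1' := ha.2.2 δ hδG hδ0
      rcases Nat.lt_or_ge (Module.finrank k (LinearMap.range a)) (Module.finrank k (LinearMap.range δ)) with hlt | hge
      · omega
      exfalso
      have hδm : IsMin G δ := ⟨hδG, hδ0, fun c hc hc0 => le_trans hge (ha.2.2 c hc hc0)⟩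
      obtain ⟨g, hg, hopp⟩ := exists_opp_conj h2 h3 hG hδm
      have hq := hδm.conj hg
      have hc := hcentr (root G _) (mem_sigma.mpr ⟨_, hq, rfl⟩) _ hδ.uni_mem _ (uni_self_mem_root hq.1)
      rw [commute_uni_iff hδ.1 hq.1.1] at hc
      refine (opp_iff h2 h3 hδm hq).mp hopp ⟨?_, ?_⟩
      · rw [hc, mul_assoc, hδ.1, mul_zero]
      · rw [← hc, mul_assoc, hq.1.1, mul_zero]
    obtain ⟨𝒢, hfin, hX, hXY, hcov⟩ := ih G' hamb hgen' hbig
    let 𝒞 : Set (Subgroup GLM) := compGrp G '' Cfsg.quadraticRootSubgroups G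
    have hCfin : 𝒞.Finite := by
      have : 𝒞 = (fun s : Set (Subgroup GLM) => ⨆ B ∈ s, B) '' (comp G '' Cfsg.quadraticRootSubgroups G) := by
        rw [Set.image_image]
      rw [this]
      exact (comp_finite h2 h3 hG).image _
    refine ⟨𝒞 ∪ 𝒢, hCfin.union hfin, ?_, ?_, ?_⟩
    · rintro X (⟨A, hA, rfl⟩ | hXm)
      · exact ⟨comp_le, comp_normal_all h2 h3 hG hgen hA, comp_quasisimple h2 h3 hG hA, compGrp_generated⟩
      · obtain ⟨x1, x2, x3, x4⟩ := hX X hXm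
        refine ⟨x1.trans hle, fun g hg => ?_, x3, le_antisymm ((Subgroup.closure_le _).mpr Set.inter_subset_right) ?_⟩
        · obtain ⟨h, hh, e⟩ := hact g hg
          rintro _ ⟨x, hx, rfl⟩
          change g * x * g⁻¹ ∈ X
          rw [e x (x1 hx)]
          exact x2 h hh (conj_mem_conjBy hx)
        · conv_lhs => rw [← x4]
          refine Subgroup.closure_mono (Set.inter_subset_inter_left _ fun σ hσ => ?_)
          obtain ⟨hL, h0⟩ := mem_quadraticElements_iff.mp hσ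
          exact mem_quadraticElements_iff.mpr ⟨⟨hL.1, fun c => hle (hL.2 c)⟩, h0⟩
    · have hcg : ∀ A : Subgroup GLM, ∀ Y ∈ 𝒢, ⁅compGrp G A, Y⁆ = ⊥ := fun A Y hY => by
        rw [Subgroup.commutator_eq_bot_iff_le_centralizer]
        intro x hx
        rw [Subgroup.mem_centralizer_iff]
        exact fun y hy => hcomp A y ((hX Y hY).1 hy) x hx
      rintro X (⟨A, hA, rfl⟩ | hXm) Y (⟨B, hB, rfl⟩ | hYm) hne
      · exact comp_commute h2 h3 hG fun e => hne (by rw [compGrp, compGrp, e])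
      · exact hcg A Y hYm
      · rw [Subgroup.commutator_comm]; exact hcg B X hXm
      · exact hXY X hXm Y hYm hne
    · intro σ hσ
      obtain ⟨hL, -⟩ := mem_quadraticElements_iff.mp hσ
      rcases decomp h2 h3 hG hgen hL with h | ⟨A, hA, h⟩
      · obtain ⟨X, hXm, hσX⟩ := hcov σ (hquad ⟨hσ, h⟩)
        exact ⟨X, Or.inr hXm, hσX⟩
      · refine ⟨_, Or.inl ⟨A, hA, rfl⟩, ?_⟩
        have := h 1
        rwa [one_smul, ← (eq_uni_iff hL.1 : σ = uni _ ↔ _).mpr rfl] at this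

end Cfsg.Agent.Lib.QuadPair
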